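import Groth.Prelude.Def_ModSite2
import Mathlib.CategoryTheory.Abelian.GrothendieckAxioms.Sheaf
import Mathlib.Algebra.Category.Grp.AB

/-!
# Basic exactness API for sheaves of modules on a small ringed site (helper94)

Namespace `Groth.Agent.Lib.Helper94.ModSiteBasic`.

* `toSheaf_preservesColimitsOfSize`, `toSheaf_preservesFiniteColimits`: the forgetful functor
  `SheafOfModules R ⥤ Sheaf J Ab` preserves colimits (same proof as helper18's
  `Groth.Agent.Lib.QCoh.toSheaf_preservesColimitsOfSize`, restated here to keep imports light).
* `presheafExact`: filtered colimits are exact in `PresheafOfModules R`.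
* `stalkFunctorAb p O : Mod O ⥤ Ab` (`toSheaf ⋙ sheafFiber`), which is exact.
-/

universe u

open CategoryTheory CategoryTheory.Limits Opposite

namespace Groth.Agent.Lib.Helper94.ModSiteBasic

variable {C : Type u} [SmallCategory C] {J : GrothendieckTopology C}

/-- The forgetful functor from sheaves of modules to abelian sheaves preserves colimits. -/
theorem toSheaf_preservesColimitsOfSize (R : Sheaf J RingCat.{u}) :
    PreservesColimitsOfSize.{u, u} (SheafOfModules.toSheaf.{u} R) := by
  constructor
  intro K _
  constructor
  intro F
  let L := PresheafOfModules.sheafification.{u} (𝟙 R.obj)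
  let G : K ⥤ PresheafOfModules.{u} R.obj := F ⋙ SheafOfModules.forget R
  let e : F ≅ G ⋙ L :=
    Functor.isoWhiskerLeft F
      (asIso (PresheafOfModules.sheafificationAdjunction (𝟙 R.obj)).counit).symm
  have h1 : PreservesColimit G (L ⋙ SheafOfModules.toSheaf.{u} R) := by
    have : PreservesColimit G
        (PresheafOfModules.toPresheaf R.obj ⋙ presheafToSheaf J AddCommGrpCat.{u}) := inferInstance
    exact preservesColimit_of_natIso G
      (PresheafOfModules.sheafificationCompToSheaf.{u} (𝟙 R.obj)).symm
  have h2 : PreservesColimit (G ⋙ L) (SheafOfModules.toSheaf.{u} R) := by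
    refine preservesColimit_of_preserves_colimit_cocone
      (isColimitOfPreserves L (colimit.isColimit G)) ?_
    exact isColimitOfPreserves (L ⋙ SheafOfModules.toSheaf.{u} R) (colimit.isColimit G)
  exact preservesColimit_of_iso_diagram _ e.symm

theorem toSheaf_preservesFiniteColimits (R : Sheaf J RingCat.{u}) :
    PreservesFiniteColimits (SheafOfModules.toSheaf.{u} R) :=
  haveI := toSheaf_preservesColimitsOfSize R
  PreservesColimitsOfSize.preservesFiniteColimits _

/-- Filtered colimits are exact in presheaves of modules. -/
theorem presheafExact (R : Cᵒᵖ ⥤ RingCat.{u})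
    (Λ : Type u) [SmallCategory Λ] [IsFiltered Λ] :
    HasExactColimitsOfShape Λ (PresheafOfModules.{u} R) := by
  have : ReflectsFiniteLimits (PresheafOfModules.toPresheaf R) :=
    ⟨fun K _ _ => reflectsLimitsOfShape_of_reflectsIsomorphisms⟩
  exact HasExactColimitsOfShape.domain_of_functor Λ (PresheafOfModules.toPresheaf R)

/-- The stalk functor on modules with values in abelian groups. -/
noncomputable abbrev stalkFunctorAb (p : GrothendieckTopology.Point.{u} J)
    (O : Sheaf J CommRingCat.{u}) : ModSite.Mod O ⥤ AddCommGrpCat.{u} :=
  SheafOfModules.toSheaf (ModSite.ringSh O) ⋙ p.sheafFiber (A := AddCommGrpCat.{u})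

instance (p : GrothendieckTopology.Point.{u} J) (O : Sheaf J CommRingCat.{u}) :
    PreservesFiniteLimits (stalkFunctorAb p O) :=
  comp_preservesFiniteLimits _ _

instance (p : GrothendieckTopology.Point.{u} J) (O : Sheaf J CommRingCat.{u}) :
    PreservesFiniteColimits (stalkFunctorAb p O) :=
  haveI := toSheaf_preservesFiniteColimits (ModSite.ringSh O)
  comp_preservesFiniteColimits _ _

end Groth.Agent.Lib.Helper94.ModSiteBasic
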