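import Mathlib.Algebra.Homology.HomotopyCategory.ShortExact
import Mathlib.Algebra.Homology.HomotopyCategory.Pretriangulated
import Mathlib.Algebra.Homology.HomologicalComplexAbelian
import Mathlib.Algebra.Homology.Linear
import Mathlib.Algebra.Homology.ShortComplex.ModuleCat
import Mathlib.Algebra.Category.ModuleCat.Abelian
import Mathlib.RingTheory.Regular.RegularSequence
import Mathlib.Algebra.Homology.SingleHomology

/-!
# Iterated mapping cones of multiplication maps (Koszul complexes, mapping-cone model)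

`kz X fs` : iterated cones of `f • 𝟙` on a cochain complex `X` of `A`-modules.
Main result: if `fs` is weakly regular on `M`, then `kz (M[0]) fs` is acyclic outside degree `0`
with `H^0 ≅ M / (fs) M`.
-/

set_option autoImplicit false
universe u
open CategoryTheory CategoryTheory.Limits CochainComplex HomologicalComplex
open scoped Pointwise

namespace Groth.Agent.Lib.Helper94.KoszulReg

variable {A : Type u} [CommRing A]

/-- iterated cones of multiplication maps -/
noncomputable def kz (X : CochainComplex (ModuleCat.{u} A) ℤ) :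
    List A → CochainComplex (ModuleCat.{u} A) ℤ
  | [] => X
  | f :: fs => mappingCone (f • 𝟙 (kz X fs))

/-- functoriality of `kz` in the base complex -/
noncomputable def kmap {X Y : CochainComplex (ModuleCat.{u} A) ℤ} (p : X ⟶ Y) :
    ∀ fs : List A, kz X fs ⟶ kz Y fs
  | [] => p
  | f :: fs => mappingCone.map (f • 𝟙 (kz X fs)) (f • 𝟙 (kz Y fs)) (kmap p fs) (kmap p fs)
      (by simp [Linear.smul_comp, Linear.comp_smul])

section cone

variable {F G : CochainComplex (ModuleCat.{u} A) ℤ} (φ : F ⟶ G) (n : ℤ)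

lemma fst_inl (u : F.X (n + 1)) :
    ((mappingCone.fst φ).1.v n (n + 1) rfl).hom
      (((mappingCone.inl φ).v (n + 1) n (by omega)).hom u) = u := by
  have h := congrArg (fun k => k.hom u) (mappingCone.inl_v_fst_v φ (n + 1) n rfl)
  simpa only [ModuleCat.hom_comp, LinearMap.comp_apply, ModuleCat.hom_id, LinearMap.id_apply] using h

lemma snd_inl (u : F.X (n + 1)) :
    ((mappingCone.snd φ).v n n (add_zero n)).hom
      (((mappingCone.inl φ).v (n + 1) n (by omega)).hom u) = 0 := by
  have h := congrArg (fun k => k.hom u) (mappingCone.inl_v_snd_v φ (n + 1) n (by omega))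
  simpa only [ModuleCat.hom_comp, LinearMap.comp_apply, ModuleCat.hom_zero, LinearMap.zero_apply] using h

lemma fst_inr (v : G.X n) :
    ((mappingCone.fst φ).1.v n (n + 1) rfl).hom (((mappingCone.inr φ).f n).hom v) = 0 := by
  have h := congrArg (fun k => k.hom v) (mappingCone.inr_f_fst_v φ n (n + 1) rfl)
  simpa only [ModuleCat.hom_comp, LinearMap.comp_apply, ModuleCat.hom_zero, LinearMap.zero_apply] using h

lemma snd_inr (v : G.X n) :
    ((mappingCone.snd φ).v n n (add_zero n)).hom (((mappingCone.inr φ).f n).hom v) = v := by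
  have h := congrArg (fun k => k.hom v) (mappingCone.inr_f_snd_v φ n)
  simpa only [ModuleCat.hom_comp, LinearMap.comp_apply, ModuleCat.hom_id, LinearMap.id_apply] using h

lemma decomp (x : (mappingCone φ).X n) :
    ((mappingCone.inl φ).v (n + 1) n (by omega)).hom
        (((mappingCone.fst φ).1.v n (n + 1) rfl).hom x) +
      ((mappingCone.inr φ).f n).hom (((mappingCone.snd φ).v n n (add_zero n)).hom x) = x := by
  have h := congrArg (fun k => k.hom x) (mappingCone.id_X φ n (n + 1) rfl)
  simpa using h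

/-- the degree `n` part of a cone is a product -/
noncomputable def coneEquiv : (mappingCone φ).X n ≃ₗ[A] (F.X (n + 1)) × (G.X n) where
  toFun x := (((mappingCone.fst φ).1.v n (n + 1) rfl).hom x,
    ((mappingCone.snd φ).v n n (add_zero n)).hom x)
  map_add' x y := by simp
  map_smul' r x := by simp
  invFun p := ((mappingCone.inl φ).v (n + 1) n (by omega)).hom p.1 +
    ((mappingCone.inr φ).f n).hom p.2
  left_inv x := decomp φ n x
  right_inv p := by
    ext
    · simp [fst_inl, fst_inr]
    · simp [snd_inl, snd_inr]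

lemma coneEquiv_fst (x : (mappingCone φ).X n) :
    (coneEquiv φ n x).1 = ((mappingCone.fst φ).1.v n (n + 1) rfl).hom x := rfl

lemma coneEquiv_snd (x : (mappingCone φ).X n) :
    (coneEquiv φ n x).2 = ((mappingCone.snd φ).v n n (add_zero n)).hom x := rfl

lemma coneEquiv_symm_apply (p : (F.X (n + 1)) × (G.X n)) :
    (coneEquiv φ n).symm p = ((mappingCone.inl φ).v (n + 1) n (by omega)).hom p.1 +
      ((mappingCone.inr φ).f n).hom p.2 := rfl

end cone

section map

variable {F₁ G₁ F₂ G₂ : CochainComplex (ModuleCat.{u} A) ℤ} (φ₁ : F₁ ⟶ G₁) (φ₂ : F₂ ⟶ G₂)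
  (a : F₁ ⟶ F₂) (b : G₁ ⟶ G₂) (comm : φ₁ ≫ b = a ≫ φ₂) (n : ℤ)

lemma map_f_fst :
    (mappingCone.map φ₁ φ₂ a b comm).f n ≫ (mappingCone.fst φ₂).1.v n (n + 1) rfl =
      (mappingCone.fst φ₁).1.v n (n + 1) rfl ≫ a.f (n + 1) := by
  simp [mappingCone.map, mappingCone.ext_from_iff _ (n + 1) n rfl]

lemma map_f_snd :
    (mappingCone.map φ₁ φ₂ a b comm).f n ≫ (mappingCone.snd φ₂).v n n (add_zero n) =
      (mappingCone.snd φ₁).v n n (add_zero n) ≫ b.f n := by
  simp [mappingCone.map, mappingCone.ext_from_iff _ (n + 1) n rfl]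

lemma coneEquiv_map (x : (mappingCone φ₁).X n) :
    coneEquiv φ₂ n (((mappingCone.map φ₁ φ₂ a b comm).f n).hom x) =
      ((a.f (n + 1)).hom (coneEquiv φ₁ n x).1, (b.f n).hom (coneEquiv φ₁ n x).2) := by
  ext
  · have h := congrArg (fun k => k.hom x) (map_f_fst φ₁ φ₂ a b comm n)
    simp only [ModuleCat.hom_comp, LinearMap.comp_apply] at h
    rw [coneEquiv_fst, coneEquiv_fst]
    exact h
  · have h := congrArg (fun k => k.hom x) (map_f_snd φ₁ φ₂ a b comm n)
    simp only [ModuleCat.hom_comp, LinearMap.comp_apply] at h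
    rw [coneEquiv_snd, coneEquiv_snd]
    exact h

end map

section degExact

lemma smul_id_hom_apply (r : A) (M : ModuleCat.{u} A) (x : M) :
    (r • 𝟙 M : M ⟶ M).hom x = r • x := by
  rw [ModuleCat.hom_smul, ModuleCat.hom_id]
  rfl

/-- `X --f•--> X --p--> Y` is degreewise short exact (elementwise form) -/
def DegExact (f : A) {X Y : CochainComplex (ModuleCat.{u} A) ℤ} (p : X ⟶ Y) : Prop :=
  ∀ n : ℤ, (∀ x : X.X n, f • x = 0 → x = 0) ∧ Function.Surjective (p.f n).hom ∧
    ∀ x : X.X n, (p.f n).hom x = 0 ↔ ∃ x' : X.X n, f • x' = x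

variable (f : A) {X Y : CochainComplex (ModuleCat.{u} A) ℤ}

lemma degExact_cone (q : X ⟶ Y) (g : A)
    (comm : (g • 𝟙 X) ≫ q = q ≫ (g • 𝟙 Y)) (h : DegExact f q) :
    DegExact f (mappingCone.map (g • 𝟙 X) (g • 𝟙 Y) q q comm) := by
  intro n
  have hm := coneEquiv_map (g • 𝟙 X) (g • 𝟙 Y) q q comm n
  refine ⟨?_, ?_, ?_⟩
  · intro x hx
    have h0 : coneEquiv (g • 𝟙 X) n (f • x) = 0 := by rw [hx, map_zero]
    rw [map_smul] at h0
    have h1 := (h (n + 1)).1 _ (congrArg Prod.fst h0)
    have h2 := (h n).1 _ (congrArg Prod.snd h0)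
    have : coneEquiv (g • 𝟙 X) n x = 0 := Prod.ext h1 h2
    exact (LinearEquiv.map_eq_zero_iff _).1 this
  · intro y
    obtain ⟨u, hu⟩ := (h (n + 1)).2.1 (coneEquiv (g • 𝟙 Y) n y).1
    obtain ⟨v, hv⟩ := (h n).2.1 (coneEquiv (g • 𝟙 Y) n y).2
    refine ⟨(coneEquiv (g • 𝟙 X) n).symm (u, v), ?_⟩
    apply (coneEquiv (g • 𝟙 Y) n).injective
    rw [hm, LinearEquiv.apply_symm_apply]
    exact Prod.ext hu hv
  · intro x
    rw [← LinearEquiv.map_eq_zero_iff (coneEquiv (g • 𝟙 Y) n), hm]
    constructor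
    · intro h0
      obtain ⟨u, hu⟩ := ((h (n + 1)).2.2 _).1 (congrArg Prod.fst h0)
      obtain ⟨v, hv⟩ := ((h n).2.2 _).1 (congrArg Prod.snd h0)
      refine ⟨(coneEquiv (g • 𝟙 X) n).symm (u, v), ?_⟩
      apply (coneEquiv (g • 𝟙 X) n).injective
      rw [map_smul, LinearEquiv.apply_symm_apply]
      exact Prod.ext hu hv
    · rintro ⟨x', rfl⟩
      rw [map_smul]
      exact Prod.ext (((h (n + 1)).2.2 _).2 ⟨_, rfl⟩) (((h n).2.2 _).2 ⟨_, rfl⟩)

lemma degExact_kmap (p : X ⟶ Y) (h : DegExact f p) : ∀ fs : List A, DegExact f (kmap p fs)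
  | [] => h
  | g :: fs => degExact_cone f (kmap p fs) g _ (degExact_kmap p h fs)

variable {f}

lemma DegExact.zero {p : X ⟶ Y} (h : DegExact f p) : (f • 𝟙 X) ≫ p = 0 := by
  ext n : 1
  apply ModuleCat.hom_ext
  apply LinearMap.ext
  intro x
  have := ((h n).2.2 (f • x)).2 ⟨x, rfl⟩
  simpa using this

/-- the short complex `X --f•--> X --p--> Y` -/
noncomputable def DegExact.shortComplex {p : X ⟶ Y} (h : DegExact f p) :
    ShortComplex (CochainComplex (ModuleCat.{u} A) ℤ) :=
  ShortComplex.mk (f • 𝟙 X) p h.zero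

lemma DegExact.shortExact {p : X ⟶ Y} (h : DegExact f p) : h.shortComplex.ShortExact := by
  apply HomologicalComplex.shortExact_of_degreewise_shortExact
  intro n
  refine { exact := ?_, mono_f := ?_, epi_g := ?_ }
  · rw [ShortComplex.moduleCat_exact_iff]
    intro x hx
    obtain ⟨x', hx'⟩ := ((h n).2.2 x).1 hx
    refine ⟨x', ?_⟩
    change (f • 𝟙 (X.X n) : X.X n ⟶ X.X n).hom x' = x
    rw [smul_id_hom_apply]
    exact hx'
  · rw [ModuleCat.mono_iff_injective]
    change Function.Injective (f • 𝟙 (X.X n) : X.X n ⟶ X.X n).hom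
    intro x y hxy
    have : f • (x - y) = 0 := by
      have h1 : f • x = f • y := by
        rwa [smul_id_hom_apply, smul_id_hom_apply] at hxy
      rw [smul_sub, h1, sub_self]
    exact sub_eq_zero.1 ((h n).1 _ this)
  · rw [ModuleCat.epi_iff_surjective]
    exact (h n).2.1

/-- the quasi-isomorphism `cone(f • 𝟙 X) ⟶ Y` -/
noncomputable def DegExact.desc {p : X ⟶ Y} (h : DegExact f p) :
    mappingCone (f • 𝟙 X) ⟶ Y :=
  mappingCone.descShortComplex h.shortComplex

lemma DegExact.quasiIso_desc {p : X ⟶ Y} (h : DegExact f p) : QuasiIso h.desc :=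
  mappingCone.quasiIso_descShortComplex h.shortExact

end degExact

section main

variable (A)

/-- a module placed in degree zero -/
noncomputable abbrev sg (M : ModuleCat.{u} A) : CochainComplex (ModuleCat.{u} A) ℤ :=
  (HomologicalComplex.single (ModuleCat.{u} A) (ComplexShape.up ℤ) 0).obj M

variable {A}

lemma degExact_single (f : A) (M : Type u) [AddCommGroup M] [Module A M]
    (hf : IsSMulRegular M f) :
    DegExact f ((HomologicalComplex.single (ModuleCat.{u} A) (ComplexShape.up ℤ) 0).map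
      (ModuleCat.ofHom (Submodule.mkQ (f • ⊤ : Submodule A M)))) := by
  intro n
  by_cases hn : n = 0
  · subst hn
    let e := (HomologicalComplex.singleObjXSelf (ComplexShape.up ℤ) 0 (ModuleCat.of A M)).toLinearEquiv
    let e' := (HomologicalComplex.singleObjXSelf (ComplexShape.up ℤ) 0
      (ModuleCat.of A (M ⧸ (f • ⊤ : Submodule A M)))).toLinearEquiv
    have key : ∀ x, e' ((((HomologicalComplex.single (ModuleCat.{u} A) (ComplexShape.up ℤ) 0).map
        (ModuleCat.ofHom (Submodule.mkQ (f • ⊤ : Submodule A M)))).f 0).hom x) =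
        Submodule.mkQ (f • ⊤ : Submodule A M) (e x) := by
      intro x
      rw [HomologicalComplex.single_map_f_self]
      simp only [ModuleCat.hom_comp, LinearMap.comp_apply]
      exact e'.apply_symm_apply _
    refine ⟨?_, ?_, ?_⟩
    · intro x hx
      have h1 : f • e x = 0 := by rw [← map_smul, hx, map_zero]
      have h2 : e x = 0 := hf (by simpa using h1)
      exact (LinearEquiv.map_eq_zero_iff e).1 h2
    · intro y
      obtain ⟨m, hm⟩ := Submodule.mkQ_surjective (f • ⊤ : Submodule A M) (e' y)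
      refine ⟨e.symm m, ?_⟩
      apply e'.injective
      rw [key, LinearEquiv.apply_symm_apply, hm]
    · intro x
      rw [← LinearEquiv.map_eq_zero_iff e', key, Submodule.mkQ_apply,
        Submodule.Quotient.mk_eq_zero, Submodule.mem_smul_pointwise_iff_exists]
      constructor
      · rintro ⟨m, -, hm⟩
        refine ⟨e.symm m, ?_⟩
        apply e.injective
        rw [map_smul, LinearEquiv.apply_symm_apply, hm]
      · rintro ⟨x', rfl⟩
        exact ⟨e x', Submodule.mem_top, (map_smul e f x').symm⟩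
  · have h1 : Subsingleton ((sg A (ModuleCat.of A M)).X n) :=
      ModuleCat.subsingleton_of_isZero (HomologicalComplex.isZero_single_obj_X _ _ _ _ hn)
    have h2 : Subsingleton ((sg A (ModuleCat.of A (M ⧸ (f • ⊤ : Submodule A M)))).X n) :=
      ModuleCat.subsingleton_of_isZero (HomologicalComplex.isZero_single_obj_X _ _ _ _ hn)
    refine ⟨fun x _ => Subsingleton.elim _ _, fun y => ⟨0, Subsingleton.elim _ _⟩, fun x => ?_⟩
    exact ⟨fun _ => ⟨0, Subsingleton.elim _ _⟩, fun _ => Subsingleton.elim _ _⟩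

open RingTheory.Sequence in
/-- **Regular sequences are Koszul-regular** (mapping cone model, module coefficients). -/
theorem kz_single_of_isWeaklyRegular (fs : List A) :
    ∀ (M : Type u) [AddCommGroup M] [Module A M], IsWeaklyRegular M fs →
      (∀ i : ℤ, i ≠ 0 → IsZero ((kz (sg A (ModuleCat.of A M)) fs).homology i)) ∧
        Nonempty ((kz (sg A (ModuleCat.of A M)) fs).homology 0 ≅
          ModuleCat.of A (M ⧸ (Ideal.ofList fs • ⊤ : Submodule A M))) := by
  induction fs with
  | nil =>
    intro M _ _ _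
    refine ⟨fun i hi => HomologicalComplex.isZero_single_obj_homology _ _ _ _ hi, ⟨?_⟩⟩
    refine HomologicalComplex.singleObjHomologySelfIso _ _ _ ≪≫ ?_
    have h0 : (Ideal.ofList ([] : List A) • ⊤ : Submodule A M) = ⊥ := by
      rw [Ideal.ofList_nil, Submodule.bot_smul]
    exact (Submodule.quotEquivOfEqBot _ h0).symm.toModuleIso
  | cons f fs ih =>
    intro M _ _ h
    rw [isWeaklyRegular_cons_iff] at h
    obtain ⟨hf, hfs⟩ := h
    obtain ⟨ih1, ⟨ih2⟩⟩ := ih (QuotSMulTop f M) hfs
    have hd := degExact_kmap f _ (degExact_single f M hf) fs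
    have hq := hd.quasiIso_desc
    have hiso : ∀ i : ℤ, (kz (sg A (ModuleCat.of A M)) (f :: fs)).homology i ≅
        (kz (sg A (ModuleCat.of A (QuotSMulTop f M))) fs).homology i := fun i =>
      _root_.isoOfQuasiIsoAt hd.desc i
    refine ⟨fun i hi => IsZero.of_iso (ih1 i hi) (hiso i), ⟨?_⟩⟩
    exact hiso 0 ≪≫ ih2 ≪≫
      (Submodule.quotOfListConsSMulTopEquivQuotSMulTopInner M f fs).symm.toModuleIso

end main

end Groth.Agent.Lib.Helper94.KoszulReg
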