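import Mathlib.CategoryTheory.Abelian.Refinements

/-!
# A diagram chase (helper94): the "Tor₁-vanishing" part of the snake lemma

Namespace `Groth.Agent.Lib.Helper94.SnakeMono`.
-/

open CategoryTheory CategoryTheory.Limits Category

namespace Groth.Agent.Lib.Helper94.SnakeMono

variable {𝒜 : Type*} [Category 𝒜] [Abelian 𝒜]

/-- In a commutative diagram
```
 AK --fK--> BK --gK--> CK
 |aι        |bι        |cι
 AP --fP--> BP --gP--> CP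
 |aπ        |bπ
 AG --fG--> BG
```
with exact first row (at `BK`), exact middle column (at `BP`), `aπ` epi, `cι` mono, `fP` mono,
`fP ≫ gP = 0` and `aι ≫ aπ = 0`, the map `fG` is a monomorphism. -/
theorem mono_of_grid {AK BK CK AP BP CP AG BG : 𝒜}
    (fK : AK ⟶ BK) (gK : BK ⟶ CK) (fP : AP ⟶ BP) (gP : BP ⟶ CP) (fG : AG ⟶ BG)
    (aι : AK ⟶ AP) (bι : BK ⟶ BP) (cι : CK ⟶ CP) (aπ : AP ⟶ AG) (bπ : BP ⟶ BG)
    (sq1 : fK ≫ bι = aι ≫ fP) (sq2 : gK ≫ cι = bι ≫ gP) (sq3 : fP ≫ bπ = aπ ≫ fG)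
    (wP : fP ≫ gP = 0) (wa : aι ≫ aπ = 0) (wK : fK ≫ gK = 0) (wb : bι ≫ bπ = 0)
    (hK : (ShortComplex.mk fK gK wK).Exact) (hb : (ShortComplex.mk bι bπ wb).Exact)
    [Epi aπ] [Mono cι] [Mono fP] : Mono fG := by
  rw [Preadditive.mono_iff_cancel_zero]
  intro T z hz
  obtain ⟨T₁, π₁, _, z₁, h₁⟩ := surjective_up_to_refinements_of_epi aπ z
  have hw : (z₁ ≫ fP) ≫ bπ = 0 := by
    rw [assoc, sq3, ← assoc, ← h₁, assoc, hz, comp_zero]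
  obtain ⟨T₂, π₂, _, w', h₂⟩ := hb.exact_up_to_refinements (z₁ ≫ fP) hw
  dsimp at w' h₂
  have hv : (w' ≫ gK) ≫ cι = 0 := by
    rw [assoc, sq2, ← assoc, ← h₂, assoc, assoc, wP, comp_zero, comp_zero]
  have hv' : w' ≫ gK = 0 := by rw [← cancel_mono cι, hv, zero_comp]
  obtain ⟨T₃, π₃, _, u, h₃⟩ := hK.exact_up_to_refinements w' hv'
  dsimp at u h₃
  have h5 : (u ≫ aι) ≫ fP = (π₃ ≫ π₂ ≫ z₁) ≫ fP := by
    rw [assoc, ← sq1, ← assoc, ← h₃, assoc, ← h₂]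
    simp only [assoc]
  have h5' : u ≫ aι = π₃ ≫ π₂ ≫ z₁ := (cancel_mono fP).1 h5
  have h6 : (π₃ ≫ π₂ ≫ π₁) ≫ z = 0 := by
    have : (π₃ ≫ π₂ ≫ π₁) ≫ z = (π₃ ≫ π₂ ≫ z₁) ≫ aπ := by
      simp only [assoc, h₁]
    rw [this, ← h5', assoc, wa, comp_zero]
  have : Epi (π₃ ≫ π₂ ≫ π₁) := epi_comp _ _
  rw [← cancel_epi (π₃ ≫ π₂ ≫ π₁), h6, comp_zero]

end Groth.Agent.Lib.Helper94.SnakeMono
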