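import Groth.Agent.Lib.Helper94.ModTensor
import Groth.Agent.Lib.Helper94.SnakeMono
import Groth.Agent.S0484
import Mathlib.CategoryTheory.Abelian.GrothendieckAxioms.Colim
import Mathlib.RingTheory.Flat.CategoryTheory
import Mathlib.Algebra.Homology.ShortComplex.ExactFunctor
import Mathlib.Algebra.Category.ModuleCat.Presheaf.EpiMono
import Mathlib.Algebra.Category.ModuleCat.Presheaf.Free

/-!
# Flat sheaves of modules on a small ringed site (helper94)

Namespace `Groth.Agent.Lib.Helper94.ModFlat`.
-/

universe u

open CategoryTheory CategoryTheory.Limits MonoidalCategory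

namespace Groth.Agent.Lib.Helper94.ModFlat

open ModSite Groth.Agent.Lib.Helper94.ModTensorW Groth.Agent.Lib.Helper94.ModTensor

variable {C : Type u} [SmallCategory C] {J : GrothendieckTopology C} (O : Sheaf J CommRingCat.{u})

/-- symmetry of the tensor product: `N ⊗ - ≅ - ⊗ N`. -/
noncomputable def tensLIsoTensR (N : Mod O) : tensL O N ≅ tensR O N :=
  tensLIso O N ≪≫
    Functor.isoWhiskerLeft (fgt O)
      (Functor.isoWhiskerRight (BraidedCategory.tensorLeftIsoTensorRight ((fgt O).obj N)) (shf O)) ≪≫
    (tensRIso O N).symm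

instance (N : Mod O) : PreservesColimitsOfSize.{u, u} (tensL O N) :=
  preservesColimits_of_natIso (tensLIsoTensR O N).symm

instance (N : Mod O) : PreservesFiniteColimits (tensR O N) :=
  PreservesColimitsOfSize.preservesFiniteColimits _

instance (N : Mod O) : PreservesFiniteColimits (tensL O N) :=
  PreservesColimitsOfSize.preservesFiniteColimits _

instance (N : Mod O) : (tensR O N).PreservesZeroMorphisms :=
  haveI : PreservesColimit (Functor.empty.{0} (Mod O)) (tensR O N) := inferInstance
  Functor.preservesZeroMorphisms_of_preserves_initial_object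

instance (N : Mod O) : (tensL O N).PreservesZeroMorphisms :=
  haveI : PreservesColimit (Functor.empty.{0} (Mod O)) (tensL O N) := inferInstance
  Functor.preservesZeroMorphisms_of_preserves_initial_object

instance (N : Mod O) : (tensR O N).Additive :=
  haveI := preservesBinaryBiproducts_of_preservesBinaryCoproducts (tensR O N)
  Functor.additive_of_preservesBinaryBiproducts _

instance (N : Mod O) : (tensL O N).Additive :=
  haveI := preservesBinaryBiproducts_of_preservesBinaryCoproducts (tensL O N)
  Functor.additive_of_preservesBinaryBiproducts _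

/-- A module is flat iff tensoring with it preserves monomorphisms. -/
theorem isFlat_iff_preservesMono (F : Mod O) :
    IsFlat F ↔ ∀ ⦃X Y : Mod O⦄ (f : X ⟶ Y), Mono f → Mono ((tensR O F).map f) := by
  constructor
  · rintro ⟨h1, _⟩ X Y f hf
    exact inferInstanceAs (Mono ((tensR O F).map f))
  · intro h
    refine ⟨?_, inferInstanceAs (PreservesFiniteColimits (tensR O F))⟩
    refine (Functor.preservesFiniteLimits_iff_forall_exact_map_and_mono (tensR O F)).2 ?_
    intro S hS
    refine ⟨?_, h _ hS.mono_f⟩
    exact ((Functor.preservesFiniteColimits_iff_forall_exact_map_and_epi (tensR O F)).1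
      inferInstance S hS).1

/-- A sectionwise flat presheaf of modules is flat for the presheaf tensor product. -/
theorem preservesFiniteLimits_tensorRight_of_flat (P : PMod O)
    (hP : ∀ X : Cᵒᵖ, Module.Flat (O.obj.obj X) (P.obj X)) :
    PreservesFiniteLimits (tensorRight P) := by
  refine ⟨fun K _ _ => ⟨fun {D} => ⟨fun {c} hc => ⟨?_⟩⟩⟩⟩
  refine PresheafOfModules.evaluationJointlyReflectsLimits _ _ (fun X => ?_)
  haveI : Module.Flat (O.obj.obj X) (P.obj X) := hP X
  exact isLimitOfPreserves
    (MonoidalCategory.tensorRight (show ModuleCat (O.obj.obj X) from P.obj X))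
    (isLimitOfPreserves (PresheafOfModules.evaluation _ X) hc)

instance : PreservesFiniteLimits (shf O) :=
  inferInstanceAs (PreservesFiniteLimits
    (PresheafOfModules.sheafification.{u} (𝟙 (ringSh O).obj)))

/-- Tensoring with the sheafification of a presheaf of modules `P` is computed by the presheaf
tensor product with `P` itself. -/
noncomputable def tensRShfIso (P : PMod O) :
    fgt O ⋙ tensorRight P ⋙ shf O ≅ tensR O ((shf O).obj P) :=
  NatIso.ofComponents
    (fun X => @asIso _ _ _ _ ((shf O).map ((fgt O).obj X ◁ unitMap O P))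
      (isIso_shf_map_of_wMod _ (wMod_whiskerLeft J _ _ (wMod_unit P))))
    (by
      intro X X' φ
      change (shf O).map ((fgt O).map φ ▷ P) ≫ (shf O).map ((fgt O).obj X' ◁ unitMap O P) =
        (shf O).map ((fgt O).obj X ◁ unitMap O P) ≫
          (shf O).map ((fgt O).map φ ▷ (fgt O).obj ((shf O).obj P))
      rw [← Functor.map_comp, ← Functor.map_comp]
      exact congrArg (shf O).map (whisker_exchange ((fgt O).map φ) (unitMap O P)).symm)

/-- The sheafification of a sectionwise flat presheaf of modules is a flat sheaf of modules. -/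
theorem isFlat_shf (P : PMod O) (hP : ∀ X : Cᵒᵖ, Module.Flat (O.obj.obj X) (P.obj X)) :
    IsFlat ((shf O).obj P) := by
  refine ⟨?_, inferInstanceAs (PreservesFiniteColimits (tensR O ((shf O).obj P)))⟩
  have := preservesFiniteLimits_tensorRight_of_flat O P hP
  have : PreservesFiniteLimits (fgt O ⋙ tensorRight P ⋙ shf O) :=
    comp_preservesFiniteLimits _ _
  exact preservesFiniteLimits_of_natIso (tensRShfIso O P)

/-- Enough flats: every sheaf of modules is a quotient of a flat one. -/
theorem exists_flat_epi (F : Mod O) : ∃ (G : Mod O) (π : G ⟶ F), IsFlat G ∧ Epi π := by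
  let F₀ : PMod O := (fgt O).obj F
  let P : PMod O := PresheafOfModules.freeObj (F₀.presheaf ⋙ forget _)
  let ε : P ⟶ F₀ := PresheafOfModules.freeObjDesc (𝟙 _)
  have hε : Epi ε := PresheafOfModules.epi_of_surjective (fun X m =>
    ⟨ModuleCat.freeMk m, (ModuleCat.freeDesc_apply _ _).trans rfl⟩)
  refine ⟨(shf O).obj P, (shf O).map ε ≫ (shfAdj O).counit.app F, isFlat_shf O P ?_, ?_⟩
  · intro X
    change Module.Flat (O.obj.obj X) ((F₀.presheaf ⋙ forget _).obj X →₀ O.obj.obj X)
    infer_instance
  · have : Epi ((shf O).map ε) := inferInstance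
    exact epi_comp _ _

/-- `N ⊗ -` preserves monomorphisms when `N` is flat. -/
theorem mono_tensL_map_of_isFlat {N : Mod O} (hN : IsFlat N) {X Y : Mod O} (f : X ⟶ Y) [Mono f] :
    Mono ((tensL O N).map f) := by
  have h1 : Mono ((tensR O N).map f) := (isFlat_iff_preservesMono O N).1 hN f inferInstance
  have e : (tensL O N).map f =
      (tensLIsoTensR O N).hom.app X ≫ (tensR O N).map f ≫ (tensLIsoTensR O N).inv.app Y := by
    rw [← Category.assoc, ← NatTrans.naturality, Category.assoc, Iso.hom_inv_id_app,
      Category.comp_id]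
  rw [e]
  infer_instance

/-- right exactness of `- ⊗ G` on a short exact sequence -/
theorem exact_map_tensR (S : ShortComplex (Mod O)) (hS : S.ShortExact) (G : Mod O) :
    (S.map (tensR O G)).Exact ∧ Epi ((tensR O G).map S.g) :=
  (Functor.preservesFiniteColimits_iff_forall_exact_map_and_epi (tensR O G)).1 inferInstance S hS

/-- right exactness of `X ⊗ -` on a short exact sequence -/
theorem exact_map_tensL (S : ShortComplex (Mod O)) (hS : S.ShortExact) (X : Mod O) :
    (S.map (tensL O X)).Exact ∧ Epi ((tensL O X).map S.g) :=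
  (Functor.preservesFiniteColimits_iff_forall_exact_map_and_epi (tensL O X)).1 inferInstance S hS

/-- If `0 → A → B → C → 0` is short exact with `C` flat then `A ⊗ G → B ⊗ G` is a monomorphism
for every `G`. -/
theorem mono_tensR_map_of_isFlat_X₃ (S : ShortComplex (Mod O)) (hS : S.ShortExact)
    (hF : IsFlat S.X₃) (G : Mod O) : Mono ((tensR O G).map S.f) := by
  obtain ⟨P, π, hP, hπ⟩ := exists_flat_epi O G
  let T : ShortComplex (Mod O) := ShortComplex.mk (kernel.ι π) π (kernel.condition π)
  have hT : T.ShortExact :=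
    { exact := ShortComplex.exact_of_f_is_kernel _ (kernelIsKernel π)
      mono_f := inferInstanceAs (Mono (kernel.ι π))
      epi_g := hπ }
  have := hS.mono_f
  have : Mono ((tensL O S.X₃).map T.f) := mono_tensL_map_of_isFlat O hF T.f
  have : Mono ((tensR O P).map S.f) := (isFlat_iff_preservesMono O P).1 hP S.f inferInstance
  have : Epi ((tensL O S.X₁).map T.g) := (exact_map_tensL O T hT S.X₁).2
  exact SnakeMono.mono_of_grid
    ((tensR O T.X₁).map S.f) ((tensR O T.X₁).map S.g)
    ((tensR O P).map S.f) ((tensR O P).map S.g) ((tensR O G).map S.f)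
    ((tensL O S.X₁).map T.f) ((tensL O S.X₂).map T.f) ((tensL O S.X₃).map T.f)
    ((tensL O S.X₁).map T.g) ((tensL O S.X₂).map T.g)
    (((tensorBi O).map S.f).naturality T.f).symm
    (((tensorBi O).map S.g).naturality T.f).symm
    (((tensorBi O).map S.f).naturality T.g).symm
    (by rw [← Functor.map_comp, S.zero, Functor.map_zero])
    (by rw [← Functor.map_comp, T.zero, Functor.map_zero])
    (by rw [← Functor.map_comp, S.zero, Functor.map_zero])
    (by rw [← Functor.map_comp, T.zero, Functor.map_zero])
    (exact_map_tensR O S hS T.X₁).1 (exact_map_tensL O T hT S.X₂).1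

/-- Tensoring a short exact sequence with flat cokernel stays short exact. -/
theorem shortExact_map_tensR_of_isFlat_X₃ (S : ShortComplex (Mod O)) (hS : S.ShortExact)
    (hF : IsFlat S.X₃) (G : Mod O) : (S.map (tensR O G)).ShortExact :=
  { exact := (exact_map_tensR O S hS G).1
    mono_f := mono_tensR_map_of_isFlat_X₃ O S hS hF G
    epi_g := (exact_map_tensR O S hS G).2 }

/-- symmetric version: `G ⊗ A → G ⊗ B` is mono when `0 → A → B → C → 0` is exact with `C` flat. -/
theorem mono_tensL_map_of_isFlat_X₃ (S : ShortComplex (Mod O)) (hS : S.ShortExact)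
    (hF : IsFlat S.X₃) (G : Mod O) : Mono ((tensL O G).map S.f) := by
  have h1 : Mono ((tensR O G).map S.f) := mono_tensR_map_of_isFlat_X₃ O S hS hF G
  have e : (tensL O G).map S.f =
      (tensLIsoTensR O G).hom.app _ ≫ (tensR O G).map S.f ≫ (tensLIsoTensR O G).inv.app _ := by
    rw [← Category.assoc, ← NatTrans.naturality, Category.assoc, Iso.hom_inv_id_app,
      Category.comp_id]
  rw [e]
  infer_instance

/-- In a short exact sequence with flat middle and right terms, the left term is flat. -/
theorem isFlat_X₁ (S : ShortComplex (Mod O)) (hS : S.ShortExact)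
    (h₂ : IsFlat S.X₂) (h₃ : IsFlat S.X₃) : IsFlat S.X₁ := by
  rw [isFlat_iff_preservesMono]
  intro G' G g hg
  have m1 : Mono ((tensL O G').map S.f) := mono_tensL_map_of_isFlat_X₃ O S hS h₃ G'
  have m2 : Mono ((tensR O S.X₂).map g) := (isFlat_iff_preservesMono O S.X₂).1 h₂ g hg
  have nat : (tensR O S.X₁).map g ≫ (tensL O G).map S.f =
      (tensL O G').map S.f ≫ (tensR O S.X₂).map g :=
    (((tensorBi O).map g).naturality S.f).symm
  have : Mono ((tensR O S.X₁).map g ≫ (tensL O G).map S.f) := by
    rw [nat]; infer_instance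
  exact mono_of_mono _ ((tensL O G).map S.f)

/-- In a short exact sequence with flat outer terms, the middle term is flat. -/
theorem isFlat_X₂ (S : ShortComplex (Mod O)) (hS : S.ShortExact)
    (h₁ : IsFlat S.X₁) (h₃ : IsFlat S.X₃) : IsFlat S.X₂ := by
  rw [isFlat_iff_preservesMono]
  intro G' G g hg
  let φ : S.map (tensL O G') ⟶ S.map (tensL O G) := S.mapNatTrans ((tensorBi O).map g)
  have : Mono (S.map (tensL O G')).f := mono_tensL_map_of_isFlat_X₃ O S hS h₃ G'
  have : Mono (S.map (tensL O G)).f := mono_tensL_map_of_isFlat_X₃ O S hS h₃ G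
  have : Mono φ.τ₁ := (isFlat_iff_preservesMono O S.X₁).1 h₁ g hg
  have : Mono φ.τ₃ := (isFlat_iff_preservesMono O S.X₃).1 h₃ g hg
  exact ShortComplex.mono_τ₂_of_exact_of_mono φ (exact_map_tensL O S hS G').1

instance : IsGrothendieckAbelian.{u} (Mod O) := Groth.Agent.S0484.result J (ringSh O)

/-- A colimit of flat modules along a shape with exact colimits is flat. -/
theorem isFlat_of_isColimit {I : Type u} [SmallCategory I] [HasExactColimitsOfShape I (Mod O)]
    (D : I ⥤ Mod O) (hD : ∀ i, IsFlat (D.obj i)) (c : Cocone D) (hc : IsColimit c) :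
    IsFlat c.pt := by
  rw [isFlat_iff_preservesMono]
  intro G' G g hg
  let φ : D ⋙ tensL O G' ⟶ D ⋙ tensL O G := Functor.whiskerLeft D ((tensorBi O).map g)
  have : ∀ i, Mono (φ.app i) := fun i => (isFlat_iff_preservesMono O (D.obj i)).1 (hD i) g hg
  have : Mono φ := NatTrans.mono_of_mono_app φ
  exact colim.map_mono' φ (isColimitOfPreserves (tensL O G') hc)
    (isColimitOfPreserves (tensL O G) hc) ((tensR O c.pt).map g)
    (fun i => ((tensorBi O).map g).naturality (c.ι.app i))

/-- A filtered colimit of flat modules is flat. -/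
theorem isFlat_of_isColimit_filtered {I : Type u} [SmallCategory I] [IsFiltered I]
    (D : I ⥤ Mod O) (hD : ∀ i, IsFlat (D.obj i)) (c : Cocone D) (hc : IsColimit c) :
    IsFlat c.pt :=
  isFlat_of_isColimit O D hD c hc

/-- A direct sum of flat modules is flat. -/
theorem isFlat_of_isColimit_cofan {ι : Type u} (F : ι → Mod O) (hF : ∀ i, IsFlat (F i))
    (c : Cofan F) (hc : IsColimit c) : IsFlat c.pt :=
  isFlat_of_isColimit O (Discrete.functor F) (fun i => hF i.as) c hc

/-- associativity of the tensor product, in functorial form: `- ⊗ (G ⊗ F) ≅ (- ⊗ G) ⊗ F`. -/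
noncomputable def tensRTensorIso (G F : Mod O) :
    tensR O (((tensorBi O).obj G).obj F) ≅ tensR O G ⋙ tensR O F :=
  (tensRShfIso O ((fgt O).obj G ⊗ (fgt O).obj F)).symm ≪≫
    Functor.isoWhiskerLeft (fgt O)
      (Functor.isoWhiskerRight (tensorRightTensor ((fgt O).obj G) ((fgt O).obj F)) (shf O)) ≪≫
    Functor.isoWhiskerLeft (fgt O) (Functor.associator _ _ _) ≪≫
    Functor.isoWhiskerLeft (fgt O)
      (Functor.isoWhiskerLeft (tensorRight ((fgt O).obj G)) (shfCompTensRIso O F)) ≪≫
    Functor.isoWhiskerLeft (fgt O) (Functor.associator _ _ _).symm ≪≫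
    (Functor.associator _ _ _).symm ≪≫
    Functor.isoWhiskerRight (tensRIso O G).symm (tensR O F)

/-- The tensor product of two flat modules is flat. -/
theorem isFlat_tensor (G F : Mod O) (hG : IsFlat G) (hF : IsFlat F) :
    IsFlat (((tensorBi O).obj G).obj F) := by
  have := hG.1
  have := hF.1
  have : PreservesFiniteLimits (tensR O G ⋙ tensR O F) := comp_preservesFiniteLimits _ _
  exact ⟨preservesFiniteLimits_of_natIso (tensRTensorIso O G F).symm,
    inferInstanceAs (PreservesFiniteColimits (tensR O _))⟩

/-- A zero object is flat. -/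
theorem isFlat_of_isZero (N : Mod O) (hN : IsZero N) : IsFlat N := by
  rw [isFlat_iff_preservesMono]
  intro X Y f _
  have hz : IsZero ((tensR O N).obj X) := (tensL O X).map_isZero hN
  exact ⟨fun g h _ => hz.eq_of_tgt _ _⟩

end Groth.Agent.Lib.Helper94.ModFlat
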