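import Groth.Agent.Lib.Helper94.JShriekPre

/-!
# Extension by zero `j_!` on sheaves of modules over a small ringed site (helper94)

Namespace `Groth.Agent.Lib.Helper94.JShriek`.
* `jP O U : PMod (O.over U) ⥤ PMod O`, `adjP O U : jP O U ⊣ restrP O U` (presheaf level, concrete).
* `jS O U = fgt ⋙ jP ⋙ shf`, `adjS O U : jS O U ⊣ restr O U`, `extZeroIso : extZero O U ≅ jS O U`.
* `mono_extZero_map`, `preservesFiniteLimits_extZero` (j_! is exact), additivity instances.
* `(extZero O U).Faithful`, `exact_of_exact_map_extZero` (j_! reflects exactness).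
-/


universe u
open CategoryTheory CategoryTheory.Limits Opposite DirectSum

namespace Groth.Agent.Lib.Helper94.JShriek

open ModSite Groth.Agent.Lib.Helper94.ModTensorW Groth.Agent.Lib.Helper94.ModTensor
  Groth.Agent.Lib.Helper94.ModOver

variable {C : Type u} [SmallCategory C] {J : GrothendieckTopology C} (O : Sheaf J CommRingCat.{u}) (U : C)

/-- presheaf-level extension by zero, typed over the ringed site -/
noncomputable def jP : PMod (O.over U) ⥤ PMod O :=
  jPre (O.obj ⋙ forget₂ CommRingCat.{u} RingCat.{u}) U

/-- the presheaf-level adjunction `j_! ⊣ restriction` -/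
noncomputable def adjP : jP O U ⊣ restrP O U :=
  adjPre (O.obj ⋙ forget₂ CommRingCat.{u} RingCat.{u}) U


/-- `fgt ⋙ restrP = restr ⋙ fgt` -/
noncomputable def fgtRestrIso : fgt O ⋙ restrP O U ≅ restr O U ⋙ fgt (O.over U) :=
  NatIso.ofComponents (fun _ => Iso.refl _) (by
    intro M N f
    exact (Category.comp_id _).trans (Category.id_comp _).symm)

/-- the concrete extension by zero functor on sheaves of modules -/
noncomputable def jS : Mod (O.over U) ⥤ Mod O := fgt (O.over U) ⋙ jP O U ⋙ shf O

/-- the concrete adjunction `j_! ⊣ restriction` on sheaves of modules -/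
noncomputable def adjS : jS O U ⊣ restr O U :=
  Adjunction.restrictFullyFaithful (iC := fgt (O.over U)) (iD := 𝟭 (Mod O))
    ((adjP O U).comp (shfAdj O))
    (SheafOfModules.fullyFaithfulForget _) (Functor.FullyFaithful.id _)
    (Functor.rightUnitor _).symm
    (Functor.leftUnitor _ ≪≫ fgtRestrIso O U)

/-- Mathlib's extension by zero is the concrete one -/
noncomputable def extZeroIso : extZero O U ≅ jS O U :=
  Adjunction.leftAdjointUniq (extZeroAdj O U) (adjS O U)


section Exact

variable {O U}

theorem mono_jP_map {G G' : PMod (O.over U)} (α : G ⟶ G') [Mono α] :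
    Mono ((jP O U).map α) := by
  unfold jP
  exact mono_mapPre (R := O.obj ⋙ forget₂ CommRingCat.{u} RingCat.{u}) (U := U) α ‹_›

theorem mono_jS_map {G G' : Mod (O.over U)} (α : G ⟶ G') [Mono α] :
    Mono ((jS O U).map α) := by
  have h1 : Mono ((fgt (O.over U)).map α) := inferInstance
  have h2 : Mono ((jP O U).map ((fgt (O.over U)).map α)) := mono_jP_map _
  exact inferInstanceAs (Mono ((shf O).map ((jP O U).map ((fgt (O.over U)).map α))))

theorem mono_extZero_map {G G' : Mod (O.over U)} (α : G ⟶ G') [Mono α] :
    Mono ((extZero O U).map α) := by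
  have := mono_jS_map α
  have e : (extZero O U).map α =
      (extZeroIso O U).hom.app G ≫ (jS O U).map α ≫ (extZeroIso O U).inv.app G' := by
    rw [← Category.assoc, ← NatTrans.naturality, Category.assoc, Iso.hom_inv_id_app,
      Category.comp_id]
  rw [e]
  infer_instance

instance : PreservesColimitsOfSize.{u, u} (extZero O U) :=
  (extZeroAdj O U).leftAdjoint_preservesColimits

instance : PreservesFiniteColimits (extZero O U) :=
  PreservesColimitsOfSize.preservesFiniteColimits _

instance : (extZero O U).PreservesZeroMorphisms :=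
  haveI : PreservesColimit (Functor.empty.{0} (Mod (O.over U))) (extZero O U) := inferInstance
  Functor.preservesZeroMorphisms_of_preserves_initial_object

instance : (extZero O U).Additive :=
  haveI := preservesBinaryBiproducts_of_preservesBinaryCoproducts (extZero O U)
  Functor.additive_of_preservesBinaryBiproducts _

theorem preservesFiniteLimits_extZero : PreservesFiniteLimits (extZero O U) := by
  refine (Functor.preservesFiniteLimits_iff_forall_exact_map_and_mono (extZero O U)).2 ?_
  intro S hS
  have := hS.mono_f
  refine ⟨?_, mono_extZero_map S.f⟩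
  exact ((Functor.preservesFiniteColimits_iff_forall_exact_map_and_epi (extZero O U)).1
    inferInstance S hS).1

end Exact

section Faithful

variable {O U}

instance : (restrP O U).PreservesZeroMorphisms := ⟨fun _ _ => rfl⟩

theorem mono_adjP_unit_app (P : PMod (O.over U)) : Mono ((adjP O U).unit.app P) :=
  mono_adjPre_unit_app (R := O.obj ⋙ forget₂ CommRingCat.{u} RingCat.{u}) (U := U) P

theorem eq_zero_of_jS_map_eq_zero {G G' : Mod (O.over U)} (α : G ⟶ G')
    (h : (jS O U).map α = 0) : α = 0 := by
  set P := (fgt (O.over U)).obj G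
  set P' := (fgt (O.over U)).obj G'
  set a : P ⟶ P' := (fgt (O.over U)).map α
  set β : (jP O U).obj P ⟶ (jP O U).obj P' := (jP O U).map a
  have h0 : (shf O).map β = 0 := h
  have h1 : β ≫ (shfAdj O).unit.app ((jP O U).obj P') = 0 := by
    have := (shfAdj O).unit.naturality β
    refine this.trans ?_
    change _ ≫ (fgt O).map ((shf O).map β) = 0
    rw [h0, Functor.map_zero, comp_zero]
  have h2 : (restrP O U).map β ≫ (restrP O U).map ((shfAdj O).unit.app ((jP O U).obj P')) = 0 := by
    rw [← Functor.map_comp, h1, Functor.map_zero]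
  have h3 : a ≫ (adjP O U).unit.app P' = (adjP O U).unit.app P ≫ (restrP O U).map β :=
    (adjP O U).unit.naturality a
  have h4 : a ≫ ((adjP O U).unit.app P' ≫
      (restrP O U).map ((shfAdj O).unit.app ((jP O U).obj P'))) = 0 := by
    rw [← Category.assoc, h3, Category.assoc, h2, comp_zero]
  have h5 : (shf (O.over U)).map a ≫ (shf (O.over U)).map ((adjP O U).unit.app P' ≫
      (restrP O U).map ((shfAdj O).unit.app ((jP O U).obj P'))) = 0 := by
    rw [← Functor.map_comp, h4, Functor.map_zero]
  have m1 : Mono ((adjP O U).unit.app P') := mono_adjP_unit_app P'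
  have m2 : Mono ((shf (O.over U)).map ((adjP O U).unit.app P')) := inferInstance
  have i3 : IsIso ((shf (O.over U)).map ((restrP O U).map ((shfAdj O).unit.app ((jP O U).obj P')))) :=
    isIso_shf_map_of_wMod _ (wMod_restrP U _ (wMod_unit ((jP O U).obj P')))
  have h6 : (shf (O.over U)).map a = 0 := by
    rw [Functor.map_comp] at h5
    have : Mono ((shf (O.over U)).map ((adjP O U).unit.app P') ≫
        (shf (O.over U)).map ((restrP O U).map ((shfAdj O).unit.app ((jP O U).obj P')))) := mono_comp _ _
    exact (cancel_mono _).1 (h5.trans zero_comp.symm)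
  have h7 := (shfAdj (O.over U)).counit.naturality α
  change (shf (O.over U)).map a ≫ _ = _ at h7
  rw [h6, zero_comp] at h7
  have : IsIso ((shfAdj (O.over U)).counit.app G) := inferInstance
  exact (cancel_epi ((shfAdj (O.over U)).counit.app G)).1 (h7.symm.trans comp_zero.symm)


instance : (jS O U).Additive :=
  Functor.additive_of_iso (extZeroIso O U)

instance : (jS O U).Faithful where
  map_injective {G G'} f g h := by
    rw [← sub_eq_zero]
    apply eq_zero_of_jS_map_eq_zero
    rw [Functor.map_sub, h, sub_self]

instance : (extZero O U).Faithful :=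
  Functor.Faithful.of_iso (extZeroIso O U).symm

/-- `j_!` reflects exactness -/
theorem exact_of_exact_map_extZero (S : ShortComplex (Mod (O.over U)))
    (h : (S.map (extZero O U)).Exact) : S.Exact :=
  (extZero O U).reflects_exact_of_faithful S h

end Faithful

end Groth.Agent.Lib.Helper94.JShriek
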