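import Groth.Agent.Lib.Helper94.JShriekExt
import Groth.Agent.Lib.Helper34.ExtRD
import Groth.Prelude.Def_ExtSupp

/-!
# `Ext^i(j_! A, N) ≃+ Ext^i_{C/X}(A, N|_X)` on a small ringed site (helper94)

Namespace `Groth.Agent.Lib.Helper94.JShriek`.
* `extChgUnivAddEquiv` : change of universe for `Abelian.Ext` as an additive equivalence.
* `coyonedaExtZeroIso`, `nonempty_ext_extZero_addEquiv`.
-/

universe w w' u

open CategoryTheory CategoryTheory.Limits Opposite Abelian

namespace Groth.Agent.Lib.Helper94.JShriek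

open ModSite Groth.Agent.Lib.Helper94.ModTensor Groth.Agent.Lib.Cohomology.RDerComp

section ChgUniv

variable {A : Type*} [Category A] [Abelian A] [HasExt.{w} A] [HasExt.{w'} A]

/-- change of universe for `Ext` is additive -/
noncomputable def extChgUnivAddEquiv (X Y : A) (n : ℕ) : Ext.{w} X Y n ≃+ Ext.{w'} X Y n :=
  { Ext.chgUniv.{w', w} with
    map_add' := fun a b => by
      let _ := HasDerivedCategory.standard A
      apply Ext.homEquiv.injective
      have h1 : ∀ e : Ext.{w} X Y n, (Ext.chgUniv.{w'} e).hom = e.hom :=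
        fun e => Ext.homEquiv_chgUniv e
      change (Ext.chgUniv.{w'} (a + b)).hom = (Ext.chgUniv.{w'} a + Ext.chgUniv.{w'} b).hom
      rw [h1, Ext.add_hom, Ext.add_hom, h1, h1] }

end ChgUniv

section ExtAdj

variable {C : Type u} [SmallCategory C] {J : GrothendieckTopology C} (O : Sheaf J CommRingCat.{u}) (X : C)

instance (P : Mod O) : PreservesFiniteLimits (preadditiveCoyoneda.obj (op P)) := by
  have : PreservesLimitsOfSize.{0, 0} (preadditiveCoyoneda.obj (op P) ⋙ forget AddCommGrpCat) :=
    inferInstanceAs (PreservesLimitsOfSize.{0, 0} (coyoneda.obj (op P)))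
  have : PreservesLimitsOfSize.{0, 0} (preadditiveCoyoneda.obj (op P)) :=
    preservesLimits_of_reflects_of_preserves _ (forget AddCommGrpCat)
  exact PreservesLimitsOfSize.preservesFiniteLimits _

/-- `Hom(j_! A, -) ≅ Hom(A, (-)|_X)` -/
noncomputable def coyonedaExtZeroIso (A : Mod (O.over X)) :
    preadditiveCoyoneda.obj (op ((extZero O X).obj A)) ≅
      restr O X ⋙ preadditiveCoyoneda.obj (op A) :=
  NatIso.ofComponents
    (fun F => ((extZeroAdj O X).homAddEquiv A F).toAddCommGrpIso)
    (by
      intro F F' g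
      ext φ
      exact (extZeroAdj O X).homEquiv_naturality_right φ g)

theorem nonempty_ext_extZero_addEquiv [HasExt.{w} (Mod O)] [HasExt.{w'} (Mod (O.over X))]
    (A : Mod (O.over X)) (N : Mod O) (i : ℕ) :
    Nonempty (Ext.{w} ((extZero O X).obj A) N i ≃+ Ext.{w'} A ((restr O X).obj N) i) := by
  have : EnoughInjectives (Mod O) := inferInstance
  have : EnoughInjectives (Mod (O.over X)) := inferInstance
  have : HasExt.{u} (Mod O) := hasExt_of_enoughInjectives _
  have : HasExt.{u} (Mod (O.over X)) := hasExt_of_enoughInjectives _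
  obtain ⟨e1⟩ := Groth.Agent.Lib.Helper34.ExtRD.nonempty_ext_iso_rightDerived
    ((extZero O X).obj A) (preadditiveCoyoneda.obj (op ((extZero O X).obj A)))
    (fun F => AddEquiv.refl _) (fun φ g => rfl) i N
  obtain ⟨e2⟩ := Groth.Agent.Lib.Helper34.ExtRD.nonempty_ext_iso_rightDerived
    A (preadditiveCoyoneda.obj (op A))
    (fun F => AddEquiv.refl _) (fun φ g => rfl) i ((restr O X).obj N)
  obtain ⟨e3⟩ := nonempty_rightDerived_comp_iso (restr O X) (preadditiveCoyoneda.obj (op A))
    (fun n I hI => by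
      have := injective_restr O X I
      exact Functor.isZero_rightDerived_obj_injective_succ _ n _) i
  let e4 := rightDerivedIso (coyonedaExtZeroIso O X A) i
  let e5 : AddCommGrpCat.of (Ext.{u} ((extZero O X).obj A) N i) ≅
      AddCommGrpCat.of (Ext.{u} A ((restr O X).obj N) i) :=
    e1 ≪≫ e4.app N ≪≫ e3.app N ≪≫ e2.symm
  exact ⟨(extChgUnivAddEquiv _ _ i).trans (e5.addCommGroupIsoToAddEquiv.trans
    (extChgUnivAddEquiv _ _ i))⟩

end ExtAdj

end Groth.Agent.Lib.Helper94.JShriek
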