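import Groth.Agent.Lib.Helper94.JShriekHom
import Groth.Agent.Lib.Cohomology.Helper3_RDerComp2
import Groth.Prelude.Def_ModSite2

/-!
# Restriction to `C/X`: exactness, injectives, local Ext (helper94)

Namespace `Groth.Agent.Lib.Helper94.JShriek`.
* `(restr O X).Additive`, `PreservesColimitsOfSize (restr O X)`, `injective_restr`
  (restriction preserves injectives, since `j_!` is exact).
* `nonempty_extSh_restr_iso : extSh M q ⋙ restr ≅ restr ⋙ extSh (M|_X) q`
  (uses helper3's `RDerComp`/`RDerComp2`).
-/


universe u
open CategoryTheory CategoryTheory.Limits Opposite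

namespace Groth.Agent.Lib.Helper94.JShriek

open ModSite Groth.Agent.Lib.Helper94.ModTensor Groth.Agent.Lib.Cohomology.RDerComp

variable {C : Type u} [SmallCategory C] {J : GrothendieckTopology C} (O : Sheaf J CommRingCat.{u}) (X : C)

instance : (restr O X).Additive :=
  haveI := preservesBinaryBiproducts_of_preservesBinaryProducts (restr O X)
  Functor.additive_of_preservesBinaryBiproducts _

/-- restriction preserves injective modules -/
theorem injective_restr (I : Mod O) [Injective I] : Injective ((restr O X).obj I) := by
  have : (extZero O X).PreservesMonomorphisms := ⟨fun f hf => mono_extZero_map f⟩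
  exact Injective.injective_of_adjoint (extZeroAdj O X) I

/-- restriction of modules preserves colimits -/
instance : PreservesColimitsOfSize.{u, u} (restr O X) := by
  have h1 : PreservesColimitsOfSize.{u, u}
      (restr O X ⋙ SheafOfModules.toSheaf (ringSh (O.over X))) := by
    have e : restr O X ⋙ SheafOfModules.toSheaf (ringSh (O.over X)) =
        SheafOfModules.toSheaf (ringSh O) ⋙
          (Over.forget X).sheafPushforwardContinuous AddCommGrpCat.{u} (J.over X) J := rfl
    rw [e]
    have := Groth.Agent.Lib.Helper94.ModSiteBasic.toSheaf_preservesColimitsOfSize (ringSh O)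
    have : PreservesColimitsOfSize.{u, u}
        ((Over.forget X).sheafPushforwardContinuous AddCommGrpCat.{u} (J.over X) J) :=
      ((Over.forget X).sheafAdjunctionCocontinuous AddCommGrpCat.{u} (J.over X)
        J).leftAdjoint_preservesColimits
    infer_instance
  have := Groth.Agent.Lib.Helper94.ModSiteBasic.toSheaf_preservesColimitsOfSize (ringSh (O.over X))
  have : ReflectsColimitsOfSize.{u, u} (SheafOfModules.toSheaf (ringSh (O.over X))) :=
    reflectsColimits_of_reflectsIsomorphisms
  exact preservesColimits_of_reflects_of_preserves _ (SheafOfModules.toSheaf (ringSh (O.over X)))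

instance : PreservesFiniteColimits (restr O X) :=
  PreservesColimitsOfSize.preservesFiniteColimits _

/-- local Ext commutes with localisation -/
theorem nonempty_extSh_restr_iso (M : Mod O) [HasSheafHom M] [HasSheafHom ((restr O X).obj M)]
    [HasInjectiveResolutions (Mod O)] [HasInjectiveResolutions (Mod (O.over X))] (q : ℕ) :
    Nonempty (extSh M q ⋙ restr O X ≅ restr O X ⋙ extSh ((restr O X).obj M) q) := by
  have : EnoughInjectives (Mod O) := inferInstance
  have : EnoughInjectives (Mod (O.over X)) := inferInstance
  have : PreservesFiniteLimits (sheafHom M) := by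
    have : PreservesLimitsOfSize.{0, 0} (sheafHom M) :=
      (sheafHomAdj M).rightAdjoint_preservesLimits
    exact PreservesLimitsOfSize.preservesFiniteLimits _
  have : PreservesFiniteLimits (sheafHom ((restr O X).obj M)) := by
    have : PreservesLimitsOfSize.{0, 0} (sheafHom ((restr O X).obj M)) :=
      (sheafHomAdj ((restr O X).obj M)).rightAdjoint_preservesLimits
    exact PreservesLimitsOfSize.preservesFiniteLimits _
  obtain ⟨e1⟩ := nonempty_rightDerived_post_iso (sheafHom M) (restr O X) q
  obtain ⟨e2⟩ := nonempty_rightDerived_comp_iso (restr O X) (sheafHom ((restr O X).obj M))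
    (fun n I hI => by
      have := injective_restr O X I
      exact Functor.isZero_rightDerived_obj_injective_succ _ n _) q
  exact ⟨e1.symm ≪≫ rightDerivedIso (restrSheafHomIso O X M) q ≪≫ e2⟩

end Groth.Agent.Lib.Helper94.JShriek
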