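import Groth.Agent.Lib.Helper94.ModFlat
import Mathlib.CategoryTheory.Functor.Trifunctor

/-!
# The associator of the tensor product of sheaves of modules, as an isomorphism of trifunctors (helper94)

Namespace `Groth.Agent.Lib.Helper94.ModAssoc`.
* `assocIso M N P : (M ⊗ N) ⊗ P ≅ M ⊗ (N ⊗ P)` and its naturality in the three variables.
* `associator : bifunctorComp₁₂ (tensorBi O) (tensorBi O) ≅ bifunctorComp₂₃ (tensorBi O) (tensorBi O)`.
-/

universe u
open CategoryTheory CategoryTheory.Limits MonoidalCategory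

namespace Groth.Agent.Lib.Helper94.ModAssoc

open ModSite Groth.Agent.Lib.Helper94.ModTensorW Groth.Agent.Lib.Helper94.ModTensor
  Groth.Agent.Lib.Helper94.ModFlat

variable {C : Type u} [SmallCategory C] {J : GrothendieckTopology C} (O : Sheaf J CommRingCat.{u})

lemma paste3 {D : Type*} [Category D] {X0 X1 X2 X3 Y0 Y1 Y2 Y3 : D}
    {u1 : X0 ⟶ X1} {a : X0 ⟶ X2} {u2 : X2 ⟶ X3}
    {v1 : Y0 ⟶ Y1} {b : Y0 ⟶ Y2} {v2 : Y2 ⟶ Y3}
    {t0 : X0 ⟶ Y0} {t1 : X1 ⟶ Y1} {s0 : X2 ⟶ Y2} {s1 : X3 ⟶ Y3} [IsIso u1] [IsIso v1]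
    (sq1 : t0 ≫ v1 = u1 ≫ t1) (sq2 : t0 ≫ b = a ≫ s0) (sq3 : s0 ≫ v2 = u2 ≫ s1) :
    t1 ≫ (inv v1 ≫ b ≫ v2) = (inv u1 ≫ a ≫ u2) ≫ s1 := by
  have h : t1 ≫ inv v1 = inv u1 ≫ t0 := by
    rw [IsIso.eq_inv_comp, ← Category.assoc, ← sq1, Category.assoc, IsIso.hom_inv_id,
      Category.comp_id]
  rw [← Category.assoc, h, Category.assoc, Category.assoc, Category.assoc,
    reassoc_of% sq2, sq3]

/-- `shf((m ⊗ n) ⊗ p) ≅ (M ⊗ N) ⊗ P` -/
noncomputable def u₁ (M N P : Mod O) :
    (shf O).obj (((fgt O).obj M ⊗ (fgt O).obj N) ⊗ (fgt O).obj P) ≅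
      ((tensorBi O).obj (((tensorBi O).obj M).obj N)).obj P :=
  @asIso _ _ _ _ ((shf O).map ((shfAdj O).unit.app ((fgt O).obj M ⊗ (fgt O).obj N) ▷ (fgt O).obj P))
    (isIso_shf_map_of_wMod _ (wMod_whiskerRight J _ (wMod_unit _) _))

/-- `shf(m ⊗ (n ⊗ p)) ≅ M ⊗ (N ⊗ P)` -/
noncomputable def u₂ (M N P : Mod O) :
    (shf O).obj ((fgt O).obj M ⊗ ((fgt O).obj N ⊗ (fgt O).obj P)) ≅
      ((tensorBi O).obj M).obj (((tensorBi O).obj N).obj P) :=
  @asIso _ _ _ _ ((shf O).map ((fgt O).obj M ◁ (shfAdj O).unit.app ((fgt O).obj N ⊗ (fgt O).obj P)))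
    (isIso_shf_map_of_wMod _ (wMod_whiskerLeft J _ _ (wMod_unit _)))

/-- the associator `(M ⊗ N) ⊗ P ≅ M ⊗ (N ⊗ P)` -/
noncomputable def assocIso (M N P : Mod O) :
    ((tensorBi O).obj (((tensorBi O).obj M).obj N)).obj P ≅
      ((tensorBi O).obj M).obj (((tensorBi O).obj N).obj P) :=
  (u₁ O M N P).symm ≪≫ (shf O).mapIso (α_ ((fgt O).obj M) ((fgt O).obj N) ((fgt O).obj P)) ≪≫
    u₂ O M N P

lemma assocIso_hom (M N P : Mod O) :
    (assocIso O M N P).hom = inv (u₁ O M N P).hom ≫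
      (shf O).map (α_ ((fgt O).obj M) ((fgt O).obj N) ((fgt O).obj P)).hom ≫ (u₂ O M N P).hom := by
  unfold assocIso
  simp

lemma assoc_nat₁ {M M' : Mod O} (f : M ⟶ M') (N P : Mod O) :
    ((tensorBi O).map (((tensorBi O).map f).app N)).app P ≫ (assocIso O M' N P).hom =
      (assocIso O M N P).hom ≫ ((tensorBi O).map f).app (((tensorBi O).obj N).obj P) := by
  rw [assocIso_hom, assocIso_hom]
  refine paste3 (t0 := (shf O).map (((fgt O).map f ▷ (fgt O).obj N) ▷ (fgt O).obj P))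
    (s0 := (shf O).map ((fgt O).map f ▷ ((fgt O).obj N ⊗ (fgt O).obj P))) ?_ ?_ ?_
  · have h := congrArg (fun t => (shf O).map (t ▷ (fgt O).obj P))
      ((shfAdj O).unit.naturality ((fgt O).map f ▷ (fgt O).obj N))
    simp only [comp_whiskerRight, Functor.map_comp] at h
    exact h
  · rw [← Functor.map_comp, ← Functor.map_comp, associator_naturality_left]
  · have h := congrArg (shf O).map (whisker_exchange ((fgt O).map f)
      ((shfAdj O).unit.app ((fgt O).obj N ⊗ (fgt O).obj P)))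
    rw [Functor.map_comp, Functor.map_comp] at h
    exact h.symm

lemma assoc_nat₂ (M : Mod O) {N N' : Mod O} (g : N ⟶ N') (P : Mod O) :
    ((tensorBi O).map (((tensorBi O).obj M).map g)).app P ≫ (assocIso O M N' P).hom =
      (assocIso O M N P).hom ≫ ((tensorBi O).obj M).map (((tensorBi O).map g).app P) := by
  rw [assocIso_hom, assocIso_hom]
  refine paste3 (t0 := (shf O).map (((fgt O).obj M ◁ (fgt O).map g) ▷ (fgt O).obj P))
    (s0 := (shf O).map ((fgt O).obj M ◁ ((fgt O).map g ▷ (fgt O).obj P))) ?_ ?_ ?_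
  · have h := congrArg (fun t => (shf O).map (t ▷ (fgt O).obj P))
      ((shfAdj O).unit.naturality ((fgt O).obj M ◁ (fgt O).map g))
    simp only [comp_whiskerRight, Functor.map_comp] at h
    exact h
  · rw [← Functor.map_comp, ← Functor.map_comp, associator_naturality_middle]
  · have h := congrArg (fun t => (shf O).map ((fgt O).obj M ◁ t))
      ((shfAdj O).unit.naturality ((fgt O).map g ▷ (fgt O).obj P))
    simp only [MonoidalCategory.whiskerLeft_comp, Functor.map_comp] at h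
    exact h

lemma assoc_nat₃ (M N : Mod O) {P P' : Mod O} (h : P ⟶ P') :
    ((tensorBi O).obj (((tensorBi O).obj M).obj N)).map h ≫ (assocIso O M N P').hom =
      (assocIso O M N P).hom ≫ ((tensorBi O).obj M).map (((tensorBi O).obj N).map h) := by
  rw [assocIso_hom, assocIso_hom]
  refine paste3 (t0 := (shf O).map (((fgt O).obj M ⊗ (fgt O).obj N) ◁ (fgt O).map h))
    (s0 := (shf O).map ((fgt O).obj M ◁ ((fgt O).obj N ◁ (fgt O).map h))) ?_ ?_ ?_
  · have h' := congrArg (shf O).map (whisker_exchange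
      ((shfAdj O).unit.app ((fgt O).obj M ⊗ (fgt O).obj N)) ((fgt O).map h))
    rw [Functor.map_comp, Functor.map_comp] at h'
    exact h'
  · rw [← Functor.map_comp, ← Functor.map_comp, associator_naturality_right]
  · have h' := congrArg (fun t => (shf O).map ((fgt O).obj M ◁ t))
      ((shfAdj O).unit.naturality ((fgt O).obj N ◁ (fgt O).map h))
    simp only [MonoidalCategory.whiskerLeft_comp, Functor.map_comp] at h'
    exact h'

/-- the associator as an isomorphism of trifunctors -/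
noncomputable def associator :
    bifunctorComp₁₂ (tensorBi O) (tensorBi O) ≅ bifunctorComp₂₃ (tensorBi O) (tensorBi O) :=
  NatIso.ofComponents (fun M => NatIso.ofComponents (fun N => NatIso.ofComponents
    (fun P => assocIso O M N P) (fun h => assoc_nat₃ O M N h))
    (fun g => NatTrans.ext (funext (fun P => assoc_nat₂ O M g P))))
    (fun f => NatTrans.ext (funext (fun N => NatTrans.ext (funext (fun P =>
      assoc_nat₁ O f N P)))))

lemma associator_hom_app_app_app (M N P : Mod O) :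
    (((associator O).hom.app M).app N).app P = (assocIso O M N P).hom := rfl

end Groth.Agent.Lib.Helper94.ModAssoc
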