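import Groth.Agent.Lib.Helper94.ModOver

/-!
# Extension by zero for presheaves of modules on a localised site (helper94)

Namespace `Groth.Agent.Lib.Helper94.JShriek`.  For `R : Cᵒᵖ ⥤ RingCat` and `U : C`, the concrete
left adjoint `jPre R U` of the restriction functor
`rPre R U = PresheafOfModules.pushforward₀ (Over.forget U) R`, given by
`(jPre G)(V) = ⨁_{φ : V ⟶ U} G(φ)`; adjunction `adjPre R U : jPre R U ⊣ rPre R U`.
-/


universe u
open CategoryTheory Opposite DirectSum

namespace Groth.Agent.Lib.Helper94.JShriek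

variable {C : Type u} [SmallCategory C] {R : Cᵒᵖ ⥤ RingCat.{u}} {U : C}

/-- the restricted presheaf of rings on `C/U` -/
abbrev RU (R : Cᵒᵖ ⥤ RingCat.{u}) (U : C) : (Over U)ᵒᵖ ⥤ RingCat.{u} := (Over.forget U).op ⋙ R

variable (G : PresheafOfModules.{u} (RU R U))

/-- the summand of `j_! G (V)` indexed by `φ : V ⟶ U` -/
def Comp {V : C} (φ : V ⟶ U) : Type u := G.obj (op (Over.mk φ))

instance {V : C} (φ : V ⟶ U) : AddCommGroup (Comp G φ) :=
  inferInstanceAs (AddCommGroup (G.obj (op (Over.mk φ))))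

instance {V : C} (φ : V ⟶ U) : Module (R.obj (op V)) (Comp G φ) :=
  inferInstanceAs (Module ((RU R U).obj (op (Over.mk φ))) (G.obj (op (Over.mk φ))))

/-- transition map of the summands -/
noncomputable def res {V V' : C} (g : V' ⟶ V) (φ : V ⟶ U) :
    Comp G φ →ₛₗ[(R.map g.op).hom] Comp G (g ≫ φ) :=
  G.restrictₛₗ (Over.homMk g rfl : Over.mk (g ≫ φ) ⟶ Over.mk φ).op

lemma res_apply {V V' : C} (g : V' ⟶ V) (φ : V ⟶ U) (x : Comp G φ) :
    res G g φ x = G.map (Over.homMk g rfl : Over.mk (g ≫ φ) ⟶ Over.mk φ).op x := rfl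

lemma res_res {V V' V'' : C} (g : V' ⟶ V) (g' : V'' ⟶ V') (φ : V ⟶ U) (x : Comp G φ) :
    res G g' (g ≫ φ) (res G g φ x) =
      G.map ((Over.homMk g' rfl : Over.mk (g' ≫ g ≫ φ) ⟶ Over.mk (g ≫ φ)) ≫
        (Over.homMk g rfl : Over.mk (g ≫ φ) ⟶ Over.mk φ)).op x :=
  (PresheafOfModules.map_comp_apply G (Over.homMk g rfl : Over.mk (g ≫ φ) ⟶ Over.mk φ).op
    (Over.homMk g' rfl : Over.mk (g' ≫ g ≫ φ) ⟶ Over.mk (g ≫ φ)).op x).symm

open Classical in
lemma of_map_congr {V V' : C} {φ : V ⟶ U} {ψ ψ' : V' ⟶ U} (h : ψ = ψ')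
    (e : Over.mk ψ ⟶ Over.mk φ) (e' : Over.mk ψ' ⟶ Over.mk φ) (he : e.left = e'.left)
    (x : Comp G φ) :
    DirectSum.of (fun ψ : V' ⟶ U => Comp G ψ) ψ (G.map e.op x) =
      DirectSum.of (fun ψ : V' ⟶ U => Comp G ψ) ψ' (G.map e'.op x) := by
  subst h
  have : e = e' := Over.OverMorphism.ext he
  rw [this]


open Classical in
/-- the transition maps of `j_! G` -/
noncomputable def mapAb {X Y : Cᵒᵖ} (f : X ⟶ Y) :
    (⨁ (φ : X.unop ⟶ U), Comp G φ) →+ ⨁ (ψ : Y.unop ⟶ U), Comp G ψ :=
  DirectSum.toAddMonoid (fun φ =>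
    (DirectSum.of (fun ψ : Y.unop ⟶ U => Comp G ψ) (f.unop ≫ φ)).comp
      (res G f.unop φ).toAddMonoidHom)

open Classical in
lemma mapAb_of {X Y : Cᵒᵖ} (f : X ⟶ Y) (φ : X.unop ⟶ U) (x : Comp G φ) :
    mapAb G f (DirectSum.of (fun φ : X.unop ⟶ U => Comp G φ) φ x) =
      DirectSum.of (fun ψ : Y.unop ⟶ U => Comp G ψ) (f.unop ≫ φ) (res G f.unop φ x) := by
  simp [mapAb]

open Classical in
/-- the underlying presheaf of abelian groups of `j_! G` -/
noncomputable def preAb : Cᵒᵖ ⥤ Ab.{u} where
  obj X := AddCommGrpCat.of (⨁ (φ : X.unop ⟶ U), Comp G φ)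
  map f := AddCommGrpCat.ofHom (mapAb G f)
  map_id X := by
    ext : 1
    refine DirectSum.addHom_ext fun φ x => ?_
    change mapAb G (𝟙 X) _ = _
    rw [mapAb_of, res_apply]
    refine (of_map_congr G (Category.id_comp φ) _ (𝟙 (Over.mk φ)) rfl x).trans ?_
    simp
    rfl
  map_comp {X Y Z} f g := by
    ext : 1
    refine DirectSum.addHom_ext fun φ x => ?_
    change mapAb G (f ≫ g) (DirectSum.of (fun φ : X.unop ⟶ U => Comp G φ) φ x) =
      mapAb G g (mapAb G f (DirectSum.of (fun φ : X.unop ⟶ U => Comp G φ) φ x))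
    rw [mapAb_of, mapAb_of, mapAb_of, res_res, res_apply]
    exact of_map_congr G (Category.assoc _ _ _) _ _ (by simp) x


noncomputable instance (X : Cᵒᵖ) : Module (R.obj X) ((preAb G).obj X) :=
  inferInstanceAs (Module (R.obj (op X.unop)) (⨁ (φ : X.unop ⟶ U), Comp G φ))

open Classical in
lemma mapAb_smul {X Y : Cᵒᵖ} (f : X ⟶ Y) (r : R.obj (op X.unop))
    (m : ⨁ (φ : X.unop ⟶ U), Comp G φ) :
    mapAb G f (r • m) = (show R.obj (op Y.unop) from R.map f r) • mapAb G f m := by
  induction m using DirectSum.induction_on with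
  | zero => rw [smul_zero, map_zero, smul_zero]
  | of φ x =>
    rw [← DirectSum.of_smul, mapAb_of, mapAb_of, ← DirectSum.of_smul]
    congr 1
    exact (res G f.unop φ).map_smulₛₗ r x
  | add a b ha hb => rw [smul_add, map_add, map_add, smul_add, ha, hb]

lemma preAb_map_smul {X Y : Cᵒᵖ} (f : X ⟶ Y) (r : R.obj X) (m : (preAb G).obj X) :
    (preAb G).map f (r • m) = R.map f r • (preAb G).map f m :=
  mapAb_smul G f r m

/-- the presheaf of modules `j_! G` : `V ↦ ⨁_{φ : V ⟶ U} G(φ)` -/
noncomputable def objPre : PresheafOfModules.{u} R :=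
  PresheafOfModules.ofPresheaf (preAb G) (fun _ _ f r m => preAb_map_smul G f r m)


variable {G} {G' G'' : PresheafOfModules.{u} (RU R U)}

/-- the componentwise map induced by a morphism -/
def compMap (α : G ⟶ G') {V : C} (φ : V ⟶ U) : Comp G φ →ₗ[R.obj (op V)] Comp G' φ :=
  (α.app (op (Over.mk φ))).hom

lemma compMap_res (α : G ⟶ G') {V V' : C} (g : V' ⟶ V) (φ : V ⟶ U) (x : Comp G φ) :
    compMap α (g ≫ φ) (res G g φ x) = res G' g φ (compMap α φ x) :=
  PresheafOfModules.naturality_apply α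
    (Over.homMk g rfl : Over.mk (g ≫ φ) ⟶ Over.mk φ).op x

/-- `j_!` on morphisms, sectionwise -/
noncomputable def mapApp (α : G ⟶ G') (X : Cᵒᵖ) :
    (⨁ (φ : X.unop ⟶ U), Comp G φ) →ₗ[R.obj (op X.unop)] ⨁ (φ : X.unop ⟶ U), Comp G' φ :=
  DirectSum.lmap (fun φ => compMap α φ)

open Classical in
lemma mapApp_of (α : G ⟶ G') (X : Cᵒᵖ) (φ : X.unop ⟶ U) (x : Comp G φ) :
    mapApp α X (DirectSum.of (fun φ : X.unop ⟶ U => Comp G φ) φ x) =
      DirectSum.of (fun φ : X.unop ⟶ U => Comp G' φ) φ (compMap α φ x) := by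
  rw [← DirectSum.lof_eq_of (R.obj (op X.unop)), mapApp, DirectSum.lmap_lof,
    DirectSum.lof_eq_of]

open Classical in
lemma mapApp_naturality (α : G ⟶ G') {X Y : Cᵒᵖ} (f : X ⟶ Y)
    (m : ⨁ (φ : X.unop ⟶ U), Comp G φ) :
    mapApp α Y (mapAb G f m) = mapAb G' f (mapApp α X m) := by
  induction m using DirectSum.induction_on with
  | zero => simp
  | of φ x => rw [mapAb_of, mapApp_of, mapApp_of, mapAb_of, compMap_res]
  | add a b ha hb => rw [map_add, map_add, map_add, map_add, ha, hb]

/-- `j_!` on morphisms -/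
noncomputable def mapPre (α : G ⟶ G') : objPre G ⟶ objPre G' :=
  PresheafOfModules.homMk
    { app := fun X => AddCommGrpCat.ofHom (mapApp α X).toAddMonoidHom
      naturality := fun X Y f => by
        ext m
        exact mapApp_naturality α f m }
    (fun X r m => (mapApp α X).map_smul r m)


open Classical in
lemma mapPre_app_of (α : G ⟶ G') (X : Cᵒᵖ) (φ : X.unop ⟶ U) (x : Comp G φ) :
    (mapPre α).app X (DirectSum.of (fun φ : X.unop ⟶ U => Comp G φ) φ x) =
      DirectSum.of (fun φ : X.unop ⟶ U => Comp G' φ) φ (compMap α φ x) :=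
  mapApp_of α X φ x

open Classical in
/-- two morphisms out of `j_! G` agree if they agree on the summands -/
lemma objPre_hom_ext {F : PresheafOfModules.{u} R} (β γ : objPre G ⟶ F)
    (h : ∀ (X : Cᵒᵖ) (φ : X.unop ⟶ U) (x : Comp G φ),
      β.app X (DirectSum.of (fun φ : X.unop ⟶ U => Comp G φ) φ x) =
        γ.app X (DirectSum.of (fun φ : X.unop ⟶ U => Comp G φ) φ x)) : β = γ := by
  ext X m
  induction (show ⨁ (φ : X.unop ⟶ U), Comp G φ from m) using DirectSum.induction_on with
  | zero => exact (map_zero (β.app X).hom).trans (map_zero (γ.app X).hom).symm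
  | of φ x => exact h X φ x
  | add a b ha hb =>
    have e1 := map_add (β.app X).hom a b
    have e2 := map_add (γ.app X).hom a b
    exact e1.trans ((congrArg₂ (· + ·) ha hb).trans e2.symm)

variable (R U) in
/-- the presheaf-level extension by zero functor `j_!` -/
noncomputable def jPre : PresheafOfModules.{u} (RU R U) ⥤ PresheafOfModules.{u} R where
  obj G := objPre G
  map α := mapPre α
  map_id G := by
    refine objPre_hom_ext _ _ fun X φ x => ?_
    rw [mapPre_app_of]
    rfl
  map_comp α β := by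
    refine objPre_hom_ext _ _ fun X φ x => ?_
    refine (mapPre_app_of (α ≫ β) X φ x).trans ?_
    refine Eq.trans ?_ (congrArg ((mapPre β).app X) (mapPre_app_of α X φ x)).symm
    exact (mapPre_app_of β X φ (compMap α φ x)).symm


/-- `j_!` preserves monomorphisms of presheaves of modules -/
theorem mono_mapPre (α : G ⟶ G') (hα : Mono α) : Mono ((jPre R U).map α) := by
  refine PresheafOfModules.mono_of_injective (fun X => ?_)
  change Function.Injective (mapApp α X)
  refine (DirectSum.lmap_injective _).2 ?_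
  intro φ
  exact PresheafOfModules.injective_of_mono α (op (Over.mk φ))

variable (R U) in
/-- presheaf-level restriction to `C/U` -/
noncomputable abbrev rPre : PresheafOfModules.{u} R ⥤ PresheafOfModules.{u} (RU R U) :=
  PresheafOfModules.pushforward₀ (Over.forget U) R

variable {F F' : PresheafOfModules.{u} R}

open Classical in
/-- the inclusion of a summand, as a linear map -/
noncomputable def inc (G : PresheafOfModules.{u} (RU R U)) {V : C} (φ : V ⟶ U) :
    Comp G φ →ₗ[R.obj (op V)] ⨁ (ψ : V ⟶ U), Comp G ψ :=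
  DirectSum.lof (R.obj (op V)) (V ⟶ U) (fun ψ => Comp G ψ) φ

open Classical in
lemma inc_apply {V : C} (φ : V ⟶ U) (x : Comp G φ) :
    inc G φ x = DirectSum.of (fun ψ : V ⟶ U => Comp G ψ) φ x := rfl

open Classical in
/-- one direction of the adjunction bijection -/
noncomputable def toRestr (β : objPre G ⟶ F) : G ⟶ (rPre R U).obj F where
  app X := ModuleCat.ofHom
    (X := G.obj X) (Y := ((rPre R U).obj F).obj X)
    ((β.app (op X.unop.left)).hom ∘ₗ inc G X.unop.hom)
  naturality {X Y} f := by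
    ext x
    change (β.app (op Y.unop.left)).hom (inc G Y.unop.hom (G.map f x)) =
      F.map f.unop.left.op ((β.app (op X.unop.left)).hom (inc G X.unop.hom x))
    refine Eq.trans ?_
      (PresheafOfModules.naturality_apply β f.unop.left.op (inc G X.unop.hom x))
    refine congrArg (β.app (op Y.unop.left)).hom ?_
    refine Eq.trans ?_ (mapAb_of G f.unop.left.op X.unop.hom x).symm
    exact (of_map_congr G (Over.w f.unop) (Over.homMk f.unop.left rfl) f.unop rfl x).symm


lemma toRestr_app_apply (β : objPre G ⟶ F) (X : (Over U)ᵒᵖ) (x : G.obj X) :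
    (toRestr β).app X x = (β.app (op X.unop.left)).hom (inc G X.unop.hom x) := rfl

/-- the component of a morphism `G ⟶ F|_U` -/
noncomputable def compTo (α : G ⟶ (rPre R U).obj F) {V : C} (φ : V ⟶ U) :
    Comp G φ →ₗ[R.obj (op V)] F.obj (op V) :=
  (α.app (op (Over.mk φ))).hom

open Classical in
/-- sectionwise map of the other direction of the adjunction bijection -/
noncomputable def fromRestrApp (α : G ⟶ (rPre R U).obj F) (X : Cᵒᵖ) :
    (⨁ (φ : X.unop ⟶ U), Comp G φ) →ₗ[R.obj (op X.unop)] F.obj (op X.unop) :=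
  DirectSum.toModule (R.obj (op X.unop)) (X.unop ⟶ U) (F.obj (op X.unop))
    (fun φ => compTo α φ)

open Classical in
lemma fromRestrApp_of (α : G ⟶ (rPre R U).obj F) (X : Cᵒᵖ) (φ : X.unop ⟶ U) (x : Comp G φ) :
    fromRestrApp α X (DirectSum.of (fun φ : X.unop ⟶ U => Comp G φ) φ x) =
      compTo α φ x := by
  rw [← DirectSum.lof_eq_of (R.obj (op X.unop)), fromRestrApp, DirectSum.toModule_lof]

open Classical in
lemma fromRestrApp_naturality (α : G ⟶ (rPre R U).obj F) {X Y : Cᵒᵖ} (f : X ⟶ Y)
    (m : ⨁ (φ : X.unop ⟶ U), Comp G φ) :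
    fromRestrApp α Y (mapAb G f m) = F.map f (fromRestrApp α X m) := by
  induction m using DirectSum.induction_on with
  | zero =>
    simp
    rfl
  | of φ x =>
    rw [mapAb_of, fromRestrApp_of, fromRestrApp_of]
    exact PresheafOfModules.naturality_apply α
      (Over.homMk f.unop rfl : Over.mk (f.unop ≫ φ) ⟶ Over.mk φ).op x
  | add a b ha hb =>
    rw [map_add, map_add, map_add, map_add, ha, hb]
    rfl

/-- the other direction of the adjunction bijection -/
noncomputable def fromRestr (α : G ⟶ (rPre R U).obj F) : objPre G ⟶ F :=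
  PresheafOfModules.homMk
    { app := fun X => AddCommGrpCat.ofHom (fromRestrApp α X).toAddMonoidHom
      naturality := fun X Y f => by
        ext m
        exact fromRestrApp_naturality α f m }
    (fun X r m => (fromRestrApp α X).map_smul r m)

open Classical in
lemma fromRestr_app_of (α : G ⟶ (rPre R U).obj F) (X : Cᵒᵖ) (φ : X.unop ⟶ U) (x : Comp G φ) :
    (fromRestr α).app X (DirectSum.of (fun φ : X.unop ⟶ U => Comp G φ) φ x) =
      compTo α φ x :=
  fromRestrApp_of α X φ x

/-- the adjunction bijection `Hom(j_! G, F) ≃ Hom(G, F|_U)` -/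
noncomputable def homEquiv (G : PresheafOfModules.{u} (RU R U)) (F : PresheafOfModules.{u} R) :
    (objPre G ⟶ F) ≃ (G ⟶ (rPre R U).obj F) where
  toFun := toRestr
  invFun := fromRestr
  left_inv β := by
    refine objPre_hom_ext _ _ fun X φ x => ?_
    rw [fromRestr_app_of]
    rfl
  right_inv α := by
    ext X x
    rw [toRestr_app_apply]
    exact fromRestr_app_of α (op X.unop.left) X.unop.hom x

variable (R U) in
/-- the adjunction `j_! ⊣ (-)|_U` on presheaves of modules -/
noncomputable def adjPre : jPre R U ⊣ rPre R U :=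
  Adjunction.mkOfHomEquiv
    { homEquiv := homEquiv
      homEquiv_naturality_left_symm := by
        intro G' G F a α
        refine objPre_hom_ext _ _ fun X φ x => ?_
        refine (fromRestr_app_of (a ≫ α) X φ x).trans ?_
        refine Eq.trans ?_ (congrArg ((fromRestr α).app X) (mapPre_app_of a X φ x)).symm
        exact (fromRestr_app_of α X φ (compMap a φ x)).symm
      homEquiv_naturality_right := by
        intro G F F' β γ
        ext X x
        rfl }


lemma adjPre_homEquiv (G : PresheafOfModules.{u} (RU R U)) (F : PresheafOfModules.{u} R) :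
    (adjPre R U).homEquiv G F = homEquiv G F :=
  congrFun (congrFun (Adjunction.mkOfHomEquiv_homEquiv _) G) F

lemma adjPre_homEquiv_symm_apply (G : PresheafOfModules.{u} (RU R U))
    (F : PresheafOfModules.{u} R) (α : G ⟶ (rPre R U).obj F) :
    ((adjPre R U).homEquiv G F).symm α = fromRestr α := by
  rw [adjPre_homEquiv]
  rfl

lemma adjPre_unit_app (G : PresheafOfModules.{u} (RU R U)) :
    (adjPre R U).unit.app G = toRestr (𝟙 (objPre G)) := rfl

open Classical in
/-- the unit `G ⟶ (j_! G)|_U` of the presheaf-level adjunction is a monomorphism -/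
theorem mono_adjPre_unit_app (G : PresheafOfModules.{u} (RU R U)) :
    Mono ((adjPre R U).unit.app G) := by
  rw [adjPre_unit_app]
  refine PresheafOfModules.mono_of_injective (fun X => ?_)
  intro x y h
  exact DirectSum.of_injective (β := fun ψ : X.unop.left ⟶ U => Comp G ψ) X.unop.hom h

end Groth.Agent.Lib.Helper94.JShriek
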