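import Groth.Agent.Lib.Helper94.JShriekHom

/-!
# Free modules `A_X = j_{X!} O_X` on a small ringed site (helper94)

Namespace `Groth.Agent.Lib.Helper94.JShriek`.
* `freeOnHomAddEquiv_comp` (naturality), `sectFunctor`, `freeOnCorepresentableBy`.
* `sect_ext_of_mem`, `isSeparating_freeOn` (free modules on a topologically generating family
  separate), `pullFreeOnIso : f^* A_Y ≅ A_{u(Y)}`.
-/


universe u
open CategoryTheory CategoryTheory.Limits Opposite MonoidalCategory

namespace Groth.Agent.Lib.Helper94.JShriek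

open ModSite Groth.Agent.Lib.Helper94.ModTensorW Groth.Agent.Lib.Helper94.ModTensor
  Groth.Agent.Lib.Helper94.ModOver Groth.Agent.Lib.Helper94.ModFlat

variable {C : Type u} [SmallCategory C] {J : GrothendieckTopology C} (O : Sheaf J CommRingCat.{u}) (X : C)

lemma freeOnHomAddEquiv_comp {F F' : Mod O} (h : freeOn O X ⟶ F) (p : F ⟶ F') :
    freeOnHomAddEquiv O X F' (h ≫ p) = p.val.app (op X) (freeOnHomAddEquiv O X F h) := by
  change (((extZeroAdj O X).homEquiv _ F' (h ≫ p)).val.app (op (Over.mk (𝟙 X)))) _ = _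
  rw [Adjunction.homEquiv_naturality_right]
  rfl

/-- the functor of sections over `X` -/
noncomputable def sectFunctor : Mod O ⥤ Type u :=
  SheafOfModules.forget (ringSh O) ⋙ PresheafOfModules.evaluation _ (op X) ⋙
    forget (ModuleCat _)

/-- `A_X` corepresents sections over `X` -/
noncomputable def freeOnCorepresentableBy : (sectFunctor O X).CorepresentableBy (freeOn O X) where
  homEquiv {F} := (freeOnHomAddEquiv O X F).toEquiv
  homEquiv_comp {F F'} p h := freeOnHomAddEquiv_comp O X h p

/-- a section of a sheaf of modules is determined by its restrictions to a covering sieve -/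
theorem sect_ext_of_mem (F : Mod O) {Z : C} (S : Sieve Z) (hS : S ∈ J Z) (s t : sect F Z)
    (h : ∀ ⦃W : C⦄ (g : W ⟶ Z), S g → F.val.map g.op s = F.val.map g.op t) : s = t := by
  have hsh : Presieve.IsSheaf J (F.val.presheaf ⋙ forget AddCommGrpCat.{u}) :=
    (isSheaf_iff_isSheaf_of_type _ _).1
      ((Presheaf.isSheaf_iff_isSheaf_forget J F.val.presheaf (forget AddCommGrpCat.{u})).1
        F.isSheaf)
  exact (hsh.isSeparated _ hS).ext (t₁ := s) (t₂ := t) (fun W g hg => h g hg)

/-- The free modules `A_X`, `X ∈ G`, separate morphisms when `G` topologically generates. -/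
theorem isSeparating_freeOn (G : Set C)
    (hG : ∀ X : C, ∃ (ι : Type u) (Y : ι → C) (f : ∀ i, Y i ⟶ X),
      Sieve.ofArrows Y f ∈ J X ∧ ∀ i, Y i ∈ G) :
    (ObjectProperty.ofObj fun X : G => freeOn O (X : C)).IsSeparating := by
  intro F F' a b hab
  -- `a` and `b` agree on sections over members of `G`
  have key : ∀ (Y : C) (_ : Y ∈ G) (t : sect F Y),
      a.val.app (op Y) t = b.val.app (op Y) t := by
    intro Y hY t
    let h : freeOn O Y ⟶ F := (freeOnHomAddEquiv O Y F).symm t
    have hP : (ObjectProperty.ofObj fun X : G => freeOn O (X : C)) (freeOn O Y) :=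
      ObjectProperty.ofObj_apply (fun X : G => freeOn O (X : C)) ⟨Y, hY⟩
    have e := hab (freeOn O Y) hP h
    have e1 := congrArg (freeOnHomAddEquiv O Y F') e
    rw [freeOnHomAddEquiv_comp, freeOnHomAddEquiv_comp, AddEquiv.apply_symm_apply] at e1
    exact e1
  apply (SheafOfModules.forget _).map_injective
  apply PresheafOfModules.hom_ext
  intro Z
  apply ModuleCat.hom_ext
  apply LinearMap.ext
  intro s
  obtain ⟨ι, Y, f, hcov, hY⟩ := hG Z.unop
  refine sect_ext_of_mem O F' _ hcov _ _ ?_
  intro W g hg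
  obtain ⟨i, k, rfl⟩ := (Sieve.mem_ofArrows_iff Y f g).1 hg
  have n1 := PresheafOfModules.naturality_apply a.val (k ≫ f i).op s
  have n2 := PresheafOfModules.naturality_apply b.val (k ≫ f i).op s
  refine n1.symm.trans (Eq.trans ?_ n2)
  have m1 : F.val.map (k ≫ f i).op s = F.val.map k.op (F.val.map (f i).op s) :=
    F.val.map_comp_apply (f i).op k.op s
  have n3 := PresheafOfModules.naturality_apply a.val k.op (F.val.map (f i).op s)
  have n4 := PresheafOfModules.naturality_apply b.val k.op (F.val.map (f i).op s)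
  have k1 := key (Y i) (hY i) (F.val.map (f i).op s)
  refine (congrArg (a.val.app (op W)) m1).trans ?_
  refine Eq.trans ?_ (congrArg (b.val.app (op W)) m1).symm
  exact n3.trans ((congrArg (F'.val.map k.op) k1).trans n4.symm)

section Pull

variable {D : Type u} [SmallCategory D] {K : GrothendieckTopology D}
  {O_C : Sheaf J CommRingCat.{u}} {O_D : Sheaf K CommRingCat.{u}} (f : RMor O_C O_D) (Y : D)

/-- `f^* A_Y` corepresents sections over `u(Y)` -/
noncomputable def pullFreeOnCorepresentableBy :
    (sectFunctor O_C (f.fn.obj Y)).CorepresentableBy (f.pull.obj (freeOn O_D Y)) where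
  homEquiv {F} := (f.adj.homEquiv _ F).trans (freeOnHomAddEquiv O_D Y (f.push.obj F)).toEquiv
  homEquiv_comp {F F'} p h := by
    change freeOnHomAddEquiv O_D Y (f.push.obj F') (f.adj.homEquiv _ F' (h ≫ p)) = _
    rw [Adjunction.homEquiv_naturality_right, freeOnHomAddEquiv_comp]
    rfl

/-- `f^* A_Y ≅ A_{u(Y)}` -/
noncomputable def pullFreeOnIso : f.pull.obj (freeOn O_D Y) ≅ freeOn O_C (f.fn.obj Y) :=
  (pullFreeOnCorepresentableBy f Y).uniqueUpToIso (freeOnCorepresentableBy O_C (f.fn.obj Y))

end Pull

end Groth.Agent.Lib.Helper94.JShriek
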