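import Mathlib.Algebra.Category.ModuleCat.Presheaf.PushforwardZeroMonoidal
import Groth.Agent.Lib.Helper94.ModFlat

/-!
# Localisation `C/U` of a ringed site: restriction of (pre)sheaves of modules (helper94)

Namespace `Groth.Agent.Lib.Helper94.ModOver`.
* `isLocallySurjective_over`, `isLocallyInjective_over`: restriction to `C/U` preserves locally
  surjective / injective maps of presheaves.
* `restrP O U : PMod O ⥤ PMod (O.over U)`, `wMod_restrP`, `restrShfIso` (restriction commutes with
  sheafification), `restrPTensorIso`, `restrTensorIso : (M ⊗ N)|_U ≅ M|_U ⊗ N|_U`.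
-/


universe u v' u'
open CategoryTheory CategoryTheory.Limits MonoidalCategory Opposite

namespace Groth.Agent.Lib.Helper94.ModOver
open ModSite Groth.Agent.Lib.Helper94.ModTensorW Groth.Agent.Lib.Helper94.ModTensor

section General
variable {C : Type u'} [Category.{v'} C] (J : GrothendieckTopology C) (U : C)
  {A : Type*} [Category A] {FA : A → A → Type*} {CA : A → Type*}
  [∀ X Y, FunLike (FA X Y) (CA X) (CA Y)] [ConcreteCategory A FA]
  {F G : Cᵒᵖ ⥤ A} (f : F ⟶ G)

theorem isLocallySurjective_over [Presheaf.IsLocallySurjective J f] :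
    Presheaf.IsLocallySurjective (J.over U) (Functor.whiskerLeft (Over.forget U).op f) := by
  constructor
  intro X s
  rw [GrothendieckTopology.mem_over_iff]
  refine J.superset_covering ?_ (Presheaf.imageSieve_mem J f (U := op X.left) s)
  intro Y g hg
  rw [Sieve.overEquiv_iff]
  obtain ⟨t, ht⟩ := hg
  exact ⟨t, ht⟩

theorem isLocallyInjective_over [Presheaf.IsLocallyInjective J f] :
    Presheaf.IsLocallyInjective (J.over U) (Functor.whiskerLeft (Over.forget U).op f) := by
  constructor
  intro X x y h
  rw [GrothendieckTopology.mem_over_iff]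
  refine J.superset_covering ?_ (Presheaf.equalizerSieve_mem J f (X := op X.unop.left) x y h)
  intro Y g hg
  rw [Sieve.overEquiv_iff]
  exact hg

end General

variable {C : Type u} [SmallCategory C] {J : GrothendieckTopology C} (O : Sheaf J CommRingCat.{u}) (U : C)

/-- restriction of presheaves of modules to `C/U` -/
noncomputable abbrev restrP : PMod O ⥤ PMod (O.over U) :=
  PresheafOfModules.pushforward₀OfCommRingCat (Over.forget U) O.obj

variable {O}

theorem wMod_restrP {P P' : PMod O} (f : P ⟶ P') (hf : WMod J f) :
    WMod (J.over U) ((restrP O U).map f) := by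
  rw [wMod_iff, J.W_iff_isLocallyBijective] at hf
  rw [wMod_iff, (J.over U).W_iff_isLocallyBijective]
  have := hf.1
  have := hf.2
  exact ⟨isLocallyInjective_over J U ((PresheafOfModules.toPresheaf _).map f),
    isLocallySurjective_over J U ((PresheafOfModules.toPresheaf _).map f)⟩

lemma fgt_restr (M : Mod O) :
    (fgt (O.over U)).obj ((restr O U).obj M) = (restrP O U).obj ((fgt O).obj M) := rfl

/-- Restriction to `C/U` commutes with sheafification. -/
noncomputable def restrShfIso (P : PMod O) :
    (shf (O.over U)).obj ((restrP O U).obj P) ≅ (restr O U).obj ((shf O).obj P) :=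
  (@asIso _ _ _ _ ((shf (O.over U)).map ((restrP O U).map (unitMap O P)))
    (isIso_shf_map_of_wMod _ (wMod_restrP U _ (wMod_unit P)))) ≪≫
    ((asIso (shfAdj (O.over U)).counit).app ((restr O U).obj ((shf O).obj P)))

end Groth.Agent.Lib.Helper94.ModOver

namespace Groth.Agent.Lib.Helper94.ModOver
open ModSite Groth.Agent.Lib.Helper94.ModTensorW Groth.Agent.Lib.Helper94.ModTensor
variable {C : Type u} [SmallCategory C] {J : GrothendieckTopology C} (O : Sheaf J CommRingCat.{u}) (U : C)

/-- restriction commutes with the presheaf tensor product -/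
noncomputable def restrPTensorIso (A B : PMod O) :
    (restrP O U).obj A ⊗ (restrP O U).obj B ≅ (restrP O U).obj (A ⊗ B) :=
  letI : (PresheafOfModules.pushforward₀OfCommRingCat.{u} (Over.forget U) O.obj).Monoidal :=
    inferInstance
  Functor.Monoidal.μIso
    (PresheafOfModules.pushforward₀OfCommRingCat.{u} (Over.forget U) O.obj) A B

/-- `(M ⊗ N)|_U ≅ M|_U ⊗ N|_U` -/
noncomputable def restrTensorIso (M N : Mod O) :
    (restr O U).obj (((tensorBi O).obj M).obj N) ≅
      ((tensorBi (O.over U)).obj ((restr O U).obj M)).obj ((restr O U).obj N) :=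
  (restrShfIso U ((fgt O).obj M ⊗ (fgt O).obj N)).symm ≪≫
    (shf (O.over U)).mapIso (restrPTensorIso O U ((fgt O).obj M) ((fgt O).obj N)).symm

end Groth.Agent.Lib.Helper94.ModOver
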