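import Groth.Agent.Lib.Helper94.ModTensorW
import Groth.Agent.Lib.Helper94.ModSiteBasic

/-!
# The tensor product on sheaves of modules over a small ringed site (helper94)

Namespace `Groth.Agent.Lib.Helper94.ModTensor`.
-/

universe u

open CategoryTheory CategoryTheory.Limits MonoidalCategory

namespace Groth.Agent.Lib.Helper94.ModTensor

open ModSite Groth.Agent.Lib.Helper94.ModTensorW

variable {C : Type u} [SmallCategory C] {J : GrothendieckTopology C} (O : Sheaf J CommRingCat.{u})

/-- presheaves of `O`-modules -/
abbrev PMod : Type (u + 1) :=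
  PresheafOfModules.{u} (O.obj ⋙ forget₂ CommRingCat.{u} RingCat.{u})

/-- the forgetful functor to presheaves of modules -/
noncomputable abbrev fgt : Mod O ⥤ PMod O := SheafOfModules.forget (ringSh O)

/-- the sheafification adjunction, typed over `O.obj ⋙ forget₂ _ _` -/
noncomputable def shfAdj : shf O ⊣ fgt O :=
  PresheafOfModules.sheafificationAdjunction (𝟙 (ringSh O).obj)

instance : (shf O).IsLeftAdjoint := (shfAdj O).isLeftAdjoint

instance : (fgt O).IsRightAdjoint := (shfAdj O).isRightAdjoint

instance : IsIso (shfAdj O).counit :=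
  inferInstanceAs (IsIso (PresheafOfModules.sheafificationAdjunction (𝟙 (ringSh O).obj)).counit)

lemma shfAdj_unit_app (M : PMod O) : (shfAdj O).unit.app M = unitMap O M := rfl

/-- `- ⊗ N` on `Mod O` -/
noncomputable abbrev tensR (N : Mod O) : Mod O ⥤ Mod O := (tensorBi O).flip.obj N

/-- `N ⊗ -` on `Mod O` -/
noncomputable abbrev tensL (N : Mod O) : Mod O ⥤ Mod O := (tensorBi O).obj N

/-- `- ⊗ N` is sheafification of the presheaf tensor product. -/
noncomputable def tensRIso (N : Mod O) :
    tensR O N ≅ fgt O ⋙ tensorRight ((fgt O).obj N) ⋙ shf O :=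
  NatIso.ofComponents (fun M => Iso.refl _) (by
    intro M M' φ
    exact (Category.comp_id _).trans (Category.id_comp _).symm)

/-- `N ⊗ -` is sheafification of the presheaf tensor product. -/
noncomputable def tensLIso (N : Mod O) :
    tensL O N ≅ fgt O ⋙ tensorLeft ((fgt O).obj N) ⋙ shf O :=
  NatIso.ofComponents (fun M => Iso.refl _) (by
    intro M M' φ
    exact (Category.comp_id _).trans (Category.id_comp _).symm)

/-- A functor out of `Mod O` preserves colimits as soon as its composition with sheafification
does. -/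
theorem preservesColimitsOfSize_of_shf_comp {E : Type*} [Category E] (G : Mod O ⥤ E)
    [PreservesColimitsOfSize.{u, u} (shf O ⋙ G)] : PreservesColimitsOfSize.{u, u} G := by
  constructor
  intro K _
  constructor
  intro F
  let L := shf O
  let G₀ : K ⥤ PMod O := F ⋙ fgt O
  let e : F ≅ G₀ ⋙ L :=
    Functor.isoWhiskerLeft F
      (asIso (shfAdj O).counit).symm
  have h2 : PreservesColimit (G₀ ⋙ L) G := by
    refine preservesColimit_of_preserves_colimit_cocone
      (isColimitOfPreserves L (colimit.isColimit G₀)) ?_
    exact isColimitOfPreserves (L ⋙ G) (colimit.isColimit G₀)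
  exact preservesColimit_of_iso_diagram _ e.symm

/-- `shf ⋙ (- ⊗ N)` is `(- ⊗ forget N) ⋙ shf`. -/
noncomputable def shfCompTensRIso (N : Mod O) :
    tensorRight ((fgt O).obj N) ⋙ shf O ≅ shf O ⋙ tensR O N := by
  refine ?_ ≪≫ (Functor.isoWhiskerLeft (shf O) (tensRIso O N)).symm
  refine @asIso _ _ _ _ (Functor.whiskerRight (shfAdj O).unit
    (tensorRight ((fgt O).obj N) ⋙ shf O)) ?_
  apply (config := {allowSynthFailures := true}) NatIso.isIso_of_isIso_app
  intro M
  exact isIso_shf_map_of_wMod _ (wMod_whiskerRight J _ (wMod_unit M) _)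

instance (N : Mod O) : PreservesColimitsOfSize.{u, u} (tensR O N) := by
  have : PreservesColimitsOfSize.{u, u} (shf O ⋙ tensR O N) :=
    preservesColimits_of_natIso (shfCompTensRIso O N)
  exact preservesColimitsOfSize_of_shf_comp O _

end Groth.Agent.Lib.Helper94.ModTensor
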