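import Groth.Agent.Lib.Helper94.JShriekTensor

/-!
# Flatness and extension by zero / restriction on a small ringed site (helper94)

Namespace `Groth.Agent.Lib.Helper94.JShriek`.
* `projHom_naturality`, `projHom_naturality_left`, `projNat`, `projNat'` (naturality of the presheaf
  projection formula), `tensRExtZeroIso : (- ⊗ j_! M) ≅ restr ⋙ (M ⊗ -) ⋙ j_!`,
  `extZeroTensRIso : (- ⊗ N|_U) ⋙ j_! ≅ j_! ⋙ (- ⊗ N)`.
* `tensLeftUnitor`, `tensRightUnitor`, `tensRUnitIso`, `isFlat_unit`, `isFlat_of_iso`.
* `isFlat_extZero`, `isFlat_restr`, `isFlat_freeOn`, `freeOnTensorIso : A_U ⊗ M ≅ j_!(M|_U)`.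
-/


universe u
open CategoryTheory CategoryTheory.Limits Opposite MonoidalCategory

namespace Groth.Agent.Lib.Helper94.JShriek

section Comm

variable {C : Type u} [SmallCategory C] {R : Cᵒᵖ ⥤ CommRingCat.{u}} {U : C}

lemma projHom_naturality (G : PU R U) {F F' : PC R} (f : F ⟶ F') :
    (jC R U).map (G ◁ (rC R U).map f) ≫ projHom G F' = projHom G F ≫ ((jC R U).obj G ◁ f) := by
  unfold projHom
  rw [← Adjunction.homEquiv_naturality_left_symm, ← Adjunction.homEquiv_naturality_right_symm]
  congr 1
  have h1 := whisker_exchange ((adjC R U).unit.app G) ((rC R U).map f)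
  have h2 := Functor.LaxMonoidal.μ_natural_right (rC R U) ((jC R U).obj G) f
  rw [Category.assoc]
  refine Eq.trans ?_ (congrArg (fun t => (adjC R U).unit.app G ▷ (rC R U).obj F ≫ t) h2)
  rw [← Category.assoc, ← Category.assoc]
  exact congrArg (fun t => t ≫ (Functor.Monoidal.μIso (rC R U) ((jC R U).obj G) F').hom) h1

lemma projHom_naturality_left {G G' : PU R U} (g : G ⟶ G') (F : PC R) :
    (jC R U).map (g ▷ (rC R U).obj F) ≫ projHom G' F = projHom G F ≫ ((jC R U).map g ▷ F) := by
  unfold projHom
  rw [← Adjunction.homEquiv_naturality_left_symm, ← Adjunction.homEquiv_naturality_right_symm]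
  congr 1
  have h0 := (adjC R U).unit.naturality g
  have h1 : g ▷ (rC R U).obj F ≫ (adjC R U).unit.app G' ▷ (rC R U).obj F =
      (adjC R U).unit.app G ▷ (rC R U).obj F ≫
        (rC R U).map ((jC R U).map g) ▷ (rC R U).obj F := by
    rw [← comp_whiskerRight, ← comp_whiskerRight]
    exact congrArg (fun t => t ▷ (rC R U).obj F) h0
  have h2 := Functor.LaxMonoidal.μ_natural_left (rC R U) ((jC R U).map g) F
  rw [Category.assoc]
  refine Eq.trans ?_ (congrArg (fun t => (adjC R U).unit.app G ▷ (rC R U).obj F ≫ t) h2)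
  rw [← Category.assoc, ← Category.assoc]
  exact congrArg (fun t => t ≫ (Functor.Monoidal.μIso (rC R U) ((jC R U).obj G') F).hom) h1

end Comm

section
variable {C D : Type*} [Category C] [Category D]

lemma mono_map_of_natIso {F G : C ⥤ D} (α : F ≅ G) {X Y : C} (f : X ⟶ Y)
    (h : Mono (G.map f)) : Mono (F.map f) := by
  have : F.map f = α.hom.app X ≫ G.map f ≫ α.inv.app Y := by simp
  rw [this]
  infer_instance

end

section Sheaf

open ModSite Groth.Agent.Lib.Helper94.ModTensorW Groth.Agent.Lib.Helper94.ModTensor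
  Groth.Agent.Lib.Helper94.ModOver Groth.Agent.Lib.Helper94.ModFlat

variable {C : Type u} [SmallCategory C] {J : GrothendieckTopology C} (O : Sheaf J CommRingCat.{u}) (U : C)

/-- presheaf-level projection formula as a natural isomorphism -/
noncomputable def projNat (G : PMod (O.over U)) :
    restrP O U ⋙ tensorLeft G ⋙ jP O U ≅ tensorLeft ((jP O U).obj G) :=
  NatIso.ofComponents (fun F => projIsoP O U G F) (by
    intro F F' f
    exact projHom_naturality (R := O.obj) (U := U) G f)

/-- presheaf-level projection formula as a natural isomorphism in the first variable -/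
noncomputable def projNat' (F : PMod O) :
    tensorRight ((restrP O U).obj F) ⋙ jP O U ≅ jP O U ⋙ tensorRight F :=
  NatIso.ofComponents (fun G => projIsoP O U G F) (by
    intro G G' g
    exact projHom_naturality_left (R := O.obj) (U := U) g F)

/-- `j_!(- ⊗ N|_U) ≅ j_!(-) ⊗ N`, naturally -/
noncomputable def extZeroTensRIso (N : Mod O) :
    tensR (O.over U) ((restr O U).obj N) ⋙ extZero O U ≅ extZero O U ⋙ tensR O N :=
  Functor.isoWhiskerLeft (tensR (O.over U) ((restr O U).obj N)) (extZeroIso O U) ≪≫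
    Functor.isoWhiskerRight (tensRIso (O.over U) ((restr O U).obj N)) (jS O U) ≪≫
    (Functor.isoWhiskerLeft (fgt (O.over U)) (Functor.isoWhiskerLeft
      (tensorRight ((restrP O U).obj ((fgt O).obj N))) (shfJIso O U).symm) : _ ≅
      fgt (O.over U) ⋙ tensorRight ((restrP O U).obj ((fgt O).obj N)) ⋙ jP O U ⋙ shf O) ≪≫
    Functor.isoWhiskerLeft (fgt (O.over U)) (Functor.isoWhiskerRight
      (projNat' O U ((fgt O).obj N)) (shf O)) ≪≫
    (Functor.isoWhiskerLeft (fgt (O.over U)) (Functor.isoWhiskerLeft (jP O U)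
      (shfCompTensRIso O N)) : _ ≅ jS O U ⋙ tensR O N) ≪≫
    Functor.isoWhiskerRight (extZeroIso O U).symm (tensR O N)

/-- `- ⊗ j_! M` is `j_!(M ⊗ (-)|_U)`, naturally -/
noncomputable def tensRExtZeroIso (M : Mod (O.over U)) :
    tensR O ((extZero O U).obj M) ≅ restr O U ⋙ tensL (O.over U) M ⋙ extZero O U :=
  (tensorBi O).flip.mapIso ((extZeroIso O U).app M) ≪≫
    (tensRShfIso O ((jP O U).obj ((fgt (O.over U)).obj M))).symm ≪≫
    Functor.isoWhiskerLeft (fgt O) (Functor.isoWhiskerRight
      (BraidedCategory.tensorLeftIsoTensorRight ((jP O U).obj ((fgt (O.over U)).obj M))).symm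
      (shf O)) ≪≫
    Functor.isoWhiskerLeft (fgt O) (Functor.isoWhiskerRight
      (projNat O U ((fgt (O.over U)).obj M)).symm (shf O)) ≪≫
    (Functor.isoWhiskerRight (fgtRestrIso O U)
      (tensorLeft ((fgt (O.over U)).obj M) ⋙ jP O U ⋙ shf O) : _ ≅
        (restr O U ⋙ fgt (O.over U)) ⋙ tensorLeft ((fgt (O.over U)).obj M) ⋙ jP O U ⋙ shf O) ≪≫
    Functor.isoWhiskerLeft (restr O U) (Functor.isoWhiskerLeft (fgt (O.over U))
      (Functor.isoWhiskerLeft (tensorLeft ((fgt (O.over U)).obj M)) (shfJIso O U))) ≪≫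
    Functor.isoWhiskerLeft (restr O U) (Functor.isoWhiskerRight (tensLIso (O.over U) M).symm
      (jS O U) : _ ≅ tensL (O.over U) M ⋙ jS O U) ≪≫
    Functor.isoWhiskerLeft (restr O U) (Functor.isoWhiskerLeft (tensL (O.over U) M)
      (extZeroIso O U).symm)

/-- left unitor for the tensor product of sheaves of modules -/
noncomputable def tensLeftUnitor (M : Mod O) : ((tensorBi O).obj (ModSite.unit O)).obj M ≅ M :=
  (shf O).mapIso (λ_ ((fgt O).obj M)) ≪≫ (asIso (shfAdj O).counit).app M

/-- right unitor for the tensor product of sheaves of modules -/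
noncomputable def tensRightUnitor (M : Mod O) : ((tensorBi O).obj M).obj (ModSite.unit O) ≅ M :=
  (shf O).mapIso (ρ_ ((fgt O).obj M)) ≪≫ (asIso (shfAdj O).counit).app M

/-- `- ⊗ O ≅ id` -/
noncomputable def tensRUnitIso : tensR O (ModSite.unit O) ≅ 𝟭 (Mod O) :=
  NatIso.ofComponents (fun M => tensRightUnitor O M) (by
    intro M M' f
    change (shf O).map ((fgt O).map f ▷ _) ≫ (shf O).map (ρ_ ((fgt O).obj M')).hom ≫
      (shfAdj O).counit.app M' = ((shf O).map (ρ_ ((fgt O).obj M)).hom ≫
      (shfAdj O).counit.app M) ≫ f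
    rw [← Category.assoc, ← Functor.map_comp, rightUnitor_naturality, Functor.map_comp,
      Category.assoc, Category.assoc]
    congr 1
    exact (shfAdj O).counit.naturality f)

theorem isFlat_unit : IsFlat (ModSite.unit O) :=
  ⟨preservesFiniteLimits_of_natIso (tensRUnitIso O).symm,
    preservesFiniteColimits_of_natIso (tensRUnitIso O).symm⟩

variable {O} in
theorem isFlat_of_iso {F F' : Mod O} (e : F ≅ F') (h : IsFlat F) : IsFlat F' := by
  have := h.1
  have := h.2
  exact ⟨preservesFiniteLimits_of_natIso ((tensorBi O).flip.mapIso e),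
    preservesFiniteColimits_of_natIso ((tensorBi O).flip.mapIso e)⟩

variable {O U} in
/-- extension by zero of a flat module is flat -/
theorem isFlat_extZero (M : Mod (O.over U)) (hM : IsFlat M) : IsFlat ((extZero O U).obj M) := by
  have h1 : PreservesFiniteLimits (tensR (O.over U) M) := hM.1
  have h2 : PreservesFiniteLimits (tensL (O.over U) M) :=
    preservesFiniteLimits_of_natIso (tensLIsoTensR (O.over U) M).symm
  have h3 : PreservesFiniteLimits (extZero O U) := preservesFiniteLimits_extZero
  have h4 : PreservesFiniteLimits (restr O U) := inferInstance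
  have h5 : PreservesFiniteLimits (restr O U ⋙ tensL (O.over U) M ⋙ extZero O U) := inferInstance
  exact ⟨preservesFiniteLimits_of_natIso (tensRExtZeroIso O U M).symm, inferInstance⟩

variable {O} in
/-- restriction of a flat module is flat -/
theorem isFlat_restr (M : Mod O) (hM : IsFlat M) : IsFlat ((restr O U).obj M) := by
  rw [isFlat_iff_preservesMono]
  intro X Y f hf
  have h1 : Mono ((extZero O U).map f) := mono_extZero_map f
  have h2 : Mono ((tensR O M).map ((extZero O U).map f)) :=
    (isFlat_iff_preservesMono O M).1 hM _ h1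
  have h3 : Mono ((tensR (O.over U) ((restr O U).obj M) ⋙ extZero O U).map f) :=
    mono_map_of_natIso (extZeroTensRIso O U M) f h2
  exact (extZero O U).mono_of_mono_map h3

theorem isFlat_freeOn : IsFlat (freeOn O U) :=
  isFlat_extZero _ (isFlat_unit (O.over U))

/-- `A_U ⊗ M ≅ j_! (M|_U)` -/
noncomputable def freeOnTensorIso (M : Mod O) :
    ((tensorBi O).obj (freeOn O U)).obj M ≅ (extZero O U).obj ((restr O U).obj M) :=
  (projIso O U (ModSite.unit (O.over U)) M).symm ≪≫
    (extZero O U).mapIso (tensLeftUnitor (O.over U) ((restr O U).obj M))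

end Sheaf

end Groth.Agent.Lib.Helper94.JShriek
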