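import Groth.Agent.Lib.Helper94.JShriekFlat
import Mathlib.CategoryTheory.Adjunction.Additive

/-!
# Sections of the internal hom, `Hom(A_X, F) = F(X)` on a small ringed site (helper94)

Namespace `Groth.Agent.Lib.Helper94.JShriek`.
* `sections_eval_bijective` (global sections of a presheaf of modules = value at a terminal object),
  `unitHomAddEquiv`, `freeOnHomAddEquiv : (freeOn O X ⟶ F) ≃+ F(X)`.
* `sectSheafHomAddEquiv : Hom(M,N)(X) ≃+ Hom(M|_X, N|_X)`,
  `restrSheafHomIso : sheafHom M ⋙ restr ≅ restr ⋙ sheafHom (M|_X)`.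
-/


universe u
open CategoryTheory CategoryTheory.Limits Opposite MonoidalCategory

namespace Groth.Agent.Lib.Helper94.JShriek

section Terminal

variable {D : Type*} [Category D] {R : Dᵒᵖ ⥤ RingCat.{u}} (M : PresheafOfModules.{u} R)
  {T : D} (hT : IsTerminal T)

include hT in
theorem sections_eval_bijective :
    Function.Bijective (fun s : M.sections => (s.val (op T) : M.obj (op T))) := by
  constructor
  · intro s t h
    ext X
    have hs := PresheafOfModules.sections_property s (hT.from X.unop).op
    have ht := PresheafOfModules.sections_property t (hT.from X.unop).op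
    rw [← hs, ← ht]
    exact congrArg (M.map (hT.from X.unop).op) h
  · intro (a : M.obj (op T))
    refine ⟨PresheafOfModules.sectionsMk (fun X => M.map (hT.from X.unop).op a) ?_, ?_⟩
    · intro X Y f
      refine (M.map_comp_apply _ _ a).symm.trans (M.congr_map_apply ?_ a)
      exact congrArg Quiver.Hom.op (hT.hom_ext _ _)
    · change M.map (hT.from T).op a = a
      have : (hT.from T).op = 𝟙 (op T) := congrArg Quiver.Hom.op (hT.hom_ext _ _)
      refine (M.congr_map_apply this a).trans ?_
      rw [M.map_id]
      rfl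

end Terminal

section Sheaf

open ModSite Groth.Agent.Lib.Helper94.ModTensorW Groth.Agent.Lib.Helper94.ModTensor
  Groth.Agent.Lib.Helper94.ModOver Groth.Agent.Lib.Helper94.ModFlat

variable {D : Type u} [SmallCategory D] {K : GrothendieckTopology D} {S : Sheaf K RingCat.{u}}

/-- evaluation at `1` over a terminal object: `Hom(O, Q) ≃+ Q(T)` -/
noncomputable def unitHomAddEquiv (Q : SheafOfModules.{u} S) {T : D} (hT : IsTerminal T) :
    (SheafOfModules.unit S ⟶ Q) ≃+ Q.val.obj (op T) :=
  AddEquiv.ofBijective
    ({ toFun := fun f => f.val.app (op T) (1 : S.obj.obj (op T))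
       map_zero' := rfl
       map_add' := fun f g => rfl } :
      (SheafOfModules.unit S ⟶ Q) →+ Q.val.obj (op T))
    (by
      have h1 := sections_eval_bijective Q.val hT
      have h2 := Q.unitHomEquiv.bijective
      exact h1.comp h2)

variable {C : Type u} [SmallCategory C] {J : GrothendieckTopology C} (O : Sheaf J CommRingCat.{u}) (X : C)

/-- `Hom(A_X, F) ≃+ F(X)` -/
noncomputable def freeOnHomAddEquiv (F : Mod O) : (freeOn O X ⟶ F) ≃+ sect F X :=
  ((extZeroAdj O X).homAddEquiv _ F).trans
    (unitHomAddEquiv ((restr O X).obj F) Over.mkIdTerminal)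

/-- precomposition with an isomorphism, as an additive equivalence -/
def homAddEquivOfIso {A : Type*} [Category A] [Preadditive A] {X Y : A} (e : X ≅ Y) (Z : A) :
    (X ⟶ Z) ≃+ (Y ⟶ Z) where
  toFun f := e.inv ≫ f
  invFun g := e.hom ≫ g
  left_inv f := by simp
  right_inv g := by simp
  map_add' f g := Preadditive.comp_add _ _ _ _ _ _

/-- sections of the internal hom: `Hom(M,N)(X) ≃+ Hom(M|_X, N|_X)` -/
noncomputable def sectSheafHomAddEquiv (M N : Mod O) [HasSheafHom M] :
    sect ((sheafHom M).obj N) X ≃+ ((restr O X).obj M ⟶ (restr O X).obj N) :=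
  (freeOnHomAddEquiv O X ((sheafHom M).obj N)).symm.trans
    (((sheafHomAdj M).homAddEquiv (freeOn O X) N).symm.trans
      ((homAddEquivOfIso (freeOnTensorIso O X M) N).trans
        ((extZeroAdj O X).homAddEquiv ((restr O X).obj M) N)))

/-- restriction commutes with the internal hom -/
noncomputable def restrSheafHomIso (M : Mod O) [HasSheafHom M]
    [HasSheafHom ((restr O X).obj M)] :
    sheafHom M ⋙ restr O X ≅ restr O X ⋙ sheafHom ((restr O X).obj M) :=
  (((extZeroAdj O X).comp (sheafHomAdj M)).ofNatIsoLeft (extZeroTensRIso O X M).symm).rightAdjointUniq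
    ((sheafHomAdj ((restr O X).obj M)).comp (extZeroAdj O X))

end Sheaf

end Groth.Agent.Lib.Helper94.JShriek
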