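import Mathlib

/-!
# Abstract K-flatness machinery (helper94)

Namespace `Groth.Agent.Lib.Helper94.KFlatAbs`.

For an additive functor `Ψ : CochainComplex A ℤ ⥤ CochainComplex B ℤ` commuting with shifts,
which sends degreewise split short exact sequences to short exact sequences (`PreservesSplit Ψ`)
and preserves homotopies (`PreservesHomotopy Ψ`):
* `acyclic_cone_two_of_three` : among `Ψ K`, `Ψ L`, `Ψ (cone φ)`, two acyclic implies the third;
* `quasiIso_map_of_acyclic_cone` : `Ψ (cone φ)` acyclic ⇒ `Ψ φ` quasi-iso (no cone-vs-Ψ iso needed).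
-/

universe v₁ v₂ u₁ u₂

open CategoryTheory CategoryTheory.Limits HomologicalComplex CochainComplex

namespace Groth.Agent.Lib.Helper94.KFlatAbs

section General

variable {A : Type u₁} [Category.{v₁} A] [Abelian A]

/-- acyclicity is invariant under shifts -/
lemma acyclic_shift_iff (K : CochainComplex A ℤ) (n : ℤ) : (K⟦n⟧).Acyclic ↔ K.Acyclic := by
  simp only [acyclic_iff, exactAt_iff_isZero_homology]
  constructor
  · intro h j
    obtain ⟨i, rfl⟩ : ∃ i, j = n + i := ⟨j - n, by lia⟩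
    exact (h i).of_iso
      (((homologyFunctor A (ComplexShape.up ℤ) 0).shiftIso n i (n + i) rfl).app K).symm
  · intro h i
    exact (h (n + i)).of_iso
      (((homologyFunctor A (ComplexShape.up ℤ) 0).shiftIso n i (n + i) rfl).app K)

lemma acyclic_of_iso {K L : CochainComplex A ℤ} (e : K ≅ L) (h : K.Acyclic) : L.Acyclic := by
  simp only [acyclic_iff, exactAt_iff_isZero_homology] at h ⊢
  intro i
  exact (h i).of_iso ((homologyFunctor A (ComplexShape.up ℤ) i).mapIso e).symm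

lemma quasiIso_neg {K L : CochainComplex A ℤ} (f : K ⟶ L) [QuasiIso f] : QuasiIso (-f) := by
  have h1 : IsIso (-𝟙 L : L ⟶ L) := ⟨⟨-𝟙 L, by simp, by simp⟩⟩
  have h2 : -f = f ≫ (-𝟙 L) := by simp
  rw [h2]
  infer_instance

variable {S : ShortComplex (CochainComplex A ℤ)}

/-- two out of three for acyclicity in a short exact sequence of complexes -/
lemma acyclic_X₁_of (hS : S.ShortExact) (h₂ : S.X₂.Acyclic) (h₃ : S.X₃.Acyclic) :
    S.X₁.Acyclic := by
  simp only [acyclic_iff, exactAt_iff_isZero_homology] at h₂ h₃ ⊢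
  intro j
  exact (hS.homology_exact₁ (j - 1) j (by simp)).isZero_X₂
    ((h₃ _).eq_of_src _ _) ((h₂ _).eq_of_tgt _ _)

lemma acyclic_X₃_of (hS : S.ShortExact) (h₁ : S.X₁.Acyclic) (h₂ : S.X₂.Acyclic) :
    S.X₃.Acyclic := by
  simp only [acyclic_iff, exactAt_iff_isZero_homology] at h₁ h₂ ⊢
  intro i
  exact (hS.homology_exact₃ i (i + 1) (by simp)).isZero_X₂
    ((h₂ _).eq_of_src _ _) ((h₁ _).eq_of_tgt _ _)

/-- in a short exact sequence of complexes with acyclic kernel, the projection is a quasi-iso -/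
lemma quasiIso_g_of_acyclic_X₁ (hS : S.ShortExact) (h₁ : S.X₁.Acyclic) : QuasiIso S.g := by
  simp only [acyclic_iff, exactAt_iff_isZero_homology] at h₁
  rw [quasiIso_iff]
  intro i
  rw [quasiIsoAt_iff_isIso_homologyMap]
  have hm : Mono (homologyMap S.g i) :=
    (hS.homology_exact₂ i).mono_g ((h₁ i).eq_of_src _ _)
  have he : Epi (homologyMap S.g i) :=
    (hS.homology_exact₃ i (i + 1) (by simp)).epi_f ((h₁ _).eq_of_tgt _ _)
  exact isIso_of_mono_of_epi _

/-- in a short exact sequence of complexes with acyclic cokernel, the injection is a quasi-iso -/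
lemma quasiIso_f_of_acyclic_X₃ (hS : S.ShortExact) (h₃ : S.X₃.Acyclic) : QuasiIso S.f := by
  simp only [acyclic_iff, exactAt_iff_isZero_homology] at h₃
  rw [quasiIso_iff]
  intro i
  rw [quasiIsoAt_iff_isIso_homologyMap]
  have hm : Mono (homologyMap S.f i) :=
    (hS.homology_exact₁ (i - 1) i (by simp)).mono_g ((h₃ _).eq_of_src _ _)
  have he : Epi (homologyMap S.f i) :=
    (hS.homology_exact₂ i).epi_f ((h₃ i).eq_of_tgt _ _)
  exact isIso_of_mono_of_epi _

/-- a morphism of cochain complexes is a quasi-isomorphism iff its mapping cone is acyclic -/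
lemma quasiIso_iff_acyclic_mappingCone {K L : CochainComplex A ℤ} (φ : K ⟶ L) :
    QuasiIso φ ↔ (mappingCone φ).Acyclic := by
  rw [← HomotopyCategory.quotient_obj_mem_subcategoryAcyclic_iff_acyclic,
    ← HomologicalComplex.mem_quasiIso_iff, ← HomotopyCategory.quotient_map_mem_quasiIso_iff,
    HomotopyCategory.quasiIso_eq_trW_subcategoryAcyclic]
  exact (HomotopyCategory.subcategoryAcyclic A).trW_iff_of_distinguished _
    (HomotopyCategory.mappingCone_triangleh_distinguished φ)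

end General

section Functor

variable {A : Type u₁} [Category.{v₁} A] [Abelian A] {B : Type u₂} [Category.{v₂} B] [Abelian B]
  (Ψ : CochainComplex A ℤ ⥤ CochainComplex B ℤ) [Ψ.Additive]

/-- `Ψ` sends degreewise split short exact sequences to short exact sequences -/
def PreservesSplit : Prop :=
  ∀ (S : ShortComplex (CochainComplex A ℤ)),
    (∀ n : ℤ, Nonempty (S.map (eval A (ComplexShape.up ℤ) n)).Splitting) → (S.map Ψ).ShortExact

/-- `Ψ` preserves homotopies -/
def PreservesHomotopy : Prop :=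
  ∀ ⦃K L : CochainComplex A ℤ⦄ (f g : K ⟶ L), Homotopy f g → Nonempty (Homotopy (Ψ.map f) (Ψ.map g))

variable {Ψ}

lemma quasiIso_map_of_homotopyEquiv (hΨ : PreservesHomotopy Ψ)
    {K L : CochainComplex A ℤ} (e : HomotopyEquiv K L) : QuasiIso (Ψ.map e.hom) := by
  obtain ⟨h1⟩ := hΨ _ _ e.homotopyHomInvId
  obtain ⟨h2⟩ := hΨ _ _ e.homotopyInvHomId
  let e' : HomotopyEquiv (Ψ.obj K) (Ψ.obj L) :=
    { hom := Ψ.map e.hom
      inv := Ψ.map e.inv
      homotopyHomInvId := (Homotopy.ofEq (Ψ.map_comp _ _).symm).trans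
        (h1.trans (Homotopy.ofEq (Ψ.map_id _)))
      homotopyInvHomId := (Homotopy.ofEq (Ψ.map_comp _ _).symm).trans
        (h2.trans (Homotopy.ofEq (Ψ.map_id _))) }
  exact e'.quasiIso_hom

variable [Ψ.CommShift ℤ]

lemma acyclic_obj_shift_iff (K : CochainComplex A ℤ) (n : ℤ) :
    (Ψ.obj (K⟦n⟧)).Acyclic ↔ (Ψ.obj K).Acyclic := by
  rw [← acyclic_shift_iff (Ψ.obj K) n]
  exact ⟨acyclic_of_iso ((Ψ.commShiftIso n).app K), acyclic_of_iso ((Ψ.commShiftIso n).app K).symm⟩

variable {K L : CochainComplex A ℤ} (φ : K ⟶ L)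

/-- `Ψ` applied to the short exact sequence `L → cone φ → K⟦1⟧` -/
lemma shortExact_map_cone (hΨ : PreservesSplit Ψ) :
    ((mappingCone.triangleRotateShortComplex φ).map Ψ).ShortExact :=
  hΨ _ (fun n => ⟨mappingCone.triangleRotateShortComplexSplitting φ n⟩)

theorem acyclic_cone (hΨ : PreservesSplit Ψ) (hK : (Ψ.obj K).Acyclic) (hL : (Ψ.obj L).Acyclic) :
    (Ψ.obj (mappingCone φ)).Acyclic :=
  (shortExact_map_cone φ hΨ).acyclic_X₂ hL ((acyclic_obj_shift_iff K 1).2 hK)

theorem acyclic_tgt_of_cone (hΨ : PreservesSplit Ψ) (hK : (Ψ.obj K).Acyclic)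
    (hC : (Ψ.obj (mappingCone φ)).Acyclic) : (Ψ.obj L).Acyclic :=
  acyclic_X₁_of (shortExact_map_cone φ hΨ) hC ((acyclic_obj_shift_iff K 1).2 hK)

theorem acyclic_src_of_cone (hΨ : PreservesSplit Ψ) (hL : (Ψ.obj L).Acyclic)
    (hC : (Ψ.obj (mappingCone φ)).Acyclic) : (Ψ.obj K).Acyclic :=
  (acyclic_obj_shift_iff K 1).1 (acyclic_X₃_of (shortExact_map_cone φ hΨ) hL hC)

/-- **Key lemma**: if `Ψ (cone φ)` is acyclic, then `Ψ φ` is a quasi-isomorphism. -/
theorem quasiIso_map_of_acyclic_cone (hΨ : PreservesSplit Ψ)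
    (hΨ' : PreservesHomotopy Ψ) (hC : (Ψ.obj (mappingCone φ)).Acyclic) :
    QuasiIso (Ψ.map φ) := by
  -- `ι : L ⟶ cone φ`, and the short exact sequence `cone φ → cone ι → L⟦1⟧`
  let ι := mappingCone.inr φ
  have hS := shortExact_map_cone ι hΨ
  let δ' : mappingCone ι ⟶ L⟦(1 : ℤ)⟧ := (mappingCone.triangle ι).mor₃
  have h1 : QuasiIso (Ψ.map δ') :=
    quasiIso_g_of_acyclic_X₁ hS hC
  have h2 : QuasiIso (Ψ.map (mappingCone.rotateHomotopyEquiv φ).hom) :=
    quasiIso_map_of_homotopyEquiv hΨ' _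
  have h3 : QuasiIso (Ψ.map (-φ⟦(1 : ℤ)⟧')) := by
    have e : Ψ.map (-φ⟦(1 : ℤ)⟧') = Ψ.map (mappingCone.rotateHomotopyEquiv φ).hom ≫
        Ψ.map δ' :=
      (congrArg Ψ.map (mappingCone.rotateHomotopyEquiv_comm₃ φ).symm).trans (Ψ.map_comp _ _)
    rw [e]
    exact quasiIso_comp _ _
  have h4 : QuasiIso (Ψ.map (φ⟦(1 : ℤ)⟧')) := by
    rw [Ψ.map_neg] at h3
    have : Ψ.map (φ⟦(1 : ℤ)⟧') = -(-Ψ.map (φ⟦(1 : ℤ)⟧')) := (neg_neg _).symm
    rw [this]
    exact quasiIso_neg _
  have h5 : QuasiIso ((Ψ.map φ)⟦(1 : ℤ)⟧') := by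
    have nat := (Ψ.commShiftIso (1 : ℤ)).hom.naturality φ
    dsimp at nat
    have : (Ψ.map φ)⟦(1 : ℤ)⟧' = ((Ψ.commShiftIso (1 : ℤ)).app K).inv ≫ Ψ.map (φ⟦(1 : ℤ)⟧') ≫
        ((Ψ.commShiftIso (1 : ℤ)).app L).hom := by
      rw [Iso.app_inv, Iso.app_hom, nat, Iso.inv_hom_id_app_assoc]
    rw [this]
    infer_instance
  exact (quasiIso_shift_iff _ 1).1 h5

end Functor

section Colimits

universe v u w w'

lemma exact_of_pointwise {J : Type*} [Category J] {D : Type u} [Category.{v} D] [Abelian D]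
    (S : ShortComplex (J ⥤ D))
    (h : ∀ j, (S.map ((evaluation J D).obj j)).Exact) : S.Exact := by
  rw [ShortComplex.exact_iff_isZero_homology, Functor.isZero_iff]
  intro j
  have h1 := h j
  rw [ShortComplex.exact_iff_isZero_homology] at h1
  exact h1.of_iso (S.mapHomologyIso ((evaluation J D).obj j)).symm

theorem acyclic_of_isColimit {D : Type u} [Category.{v} D] [Abelian D] {J : Type w} [Category.{w'} J]
    [HasColimitsOfShape J D] [HasExactColimitsOfShape J D]
    {G : J ⥤ CochainComplex D ℤ} (c : Cocone G) (hc : IsColimit c)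
    (h : ∀ j, (G.obj j).Acyclic) : c.pt.Acyclic := by
  intro n
  let i := (ComplexShape.up ℤ).prev n
  let k := (ComplexShape.up ℤ).next n
  let S : ShortComplex (J ⥤ D) :=
    ShortComplex.mk (X₁ := G ⋙ eval D (ComplexShape.up ℤ) i) (X₂ := G ⋙ eval D (ComplexShape.up ℤ) n)
      (X₃ := G ⋙ eval D (ComplexShape.up ℤ) k)
      { app := fun j => (G.obj j).d i n
        naturality := fun j j' φ => ((G.map φ).comm i n) }
      { app := fun j => (G.obj j).d n k
        naturality := fun j j' φ => ((G.map φ).comm n k) }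
      (by ext j; exact (G.obj j).d_comp_d i n k)
  have hS : S.Exact := exact_of_pointwise S (fun j => h j n)
  exact colim.exact_mapShortComplex (S := S) hS
    (isColimitOfPreserves (eval D (ComplexShape.up ℤ) i) hc)
    (isColimitOfPreserves (eval D (ComplexShape.up ℤ) n) hc)
    (isColimitOfPreserves (eval D (ComplexShape.up ℤ) k) hc)
    (c.pt.d i n) (c.pt.d n k)
    (fun j => (c.ι.app j).comm i n) (fun j => (c.ι.app j).comm n k)

end Colimits

end Groth.Agent.Lib.Helper94.KFlatAbs
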