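import Groth.Agent.Lib.Helper94.KFlatBi
import Groth.Prelude.Def_KFlatSite

/-!
# K-flat complexes of modules over a ring (helper94)

Namespace `Groth.Agent.Lib.Helper94.KFlatRing`. Bridges the K-flat condition for `DRing.Cx R`
(with Mathlib's tensor product of complexes) with `KFlatBi.IsKFlat₂ (curriedTensor (ModuleCat R))`.
-/

universe u

open CategoryTheory CategoryTheory.Limits HomologicalComplex MonoidalCategory

namespace Groth.Agent.Lib.Helper94.KFlatRing

open Groth.Agent.Lib.Helper94.KFlatBi

variable (R : Type u) [CommRing R]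

/-- the K-flat condition as spelled in the `DRing` statements -/
def KF (K : DRing.Cx R) : Prop :=
  ∀ L : DRing.Cx R, (∀ i : ℤ, IsZero (L.homology i)) → ∀ i : ℤ, IsZero ((L ⊗ K).homology i)

lemma acyclic_iff_isZero_homology {A : Type*} [Category A] [Abelian A] (K : CochainComplex A ℤ) :
    K.Acyclic ↔ ∀ i : ℤ, IsZero (K.homology i) := by
  rw [acyclic_iff]
  exact forall_congr' fun i => exactAt_iff_isZero_homology K i

lemma kf_iff (K : DRing.Cx R) : KF R K ↔ IsKFlat₂ (curriedTensor (ModuleCat.{u} R)) K := by
  constructor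
  · intro h F hF
    exact (acyclic_iff_isZero_homology _).2 (h F ((acyclic_iff_isZero_homology F).1 hF))
  · intro h F hF
    exact (acyclic_iff_isZero_homology _).1 (h F ((acyclic_iff_isZero_homology F).2 hF))

section SES

/-- tensoring (on the left) a short exact sequence of modules with flat cokernel stays short
exact -/
theorem shortExact_map_tensorLeft_of_flat (S : ShortComplex (ModuleCat.{u} R)) (hS : S.ShortExact)
    (hF : Module.Flat R S.X₃) (X : ModuleCat.{u} R) :
    (S.map ((curriedTensor (ModuleCat.{u} R)).obj X)).ShortExact := by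
  have h1 := (Functor.preservesFiniteColimits_iff_forall_exact_map_and_epi
    ((curriedTensor (ModuleCat.{u} R)).obj X)).1 inferInstance S hS
  refine { exact := h1.1, mono_f := ?_, epi_g := h1.2 }
  change Mono (X ◁ S.f)
  rw [ModuleCat.mono_iff_injective]
  exact LinearMap.lTensor_injective_of_exact_of_flat S.g.hom hS.moduleCat_surjective_g S.f.hom
    hS.moduleCat_injective_f
    ((ShortComplex.ShortExact.moduleCat_exact_iff_function_exact S).1 hS.exact) X

/-- **S6902**: two out of three for K-flatness in a short exact sequence with flat cokernel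
terms -/
theorem kf_two_of_three (S : ShortComplex (DRing.Cx R)) (hS : S.ShortExact)
    (h3 : DRing.TermwiseFlat S.X₃) :
    (KF R S.X₁ → KF R S.X₂ → KF R S.X₃) ∧ (KF R S.X₁ → KF R S.X₃ → KF R S.X₂) ∧
      (KF R S.X₂ → KF R S.X₃ → KF R S.X₁) := by
  simp only [kf_iff]
  refine isKFlat₂_two_of_three (curriedTensor (ModuleCat.{u} R)) S (fun X q => ?_)
  exact shortExact_map_tensorLeft_of_flat R _
    (hS.map_of_exact (HomologicalComplex.eval _ (ComplexShape.up ℤ) q)) (h3 q) X

end SES

section Colimits

instance preservesColimits_curriedTensor_obj (X : ModuleCat.{u} R) :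
    PreservesColimitsOfSize.{u, u} ((curriedTensor (ModuleCat.{u} R)).obj X) :=
  inferInstanceAs (PreservesColimitsOfSize.{u, u} (tensorLeft X))

/-- **S6903**: a filtered colimit of K-flat complexes of modules is K-flat -/
theorem kf_of_isColimit {J : Type u} [SmallCategory J] [IsFiltered J]
    {G : J ⥤ DRing.Cx R} (c : Cocone G) (hc : IsColimit c)
    (h : ∀ j, KF R (G.obj j)) : KF R c.pt := by
  rw [kf_iff]
  exact isKFlat₂_of_isColimit (curriedTensor (ModuleCat.{u} R)) c hc (fun j => (kf_iff R _).1 (h j))

end Colimits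

end Groth.Agent.Lib.Helper94.KFlatRing
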