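import Groth.Agent.Lib.Helper94.KFlatBi
import Groth.Prelude.Def_KFlatSite
import Groth.Agent.Lib.Helper94.ModFlat

/-!
# K-flat complexes on ringed sites (helper94)

Namespace `Groth.Agent.Lib.Helper94.KFlatSite`. Bridges `ModSite.IsKFlat` with the generic
`KFlatBi.IsKFlat₂ (ModSite.tensorBi O)`.
-/

universe u

open CategoryTheory CategoryTheory.Limits HomologicalComplex

namespace Groth.Agent.Lib.Helper94.KFlatSite

open Groth.Agent.Lib.Helper94.KFlatBi

variable {C : Type u} [SmallCategory C] {J : GrothendieckTopology C} {O : Sheaf J CommRingCat.{u}}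

lemma acyclic_iff_isZero_homology {A : Type*} [Category A] [Abelian A] (K : CochainComplex A ℤ) :
    K.Acyclic ↔ ∀ i : ℤ, IsZero (K.homology i) := by
  rw [acyclic_iff]
  exact forall_congr' fun i => exactAt_iff_isZero_homology K i

lemma isKFlat_iff (K : CochainComplex (ModSite.Mod O) ℤ) :
    ModSite.IsKFlat K ↔ IsKFlat₂ (ModSite.tensorBi O) K := by
  constructor
  · intro h F hF
    exact (acyclic_iff_isZero_homology _).2 (h F ((acyclic_iff_isZero_homology F).1 hF))
  · intro h F hF
    exact (acyclic_iff_isZero_homology _).1 (h F ((acyclic_iff_isZero_homology F).2 hF))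

section AB4

open Groth.Agent.Lib.Helper94.ModFlat Groth.Agent.Lib.Helper94.ModTensor

instance ab4_mod : AB4OfSize.{u} (ModSite.Mod O) :=
  haveI : HasFiniteBiproducts (ModSite.Mod O) := HasFiniteBiproducts.of_hasFiniteProducts
  AB4.of_AB5 _

instance ab4_mod_zero : AB4OfSize.{0} (ModSite.Mod O) := AB4OfSize_shrink.{0, u} _

/-- tensoring (on the left) a short exact sequence with flat cokernel stays short exact -/
theorem shortExact_map_tensL_of_isFlat_X₃ (S : ShortComplex (ModSite.Mod O)) (hS : S.ShortExact)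
    (hF : ModSite.IsFlat S.X₃) (G : ModSite.Mod O) : (S.map ((ModSite.tensorBi O).obj G)).ShortExact :=
  { exact := (exact_map_tensL O S hS G).1
    mono_f := mono_tensL_map_of_isFlat_X₃ O S hS hF G
    epi_g := (exact_map_tensL O S hS G).2 }

/-- **S9057**: two out of three for K-flatness in a short exact sequence with flat cokernel terms -/
theorem isKFlat_two_of_three (S : ShortComplex (CochainComplex (ModSite.Mod O) ℤ))
    (hS : S.ShortExact) (h3 : ∀ n : ℤ, ModSite.IsFlat (S.X₃.X n)) :
    (ModSite.IsKFlat S.X₁ → ModSite.IsKFlat S.X₂ → ModSite.IsKFlat S.X₃) ∧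
    (ModSite.IsKFlat S.X₁ → ModSite.IsKFlat S.X₃ → ModSite.IsKFlat S.X₂) ∧
    (ModSite.IsKFlat S.X₂ → ModSite.IsKFlat S.X₃ → ModSite.IsKFlat S.X₁) := by
  simp only [isKFlat_iff]
  refine isKFlat₂_two_of_three (ModSite.tensorBi O) S (fun X q => ?_)
  exact shortExact_map_tensL_of_isFlat_X₃ _
    (hS.map_of_exact (HomologicalComplex.eval _ (ComplexShape.up ℤ) q)) (h3 q) X

end AB4

section Colimits

open Groth.Agent.Lib.Helper94.ModFlat Groth.Agent.Lib.Helper94.ModTensor

instance ab5_mod_zero : AB5OfSize.{0, 0} (ModSite.Mod O) := AB5OfSize_shrink.{0, 0, u, u} _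

instance preservesColimits_tensorBi_obj_zero (X : ModSite.Mod O) :
    PreservesColimitsOfSize.{0, 0} ((ModSite.tensorBi O).obj X) :=
  haveI : PreservesColimitsOfSize.{u, u} ((ModSite.tensorBi O).obj X) :=
    inferInstanceAs (PreservesColimitsOfSize.{u, u} (tensL O X))
  preservesColimitsOfSize_shrink.{0, u, 0, u} _

/-- a filtered colimit (indexed by a small category in universe `0`) of K-flat complexes is K-flat -/
theorem isKFlat_of_isColimit {J : Type} [SmallCategory J] [IsFiltered J]
    {G : J ⥤ CochainComplex (ModSite.Mod O) ℤ} (c : Cocone G) (hc : IsColimit c)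
    (h : ∀ j, ModSite.IsKFlat (G.obj j)) : ModSite.IsKFlat c.pt := by
  rw [isKFlat_iff]
  exact isKFlat₂_of_isColimit (ModSite.tensorBi O) c hc (fun j => (isKFlat_iff _).1 (h j))

end Colimits

end Groth.Agent.Lib.Helper94.KFlatSite
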