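import Groth.Agent.Lib.Helper94.KFlatTrunc
import Groth.Agent.Lib.Helper94.KFlatSite
import Groth.Agent.Lib.Helper94.KFlatRing

/-!
# Bounded above termwise flat complexes are K-flat: ringed sites and rings (helper94)

Namespace `Groth.Agent.Lib.Helper94.KFlatBdd`.
-/

universe u

open CategoryTheory CategoryTheory.Limits HomologicalComplex MonoidalCategory

namespace Groth.Agent.Lib.Helper94.KFlatBdd

open Groth.Agent.Lib.Helper94.KFlatBi Groth.Agent.Lib.Helper94.KFlatTrunc
  Groth.Agent.Lib.Helper94.KFlatSite Groth.Agent.Lib.Helper94.KFlatRing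

section Site

variable {C : Type u} [SmallCategory C] {J : GrothendieckTopology C} {O : Sheaf J CommRingCat.{u}}

lemma isFlatObj_of_isFlat (M : ModSite.Mod O) (hM : ModSite.IsFlat M) :
    IsFlatObj (ModSite.tensorBi O) M := by
  have := hM.1
  have := hM.2
  intro S hS
  exact hS.map _

/-- a complex of `O`-modules concentrated in one degree with flat term is K-flat -/
theorem isKFlat_of_concentrated (L : CochainComplex (ModSite.Mod O) ℤ) (q₀ : ℤ)
    (hL : ∀ q : ℤ, q ≠ q₀ → IsZero (L.X q)) (hflat : ModSite.IsFlat (L.X q₀)) :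
    ModSite.IsKFlat L := by
  rw [isKFlat_iff]
  exact isKFlat₂_of_concentrated (ModSite.tensorBi O) L q₀ hL (isFlatObj_of_isFlat _ hflat)

/-- **S9058**: a bounded above complex of flat `O`-modules is K-flat -/
theorem isKFlat_of_bounded_above_flat
    (K : CochainComplex (ModSite.Mod O) ℤ) (b : ℤ) (hb : ∀ n : ℤ, b < n → IsZero (K.X n))
    (hflat : ∀ n : ℤ, ModSite.IsFlat (K.X n)) : ModSite.IsKFlat K := by
  rw [isKFlat_iff]
  exact isKFlat₂_of_bounded_above (ModSite.tensorBi O) K b hb
    (fun n => isFlatObj_of_isFlat _ (hflat n))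

end Site

section Ring

variable (R : Type u) [CommRing R]

lemma isFlatObj_of_flat (M : ModuleCat.{u} R) [Module.Flat R M] :
    IsFlatObj (curriedTensor (ModuleCat.{u} R)) M := by
  intro S hS
  rw [ShortComplex.ShortExact.moduleCat_exact_iff_function_exact] at hS ⊢
  exact Module.Flat.rTensor_exact M hS

instance ab5_moduleCat_zero : AB5OfSize.{0, 0} (ModuleCat.{u} R) :=
  AB5OfSize_shrink.{0, 0, u, u} _

instance preservesColimits_curriedTensor_obj_zero (X : ModuleCat.{u} R) :
    PreservesColimitsOfSize.{0, 0} ((curriedTensor (ModuleCat.{u} R)).obj X) :=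
  preservesColimitsOfSize_shrink.{0, u, 0, u} _

/-- a complex of `R`-modules concentrated in one degree with flat term is K-flat -/
theorem kf_of_concentrated (L : DRing.Cx R) (q₀ : ℤ)
    (hL : ∀ q : ℤ, q ≠ q₀ → IsZero (L.X q)) [Module.Flat R (L.X q₀)] : KF R L := by
  rw [kf_iff]
  exact isKFlat₂_of_concentrated (curriedTensor (ModuleCat.{u} R)) L q₀ hL
    (isFlatObj_of_flat R (L.X q₀))

/-- **S6901**: a bounded above complex of flat `R`-modules is K-flat -/
theorem kf_of_bounded_above (P : DRing.Cx R) (b : ℤ)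
    (hb : DRing.VanishesAbove P b) (hP : DRing.TermwiseFlat P) : KF R P := by
  rw [kf_iff]
  have : ∀ n, Module.Flat R (P.X n) := hP
  exact isKFlat₂_of_bounded_above (curriedTensor (ModuleCat.{u} R)) P b hb
    (fun n => isFlatObj_of_flat R (P.X n))

end Ring

end Groth.Agent.Lib.Helper94.KFlatBdd
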