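import Groth.Agent.Lib.Helper94.KFlatRes
import Groth.Agent.Lib.Helper94.KFlatBdd

/-!
# K-flat resolutions and factorizations on ringed sites and over rings (helper94)

Namespace `Groth.Agent.Lib.Helper94.KFlatResInst`.
-/

universe u

open CategoryTheory CategoryTheory.Limits HomologicalComplex MonoidalCategory

namespace Groth.Agent.Lib.Helper94.KFlatResInst

open Groth.Agent.Lib.Helper94.KFlatBi Groth.Agent.Lib.Helper94.KFlatTrunc
  Groth.Agent.Lib.Helper94.KFlatSite Groth.Agent.Lib.Helper94.KFlatRing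
  Groth.Agent.Lib.Helper94.KFlatRes Groth.Agent.Lib.Helper94.KFlatBdd
  Groth.Agent.Lib.Helper94.ModFlat

section Site

variable {C : Type u} [SmallCategory C] {J : GrothendieckTopology C} {O : Sheaf J CommRingCat.{u}}

lemma isFlat_of_isFlatObj (M : ModSite.Mod O) (hM : IsFlatObj (ModSite.tensorBi O) M) :
    ModSite.IsFlat M :=
  ((Functor.exact_tfae ((ModSite.tensorBi O).flip.obj M)).out 1 3).1 hM

lemma isFlat_iff_isFlatObj (M : ModSite.Mod O) :
    ModSite.IsFlat M ↔ IsFlatObj (ModSite.tensorBi O) M :=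
  ⟨isFlatObj_of_isFlat M, isFlat_of_isFlatObj M⟩

lemma hflat_site (M : ModSite.Mod O) :
    ∃ (P : ModSite.Mod O) (p : P ⟶ M), Epi p ∧ IsFlatObj (ModSite.tensorBi O) P := by
  obtain ⟨P, p, hP, hp⟩ := exists_flat_epi O M
  exact ⟨P, p, hp, isFlatObj_of_isFlat P hP⟩

/-- **S9060**: K-flat resolutions on a ringed site -/
theorem exists_isKFlat_resolution (G : CochainComplex (ModSite.Mod O) ℤ) :
    ∃ (K : CochainComplex (ModSite.Mod O) ℤ) (q : K ⟶ G), ModSite.IsKFlat K ∧
      (∀ n : ℤ, ModSite.IsFlat (K.X n)) ∧ QuasiIso q ∧ ∀ n : ℤ, Epi (q.f n) := by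
  obtain ⟨K, q, h1, h2, h3, h4⟩ := exists_kflat_resolution (ModSite.tensorBi O) hflat_site G
  exact ⟨K, q, (isKFlat_iff K).2 h1, fun n => isFlat_of_isFlatObj _ (h2 n), h3, h4⟩

/-- **S9061** (strict form): factorization through a K-flat complex -/
theorem exists_isKFlat_factorization {K L : CochainComplex (ModSite.Mod O) ℤ} (a : K ⟶ L) :
    ∃ (N : CochainComplex (ModSite.Mod O) ℤ) (b : K ⟶ N) (c : N ⟶ L), b ≫ c = a ∧ QuasiIso c ∧
      (ModSite.IsKFlat K → ModSite.IsKFlat N) ∧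
      ((∀ n : ℤ, ModSite.IsFlat (K.X n)) → ∀ n : ℤ, ModSite.IsFlat (N.X n)) := by
  obtain ⟨N, b, c, h1, h2, h3, h4⟩ :=
    exists_kflat_factorization (ModSite.tensorBi O) hflat_site a
  exact ⟨N, b, c, h1, h2, fun h => (isKFlat_iff N).2 (h3 ((isKFlat_iff K).1 h)),
    fun h n => isFlat_of_isFlatObj _ (h4 (fun m => isFlatObj_of_isFlat _ (h m)) n)⟩

end Site

section Ring

variable (R : Type u) [CommRing R]

lemma flat_iff_isFlatObj (M : ModuleCat.{u} R) :
    Module.Flat R M ↔ IsFlatObj (curriedTensor (ModuleCat.{u} R)) M :=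
  Module.Flat.iff_rTensor_preserves_shortComplex_exact M

lemma hflat_ring (M : ModuleCat.{u} R) :
    ∃ (P : ModuleCat.{u} R) (p : P ⟶ M), Epi p ∧ IsFlatObj (curriedTensor (ModuleCat.{u} R)) P := by
  refine ⟨ModuleCat.of R (M →₀ R), ModuleCat.ofHom (Finsupp.linearCombination R (id : M → M)),
    ?_, ?_⟩
  · rw [ModuleCat.epi_iff_surjective]
    exact Finsupp.linearCombination_id_surjective R M
  · rw [← flat_iff_isFlatObj]
    infer_instance

/-- **S6905**: K-flat resolutions of complexes of modules -/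
theorem exists_kf_resolution (M : DRing.Cx R) :
    ∃ (K : DRing.Cx R) (f : K ⟶ M), KF R K ∧ DRing.TermwiseFlat K ∧ QuasiIso f ∧
      ∀ i : ℤ, Function.Surjective (f.f i) := by
  obtain ⟨K, q, h1, h2, h3, h4⟩ :=
    exists_kflat_resolution (curriedTensor (ModuleCat.{u} R)) (hflat_ring R) M
  refine ⟨K, q, (kf_iff R K).2 h1, fun n => (flat_iff_isFlatObj R _).2 (h2 n), h3, fun i => ?_⟩
  exact (ModuleCat.epi_iff_surjective _).1 (h4 i)

/-- **S6908** (strict form): factorization through a K-flat complex -/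
theorem exists_kf_factorization {K L : DRing.Cx R} (a : K ⟶ L) :
    ∃ (N : DRing.Cx R) (b : K ⟶ N) (c : N ⟶ L), b ≫ c = a ∧ QuasiIso c ∧
      (KF R K → KF R N) ∧ (DRing.TermwiseFlat K → DRing.TermwiseFlat N) := by
  obtain ⟨N, b, c, h1, h2, h3, h4⟩ :=
    exists_kflat_factorization (curriedTensor (ModuleCat.{u} R)) (hflat_ring R) a
  exact ⟨N, b, c, h1, h2, fun h => (kf_iff R N).2 (h3 ((kf_iff R K).1 h)),
    fun h n => (flat_iff_isFlatObj R _).2 (h4 (fun m => (flat_iff_isFlatObj R _).1 (h m)) n)⟩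

end Ring

end Groth.Agent.Lib.Helper94.KFlatResInst
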