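import Groth.Agent.Lib.Helper94.KFlatSymm
import Groth.Agent.Lib.Helper94.KFlatResInst

/-!
# Quasi-isomorphisms of K-flat complexes and tensor products: ringed sites and rings (helper94)

Namespace `Groth.Agent.Lib.Helper94.KFlatSymmInst`.
-/

universe u
open CategoryTheory CategoryTheory.Limits HomologicalComplex MonoidalCategory

namespace Groth.Agent.Lib.Helper94.KFlatSymmInst

open Groth.Agent.Lib.Helper94.KFlatBi Groth.Agent.Lib.Helper94.KFlatTrunc
  Groth.Agent.Lib.Helper94.KFlatSite Groth.Agent.Lib.Helper94.KFlatRes Groth.Agent.Lib.Helper94.KFlatBdd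
  Groth.Agent.Lib.Helper94.ModFlat Groth.Agent.Lib.Helper94.KFlatSymm Groth.Agent.Lib.Helper94.KFlatResInst
  Groth.Agent.Lib.Helper94.ModTensor

section Site
variable {C : Type u} [SmallCategory C] {J : GrothendieckTopology C} {O : Sheaf J CommRingCat.{u}}

instance preservesColimits_tensorBi_flip_obj_zero (X : ModSite.Mod O) :
    PreservesColimitsOfSize.{0, 0} ((ModSite.tensorBi O).flip.obj X) :=
  haveI : PreservesColimitsOfSize.{u, u} ((ModSite.tensorBi O).flip.obj X) :=
    inferInstanceAs (PreservesColimitsOfSize.{u, u} (tensR O X))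
  preservesColimitsOfSize_shrink.{0, u, 0, u} _

lemma hflat_site_flip (M : ModSite.Mod O) :
    ∃ (P : ModSite.Mod O) (p : P ⟶ M), Epi p ∧ IsFlatObj (ModSite.tensorBi O).flip P := by
  obtain ⟨P, p, hP, hp⟩ := exists_flat_epi O M
  refine ⟨P, p, hp, fun S hS => ?_⟩
  exact (ShortComplex.exact_iff_of_iso (S.mapNatIso (tensLIsoTensR O P))).2
    (isFlatObj_of_isFlat P hP S hS)

lemma hres_site (F : CochainComplex (ModSite.Mod O) ℤ) :
    ∃ (F' : CochainComplex (ModSite.Mod O) ℤ) (r : F' ⟶ F),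
      QuasiIso r ∧ IsKFlat₁ (ModSite.tensorBi O) F' := by
  obtain ⟨K, q, h1, -, h3, -⟩ :=
    exists_kflat_resolution (ModSite.tensorBi O).flip hflat_site_flip F
  exact ⟨K, q, h3, isKFlat₁_of_isKFlat₂_flip _ K h1⟩

/-- **S9051**: a quasi-isomorphism of K-flat complexes tensored with any complex -/
theorem quasiIso_tensor_of_quasiIso_kflat {P Q : CochainComplex (ModSite.Mod O) ℤ} (α : P ⟶ Q)
    [QuasiIso α] (hP : IsKFlat₂ (ModSite.tensorBi O) P) (hQ : IsKFlat₂ (ModSite.tensorBi O) Q)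
    (F : CochainComplex (ModSite.Mod O) ℤ) :
    QuasiIso (mapBifunctorMap (𝟙 F) α (ModSite.tensorBi O) (ComplexShape.up ℤ)) :=
  quasiIso_mapBifunctorMap_right (ModSite.tensorBi O) hres_site α hP hQ F

end Site

section Ring
open Groth.Agent.Lib.Helper94.KFlatRing
variable (R : Type u) [CommRing R]

instance preservesColimits_curriedTensor_flip_obj_zero (X : ModuleCat.{u} R) :
    PreservesColimitsOfSize.{0, 0} ((curriedTensor (ModuleCat.{u} R)).flip.obj X) :=
  haveI : PreservesColimitsOfSize.{u, u} ((curriedTensor (ModuleCat.{u} R)).flip.obj X) :=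
    preservesColimits_of_natIso (BraidedCategory.tensorLeftIsoTensorRight X)
  preservesColimitsOfSize_shrink.{0, u, 0, u} _

lemma hflat_ring_flip (M : ModuleCat.{u} R) :
    ∃ (P : ModuleCat.{u} R) (p : P ⟶ M), Epi p ∧
      IsFlatObj (curriedTensor (ModuleCat.{u} R)).flip P := by
  refine ⟨ModuleCat.of R (M →₀ R), ModuleCat.ofHom (Finsupp.linearCombination R (id : M → M)),
    ?_, ?_⟩
  · rw [ModuleCat.epi_iff_surjective]
    exact Finsupp.linearCombination_id_surjective R M
  · intro S hS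
    exact Module.Flat.lTensor_shortComplex_exact (ModuleCat.of R (M →₀ R)) S hS

lemma hres_ring (F : DRing.Cx R) :
    ∃ (F' : DRing.Cx R) (r : F' ⟶ F),
      QuasiIso r ∧ IsKFlat₁ (curriedTensor (ModuleCat.{u} R)) F' := by
  obtain ⟨K, q, h1, -, h3, -⟩ :=
    exists_kflat_resolution (curriedTensor (ModuleCat.{u} R)).flip (hflat_ring_flip R) F
  exact ⟨K, q, h3, isKFlat₁_of_isKFlat₂_flip _ K h1⟩

/-- **S6907** (second part) -/
theorem quasiIso_whiskerLeft_of_kf {P Q : DRing.Cx R} (α : P ⟶ Q) [QuasiIso α]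
    (hP : KF R P) (hQ : KF R Q) (L : DRing.Cx R) : QuasiIso (L ◁ α) :=
  quasiIso_mapBifunctorMap_right (curriedTensor (ModuleCat.{u} R)) (hres_ring R) α
    ((kf_iff R P).1 hP) ((kf_iff R Q).1 hQ) L

/-- **S6907** (first part) -/
theorem quasiIso_whiskerRight_of_kf (K : DRing.Cx R) (hK : KF R K) {L₁ L₂ : DRing.Cx R}
    (f : L₁ ⟶ L₂) [QuasiIso f] : QuasiIso (f ▷ K) :=
  quasiIso_mapBifunctorMap_left (curriedTensor (ModuleCat.{u} R)) K ((kf_iff R K).1 hK) f

end Ring

end Groth.Agent.Lib.Helper94.KFlatSymmInst
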