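import Groth.Agent.Lib.Helper94.KFlatSymmInst

/-!
# Cycles of an acyclic K-flat complex with flat terms are flat (helper94)

Namespace `Groth.Agent.Lib.Helper94.KFlatCycles`.
-/

universe v₁ v₂ v₃ u₁ u₂ u₃ u

open CategoryTheory CategoryTheory.Limits HomologicalComplex CochainComplex

namespace Groth.Agent.Lib.Helper94.KFlatCycles

open Groth.Agent.Lib.Helper94.KFlatBi Groth.Agent.Lib.Helper94.KFlatAbs
  Groth.Agent.Lib.Helper94.KFlatTrunc Groth.Agent.Lib.Helper94.KFlatRes
  Groth.Agent.Lib.Helper94.KFlatSymm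

section Generic

variable {C₁ : Type u₁} [Category.{v₁} C₁] [Abelian C₁] {C₂ : Type u₂} [Category.{v₂} C₂] [Abelian C₂]
  {D : Type u₃} [Category.{v₃} D] [Abelian D]
  (T : C₁ ⥤ C₂ ⥤ D) [T.Additive] [∀ X, (T.obj X).Additive]
  [∀ (K₁ : CochainComplex C₁ ℤ) (K₂ : CochainComplex C₂ ℤ),
    HasMapBifunctor K₁ K₂ T (ComplexShape.up ℤ)]

/-- if `Tot(T(F, L))` is acyclic with `L` concentrated in degree `q₀`, then `T(F, L^{q₀})` is
exact in each degree -/
lemma exact_map_of_acyclic_concentrated (F : CochainComplex C₁ ℤ) (L : CochainComplex C₂ ℤ)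
    (q₀ : ℤ) (hL : ∀ q : ℤ, q ≠ q₀ → IsZero (L.X q))
    (h : (mapBifunctor F L T (ComplexShape.up ℤ)).Acyclic) (p : ℤ) :
    ((F.sc' (p - 1) p (p + 1)).map (T.flip.obj (L.X q₀))).Exact := by
  obtain ⟨n, hp⟩ : ∃ n : ℤ, p + q₀ = n := ⟨p + q₀, rfl⟩
  have h0 := (exactAt_iff' _ (n - 1) n (n + 1) (by simp) (by simp)).1 (h n)
  have h₁ : p - 1 + q₀ = n - 1 := by omega
  have h₃ : p + 1 + q₀ = n + 1 := by omega
  let e₁ := @asIso _ _ _ _ (ιMapBifunctor F L T (ComplexShape.up ℤ) (p - 1) q₀ (n - 1) h₁)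
    (isIso_ι T F L q₀ hL (p - 1) (n - 1) h₁)
  let e₂ := @asIso _ _ _ _ (ιMapBifunctor F L T (ComplexShape.up ℤ) p q₀ n hp)
    (isIso_ι T F L q₀ hL p n hp)
  let e₃ := @asIso _ _ _ _ (ιMapBifunctor F L T (ComplexShape.up ℤ) (p + 1) q₀ (n + 1) h₃)
    (isIso_ι T F L q₀ hL (p + 1) (n + 1) h₃)
  refine (ShortComplex.exact_iff_of_iso (ShortComplex.isoMk e₁ e₂ e₃ ?_ ?_)).2 h0
  · exact ι_d T F L q₀ hL (p - 1) p (n - 1) n (by omega) (by omega) (by omega)
  · exact ι_d T F L q₀ hL p (p + 1) n (n + 1) hp rfl rfl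

end Generic

section Abstract

variable {𝒜 : Type*} [Category 𝒜] [Abelian 𝒜]

/-- if `A --α--> B --f≫g--> C` is exact, `f` is an epimorphism and `α ≫ f = 0`, then `g` is a
monomorphism -/
lemma mono_of_exact_of_epi {A B Z C : 𝒜} (α : A ⟶ B) (f : B ⟶ Z) (g : Z ⟶ C) [Epi f]
    (w : α ≫ f ≫ g = 0) (hex : (ShortComplex.mk α (f ≫ g) w).Exact) (hα : α ≫ f = 0) : Mono g := by
  rw [Preadditive.mono_iff_cancel_zero]
  intro W k hk
  obtain ⟨W₁, π₁, _, k₁, h₁⟩ := surjective_up_to_refinements_of_epi f k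
  have h2 : k₁ ≫ f ≫ g = 0 := by
    rw [← Category.assoc, ← h₁, Category.assoc, hk, comp_zero]
  obtain ⟨W₂, π₂, _, a, h₂⟩ := hex.exact_up_to_refinements k₁ h2
  dsimp at a h₂
  have h3 : (π₂ ≫ π₁) ≫ k = 0 := by
    rw [Category.assoc, h₁, ← Category.assoc, h₂, Category.assoc, hα, comp_zero]
  have : Epi (π₂ ≫ π₁) := epi_comp _ _
  rw [← cancel_epi (π₂ ≫ π₁), h3, comp_zero]

/-- the short exact sequence `0 ⟶ Zᵖ ⟶ Kᵖ ⟶ Zᵖ⁺¹ ⟶ 0` of an acyclic complex -/
noncomputable def cyclesSC (K : CochainComplex 𝒜 ℤ) (p : ℤ) : ShortComplex 𝒜 :=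
  ShortComplex.mk (K.iCycles p) (K.toCycles p (p + 1)) (by
    rw [← cancel_mono (K.iCycles (p + 1)), Category.assoc, toCycles_i, iCycles_d, zero_comp])

lemma epi_toCycles_of_acyclic (K : CochainComplex 𝒜 ℤ) (hac : K.Acyclic) (p : ℤ) :
    Epi (K.toCycles p (p + 1)) := by
  rw [epi_iff_surjective_up_to_refinements]
  intro W z
  have h0 := (exactAt_iff' K p (p + 1) (p + 1 + 1) (by simp) (by simp)).1 (hac (p + 1))
  obtain ⟨W', π, hπ, x, hx⟩ := h0.exact_up_to_refinements (z ≫ K.iCycles (p + 1)) (by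
    change (z ≫ K.iCycles (p + 1)) ≫ K.d (p + 1) (p + 1 + 1) = 0
    rw [Category.assoc, iCycles_d, comp_zero])
  change W' ⟶ K.X p at x
  change π ≫ z ≫ K.iCycles (p + 1) = x ≫ K.d p (p + 1) at hx
  refine ⟨W', π, hπ, x, ?_⟩
  rw [← cancel_mono (K.iCycles (p + 1)), Category.assoc, hx, Category.assoc, toCycles_i]

lemma shortExact_cyclesSC (K : CochainComplex 𝒜 ℤ) (hac : K.Acyclic) (p : ℤ) :
    (cyclesSC K p).ShortExact := by
  have := epi_toCycles_of_acyclic K hac p
  refine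
    { exact := ShortComplex.exact_of_f_is_kernel _ ?_
      mono_f := inferInstanceAs (Mono (K.iCycles p))
      epi_g := inferInstanceAs (Epi (K.toCycles p (p + 1))) }
  exact isKernelOfComp (K.iCycles (p + 1)) (K.d p (p + 1)) (K.cyclesIsKernel p (p + 1) (by simp))
    (cyclesSC K p).zero (toCycles_i K p (p + 1))

end Abstract

section Site

open Groth.Agent.Lib.Helper94.ModFlat Groth.Agent.Lib.Helper94.ModTensor
  Groth.Agent.Lib.Helper94.KFlatSymmInst

variable {C : Type u} [SmallCategory C] {J : GrothendieckTopology C} (O : Sheaf J CommRingCat.{u})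

/-- the grid lemma: if `0 → A → B → C → 0` is short exact with `B` flat and `Q ⊗ A → Q ⊗ B` a
monomorphism, where `0 → G' → G → Q → 0` is short exact, then `G' ⊗ C → G ⊗ C` is a monomorphism -/
theorem mono_tensR_map_of_pure (S T : ShortComplex (ModSite.Mod O)) (hS : S.ShortExact)
    (hT : T.ShortExact) (hP : ModSite.IsFlat T.X₂) (hpure : Mono ((tensL O S.X₃).map T.f)) :
    Mono ((tensR O T.X₃).map S.f) := by
  have := hS.mono_f
  have : Mono ((tensR O T.X₂).map S.f) := (isFlat_iff_preservesMono O T.X₂).1 hP S.f inferInstance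
  have : Epi ((tensL O S.X₁).map T.g) := (exact_map_tensL O T hT S.X₁).2
  exact SnakeMono.mono_of_grid
    ((tensR O T.X₁).map S.f) ((tensR O T.X₁).map S.g)
    ((tensR O T.X₂).map S.f) ((tensR O T.X₂).map S.g) ((tensR O T.X₃).map S.f)
    ((tensL O S.X₁).map T.f) ((tensL O S.X₂).map T.f) ((tensL O S.X₃).map T.f)
    ((tensL O S.X₁).map T.g) ((tensL O S.X₂).map T.g)
    (((ModSite.tensorBi O).map S.f).naturality T.f).symm
    (((ModSite.tensorBi O).map S.g).naturality T.f).symm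
    (((ModSite.tensorBi O).map S.f).naturality T.g).symm
    (by rw [← Functor.map_comp, S.zero, Functor.map_zero])
    (by rw [← Functor.map_comp, T.zero, Functor.map_zero])
    (by rw [← Functor.map_comp, S.zero, Functor.map_zero])
    (by rw [← Functor.map_comp, T.zero, Functor.map_zero])
    (exact_map_tensR O S hS T.X₁).1 (exact_map_tensL O T hT S.X₂).1

/-- a pure quotient of a flat module is flat -/
theorem isFlat_X₃_of_pure (T : ShortComplex (ModSite.Mod O)) (hT : T.ShortExact)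
    (hP : ModSite.IsFlat T.X₂) (hpure : ∀ M : ModSite.Mod O, Mono ((tensL O M).map T.f)) :
    ModSite.IsFlat T.X₃ := by
  rw [isFlat_iff_preservesMono]
  intro X Y g hg
  let S : ShortComplex (ModSite.Mod O) :=
    ShortComplex.mk g (cokernel.π g) (cokernel.condition g)
  have hS : S.ShortExact :=
    { exact := ShortComplex.exact_of_g_is_cokernel _ (cokernelIsCokernel g)
      mono_f := hg
      epi_g := inferInstanceAs (Epi (cokernel.π g)) }
  exact mono_tensR_map_of_pure O S T hS hT hP (hpure _)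

/-- tensoring an acyclic K-flat complex with any module gives an exact complex -/
lemma exact_map_tensL_of_kflat_acyclic (K : CochainComplex (ModSite.Mod O) ℤ)
    (hK : IsKFlat₂ (ModSite.tensorBi O) K) (hac : K.Acyclic) (M : ModSite.Mod O) (p : ℤ) :
    ((K.sc' (p - 1) p (p + 1)).map (tensL O M)).Exact := by
  let L : CochainComplex (ModSite.Mod O) ℤ :=
    (HomologicalComplex.single (ModSite.Mod O) (ComplexShape.up ℤ) 0).obj M
  have h1 : (mapBifunctor L K (ModSite.tensorBi O) (ComplexShape.up ℤ)).Acyclic :=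
    acyclic_of_isKFlat₂_of_acyclic (ModSite.tensorBi O) hres_site K hK hac L
  have h2 : (mapBifunctor K L (ModSite.tensorBi O).flip (ComplexShape.up ℤ)).Acyclic :=
    acyclic_of_iso (mapBifunctorFlipIso L K (ModSite.tensorBi O) (ComplexShape.up ℤ)).symm h1
  have h3 := exact_map_of_acyclic_concentrated (ModSite.tensorBi O).flip K L 0
    (fun q hq => isZero_single_obj_X _ _ _ _ hq) h2 p
  let e : L.X 0 ≅ M := singleObjXSelf (ComplexShape.up ℤ) 0 M
  exact (ShortComplex.exact_iff_of_iso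
    ((K.sc' (p - 1) p (p + 1)).mapNatIso ((ModSite.tensorBi O).mapIso e))).1 h3

/-- for an acyclic K-flat complex `K`, `M ⊗ Zⁿ(K) → M ⊗ Kⁿ` is a monomorphism -/
lemma mono_tensL_map_iCycles (K : CochainComplex (ModSite.Mod O) ℤ)
    (hK : IsKFlat₂ (ModSite.tensorBi O) K) (hac : K.Acyclic) (M : ModSite.Mod O) (n : ℤ) :
    Mono ((tensL O M).map (K.iCycles n)) := by
  obtain ⟨p, rfl⟩ : ∃ p, n = p + 1 := ⟨n - 1, by omega⟩
  have hT := shortExact_cyclesSC K hac p
  have : Epi ((tensL O M).map (K.toCycles p (p + 1))) := (exact_map_tensL O _ hT M).2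
  have h1 := exact_map_tensL_of_kflat_acyclic O K hK hac M p
  have w : (tensL O M).map (K.d (p - 1) p) ≫
      (tensL O M).map (K.toCycles p (p + 1)) ≫ (tensL O M).map (K.iCycles (p + 1)) = 0 := by
    rw [← Functor.map_comp, ← Functor.map_comp, toCycles_i, d_comp_d, Functor.map_zero]
  have hex : (ShortComplex.mk _ _ w).Exact := by
    refine (ShortComplex.exact_iff_of_iso
      (?_ : (K.sc' (p - 1) p (p + 1)).map (tensL O M) ≅ ShortComplex.mk _ _ w)).1 h1
    refine ShortComplex.isoMk (Iso.refl _) (Iso.refl _) (Iso.refl _) ?_ ?_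
    · exact (Category.id_comp _).trans (Category.comp_id _).symm
    · refine (Category.id_comp _).trans (Eq.trans ?_ (Category.comp_id _).symm)
      exact ((tensL O M).map_comp _ _).symm.trans (congrArg (tensL O M).map (toCycles_i K p (p + 1)))
  exact mono_of_exact_of_epi _ _ _ w hex
    (by rw [← Functor.map_comp, d_toCycles, Functor.map_zero])

/-- **S9052**: the cycles of an acyclic K-flat complex with flat terms are flat -/
theorem isFlat_cycles (K : CochainComplex (ModSite.Mod O) ℤ)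
    (hK : IsKFlat₂ (ModSite.tensorBi O) K) (hac : K.Acyclic)
    (hfl : ∀ i : ℤ, ModSite.IsFlat (K.X i)) (n : ℤ) : ModSite.IsFlat (K.cycles n) := by
  obtain ⟨p, rfl⟩ : ∃ p, n = p + 1 := ⟨n - 1, by omega⟩
  exact isFlat_X₃_of_pure O (cyclesSC K p) (shortExact_cyclesSC K hac p) (hfl p)
    (fun M => mono_tensL_map_iCycles O K hK hac M p)

end Site

end Groth.Agent.Lib.Helper94.KFlatCycles
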