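import Groth.Agent.Lib.Helper94.KFlatAbs
import Mathlib.Algebra.Homology.HomotopyCategory.Pretriangulated
import Mathlib.CategoryTheory.Functor.OfSequence

/-!
# Cellular resolutions of unbounded complexes (helper94)

Namespace `Groth.Agent.Lib.Helper94.CellRes`.

`A` abelian with exact sequential colimits, `𝒱` a class of "cells": complexes with zero differential
such that every `ℤ`-graded object of `A` is a degreewise quotient of (the terms of) a cell.
Then every morphism `q₀ : K₀ ⟶ G` factors as `K₀ ⟶ K ⟶ G` with `K ⟶ G` a quasi-isomorphism and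
`K` obtained from `K₀` by a sequential colimit of attachments of cells (`exists_cell_factorization`).
-/

universe v u

open CategoryTheory CategoryTheory.Limits HomologicalComplex CochainComplex
open CochainComplex.HomComplex

namespace Groth.Agent.Lib.Helper94.CellRes

variable {A : Type u} [Category.{v} A] [Abelian A]

/-- a morphism of complexes is zero on `H^m` if it sends (a cover of) the cycles to boundaries -/
lemma homologyMap_eq_zero_of_boundary {C C' : CochainComplex A ℤ} (γ : C ⟶ C') (m : ℤ) {Y : A}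
    (e : Y ⟶ C.cycles m) [Epi e] (m' : ℤ) (t : Y ⟶ C'.X m')
    (ht : t ≫ C'.d m' m = e ≫ C.iCycles m ≫ γ.f m) : homologyMap γ m = 0 := by
  rw [← cancel_epi (C.homologyπ m), comp_zero, homologyπ_naturality, ← cancel_epi e, comp_zero]
  have h1 : e ≫ cyclesMap γ m = t ≫ C'.toCycles m' m := by
    rw [← cancel_mono (C'.iCycles m), Category.assoc, Category.assoc, cyclesMap_i, toCycles_i, ht]
  rw [← Category.assoc, h1, Category.assoc, toCycles_comp_homologyπ, comp_zero]

section MapLemmas

variable {K₁ L₁ K₂ L₂ : CochainComplex A ℤ} (φ₁ : K₁ ⟶ L₁) (φ₂ : K₂ ⟶ L₂)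
  (a : K₁ ⟶ K₂) (b : L₁ ⟶ L₂) (comm : φ₁ ≫ b = a ≫ φ₂)

@[reassoc]
lemma map_f_fst_v (i j : ℤ) (hij : i + 1 = j) :
    (mappingCone.map φ₁ φ₂ a b comm).f i ≫ (mappingCone.fst φ₂).1.v i j hij =
      (mappingCone.fst φ₁).1.v i j hij ≫ a.f j := by
  rw [mappingCone.map, mappingCone.desc_f _ _ _ _ i j hij]
  simp

@[reassoc]
lemma map_f_snd_v (i : ℤ) :
    (mappingCone.map φ₁ φ₂ a b comm).f i ≫ (mappingCone.snd φ₂).v i i (add_zero i) =
      (mappingCone.snd φ₁).v i i (add_zero i) ≫ b.f i := by
  rw [mappingCone.map, mappingCone.desc_f _ _ _ _ i (i + 1) rfl]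
  simp

@[reassoc]
lemma inl_v_map_f (i j : ℤ) (hij : i + (-1) = j) :
    (mappingCone.inl φ₁).v i j hij ≫ (mappingCone.map φ₁ φ₂ a b comm).f j =
      a.f i ≫ (mappingCone.inl φ₂).v i j hij := by
  rw [mappingCone.map, mappingCone.inl_v_desc_f]
  simp

@[reassoc]
lemma inr_f_map_f (i : ℤ) :
    (mappingCone.inr φ₁).f i ≫ (mappingCone.map φ₁ φ₂ a b comm).f i =
      b.f i ≫ (mappingCone.inr φ₂).f i := by
  rw [mappingCone.map, mappingCone.inr_f_desc_f]
  simp

end MapLemmas

section Step

variable {K G : CochainComplex A ℤ} (q : K ⟶ G) (V : CochainComplex A ℤ)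
  (hV : ∀ i j : ℤ, V.d i j = 0)
  (e : ∀ n : ℤ, V.X n ⟶ (mappingCone q).cycles (n + (-1)))

/-- the attaching map -/
noncomputable def attach : V ⟶ K where
  f n := e n ≫ (mappingCone q).iCycles (n + (-1)) ≫
    (mappingCone.fst q).1.v (n + (-1)) n (by omega)
  comm' i j hij := by
    rw [hV, zero_comp]
    have h1 := mappingCone.d_fst_v q (i + (-1)) i j (by omega) hij
    have h2 : (mappingCone q).iCycles (i + (-1)) ≫ (mappingCone q).d (i + (-1)) i = 0 :=
      (mappingCone q).iCycles_d _ _
    rw [Category.assoc, Category.assoc]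
    have h3 : (mappingCone q).iCycles (i + (-1)) ≫
        (mappingCone.fst q).1.v (i + (-1)) i (by omega) ≫ K.d i j = 0 := by
      have := h2 =≫ (mappingCone.fst q).1.v i j hij
      rw [Category.assoc, h1, zero_comp, Preadditive.comp_neg, neg_eq_zero] at this
      exact this
    rw [h3, comp_zero]

/-- the null homotopy datum -/
noncomputable def attachH : Cochain V G (-1) :=
  Cochain.mk (fun p p' hpp' => -(e p ≫ (mappingCone q).iCycles (p + (-1)) ≫
    (mappingCone.snd q).v (p + (-1)) p' (by omega)))

lemma δ_attachH :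
    δ (-1) 0 (attachH q V e) = Cochain.ofHom (attach q V hV e ≫ q) := by
  ext p
  rw [δ_v (-1) 0 (by omega) _ p p (add_zero p) (p + (-1)) (p + 1) (by omega) rfl, hV, zero_comp,
    smul_zero, add_zero]
  have h1 := mappingCone.d_snd_v q (p + (-1)) p (by omega)
  have h2 : (mappingCone q).iCycles (p + (-1)) ≫ (mappingCone q).d (p + (-1)) p = 0 :=
    (mappingCone q).iCycles_d _ _
  have h3 := h2 =≫ (mappingCone.snd q).v p p (add_zero p)
  rw [Category.assoc, h1, zero_comp, Preadditive.comp_add] at h3
  simp only [attachH, Cochain.mk_v, Cochain.ofHom_v, comp_f, attach, Category.assoc,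
    Preadditive.neg_comp]
  rw [neg_eq_iff_add_eq_zero, ← Preadditive.comp_add]
  exact (congrArg (e p ≫ ·) ((add_comm _ _).trans h3)).trans comp_zero

/-- the extension of `q` to the complex obtained by attaching `V` -/
noncomputable def newMap : mappingCone (attach q V hV e) ⟶ G :=
  mappingCone.desc _ (attachH q V e) q (δ_attachH q V hV e)

lemma inr_newMap : mappingCone.inr (attach q V hV e) ≫ newMap q V hV e = q :=
  mappingCone.inr_desc _ _ _ _

/-- the induced map on the cones over `G` -/
noncomputable def coneMap : mappingCone q ⟶ mappingCone (newMap q V hV e) :=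
  mappingCone.map q (newMap q V hV e) (mappingCone.inr _) (𝟙 G)
    (by rw [Category.comp_id, inr_newMap])

theorem homologyMap_coneMap [∀ n, Epi (e n)] (m : ℤ) :
    homologyMap (coneMap q V hV e) m = 0 := by
  obtain ⟨n, rfl⟩ : ∃ n, m = n + (-1) := ⟨m + 1, by omega⟩
  refine homologyMap_eq_zero_of_boundary _ _ (e n) (n + (-2))
    (-((mappingCone.inl (attach q V hV e)).v n (n + (-1)) rfl ≫
      (mappingCone.inl (newMap q V hV e)).v (n + (-1)) (n + (-2)) (by omega))) ?_
  apply mappingCone.ext_to _ (n + (-1)) n (by omega)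
  · simp only [Category.assoc, Preadditive.neg_comp]
    rw [mappingCone.d_fst_v (newMap q V hV e) (n + (-2)) (n + (-1)) n (by omega) (by omega)]
    simp only [coneMap, map_f_fst_v]
    simp only [Preadditive.comp_neg, neg_neg, mappingCone.inl_v_fst_v_assoc]
    rw [mappingCone.inl_v_d (attach q V hV e) n (n + (-1)) (n + 1) rfl (by omega), hV, zero_comp,
      sub_zero]
    simp only [attach, Category.assoc]
  · simp only [Category.assoc, Preadditive.neg_comp]
    rw [mappingCone.d_snd_v (newMap q V hV e) (n + (-2)) (n + (-1)) (by omega)]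
    simp only [coneMap, map_f_snd_v]
    simp only [Preadditive.comp_add, mappingCone.inl_v_fst_v_assoc, mappingCone.inl_v_snd_v_assoc,
      zero_comp, add_zero, id_f, Category.comp_id]
    rw [newMap, mappingCone.inl_v_desc_f]
    simp only [attachH, Cochain.mk_v, neg_neg]

end Step

section ColimExact

universe v' u'

variable {C : Type u} [Category.{v} C] {J : Type u'} [Category.{v'} J]
  [HasColimitsOfShape J C] [HasZeroMorphisms C]
  (S : ShortComplex (J ⥤ C)) (hS : (S.map colim).Exact)
  {c₁ : Cocone S.X₁} (hc₁ : IsColimit c₁) {c₂ : Cocone S.X₂} (hc₂ : IsColimit c₂)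
  {c₃ : Cocone S.X₃} (hc₃ : IsColimit c₃)
  (f : c₁.pt ⟶ c₂.pt) (g : c₂.pt ⟶ c₃.pt)
  (hf : ∀ j, c₁.ι.app j ≫ f = S.f.app j ≫ c₂.ι.app j)
  (hg : ∀ j, c₂.ι.app j ≫ g = S.g.app j ≫ c₃.ι.app j)

set_option backward.defeqAttrib.useBackward true in
set_option backward.isDefEq.respectTransparency false in
include hS hc₂ hc₃ in
/-- variant of `colim.exact_mapShortComplex` assuming only that `S.map colim` is exact -/
lemma exact_mapShortComplex_of_exact_map_colim :
    (colim.mapShortComplex S hc₁ c₂ c₃ f g hf hg).Exact := by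
  refine (ShortComplex.exact_iff_of_iso ?_).2 hS
  refine ShortComplex.isoMk
    (IsColimit.coconePointUniqueUpToIso hc₁ (colimit.isColimit _))
    (IsColimit.coconePointUniqueUpToIso hc₂ (colimit.isColimit _))
    (IsColimit.coconePointUniqueUpToIso hc₃ (colimit.isColimit _))
    (hc₁.hom_ext (fun j ↦ ?_)) (hc₂.hom_ext (fun j ↦ ?_))
  · dsimp
    rw [IsColimit.comp_coconePointUniqueUpToIso_hom_assoc,
      colimit.cocone_ι, ι_colimMap, reassoc_of% (hf j),
      IsColimit.comp_coconePointUniqueUpToIso_hom, colimit.cocone_ι]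
  · dsimp
    rw [IsColimit.comp_coconePointUniqueUpToIso_hom_assoc,
      colimit.cocone_ι, ι_colimMap, reassoc_of% (hg j),
      IsColimit.comp_coconePointUniqueUpToIso_hom, colimit.cocone_ι]

end ColimExact

section ColimZero

variable {D : Type u} [Category.{v} D] [Abelian D] [HasColimitsOfShape ℕ D]

lemma isZero_colimit_of_map_succ_eq_zero (H : ℕ ⥤ D)
    (h : ∀ i : ℕ, H.map (homOfLE (Nat.le_succ i)) = 0) : IsZero (colimit H) := by
  rw [IsZero.iff_id_eq_zero]
  refine colimit.hom_ext (fun i => ?_)
  rw [Category.comp_id, comp_zero, ← colimit.w H (homOfLE (Nat.le_succ i)), h, zero_comp]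

variable [HasExactColimitsOfShape ℕ D]

/-- a sequential colimit of complexes whose transition maps are zero on homology is acyclic -/
theorem acyclic_of_isColimit_of_homologyMap_eq_zero
    {G : ℕ ⥤ CochainComplex D ℤ} (c : Cocone G) (hc : IsColimit c)
    (h : ∀ (i : ℕ) (n : ℤ), homologyMap (G.map (homOfLE (Nat.le_succ i))) n = 0) :
    c.pt.Acyclic := by
  intro n
  let i := (ComplexShape.up ℤ).prev n
  let k := (ComplexShape.up ℤ).next n
  let S : ShortComplex (ℕ ⥤ D) :=
    ShortComplex.mk (X₁ := G ⋙ eval D (ComplexShape.up ℤ) i) (X₂ := G ⋙ eval D (ComplexShape.up ℤ) n)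
      (X₃ := G ⋙ eval D (ComplexShape.up ℤ) k)
      { app := fun j => (G.obj j).d i n
        naturality := fun j j' φ => ((G.map φ).comm i n) }
      { app := fun j => (G.obj j).d n k
        naturality := fun j j' φ => ((G.map φ).comm n k) }
      (by ext j; exact (G.obj j).d_comp_d i n k)
  have hH : ∀ j : ℕ, S.homology.map (homOfLE (Nat.le_succ j)) = 0 := fun j => by
    have := NatTrans.app_homology ((evaluation ℕ D).map (homOfLE (Nat.le_succ j))) S
    dsimp at this
    rw [this]
    have h0 : ShortComplex.homologyMap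
        (S.mapNatTrans ((evaluation ℕ D).map (homOfLE (Nat.le_succ j)))) = 0 := h j n
    rw [h0, zero_comp, comp_zero]
  have hS : (S.map colim).Exact := by
    rw [ShortComplex.exact_iff_isZero_homology]
    exact (isZero_colimit_of_map_succ_eq_zero _ hH).of_iso (S.mapHomologyIso colim)
  exact exact_mapShortComplex_of_exact_map_colim S hS
    (isColimitOfPreserves (eval D (ComplexShape.up ℤ) i) hc)
    (isColimitOfPreserves (eval D (ComplexShape.up ℤ) n) hc)
    (isColimitOfPreserves (eval D (ComplexShape.up ℤ) k) hc)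
    (c.pt.d i n) (c.pt.d n k)
    (fun j => (c.ι.app j).comm i n) (fun j => (c.ι.app j).comm n k)

end ColimZero

section ConeFunctor

variable (G : CochainComplex A ℤ)

/-- the cone of the structure map, as a functor on complexes over `G` -/
noncomputable def coneFunctor : Over G ⥤ CochainComplex A ℤ where
  obj X := mappingCone X.hom
  map {X Y} f := mappingCone.map X.hom Y.hom f.left (𝟙 G) (by rw [Category.comp_id, Over.w f])
  map_id X := by
    ext n
    simp [mappingCone.ext_from_iff _ (n + 1) n rfl, mappingCone.map]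
  map_comp f g := by
    ext n
    simp [mappingCone.ext_from_iff _ (n + 1) n rfl, mappingCone.map]

variable {G} [HasColimitsOfShape ℕ A] (F : ℕ ⥤ Over G) (c : Cocone (F ⋙ Over.forget G))
  (hc : IsColimit c)

/-- the induced map from the colimit to `G` -/
noncomputable def colimHom : c.pt ⟶ G :=
  hc.desc
    { pt := G
      ι :=
        { app := fun i => (F.obj i).hom
          naturality := fun i j f => by
            dsimp
            rw [Over.w, Category.comp_id] } }

@[reassoc (attr := simp)]
lemma ι_colimHom (i : ℕ) : c.ι.app i ≫ colimHom F c hc = (F.obj i).hom := hc.fac _ i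

/-- the cocone in `Over G` -/
noncomputable def overCocone : Cocone F where
  pt := Over.mk (colimHom F c hc)
  ι :=
    { app := fun i => Over.homMk (c.ι.app i) (ι_colimHom F c hc i)
      naturality := fun i j f => by
        ext : 1
        exact (c.w f).trans (Category.comp_id _).symm }

/-- the cone of the colimit is the colimit of the cones -/
noncomputable def isColimitConeCocone :
    IsColimit ((coneFunctor G).mapCocone (overCocone F c hc)) := by
  refine isColimitOfEval _ _ (fun n => ?_)
  let q' := colimHom F c hc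
  have hcn1 : IsColimit ((eval A (ComplexShape.up ℤ) (n + 1)).mapCocone c) :=
    isColimitOfPreserves _ hc
  -- the cocone maps in degree `n`
  let γ : ∀ i : ℕ, mappingCone (F.obj i).hom ⟶ mappingCone q' := fun i =>
    mappingCone.map (F.obj i).hom q' (c.ι.app i) (𝟙 G)
      ((Category.comp_id _).trans (ι_colimHom F c hc i).symm)
  let tr : ∀ {i j : ℕ} (f : i ⟶ j), mappingCone (F.obj i).hom ⟶ mappingCone (F.obj j).hom :=
    fun {i j} f => mappingCone.map (F.obj i).hom (F.obj j).hom (F.map f).left (𝟙 G)
      (by rw [Category.comp_id, Over.w])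
  let cc₁ : ∀ s : Cocone ((F ⋙ coneFunctor G) ⋙ eval A (ComplexShape.up ℤ) n),
      Cocone ((F ⋙ Over.forget G) ⋙ eval A (ComplexShape.up ℤ) (n + 1)) := fun s =>
    { pt := s.pt
      ι :=
        { app := fun i => (mappingCone.inl (F.obj i).hom).v (n + 1) n (by omega) ≫ s.ι.app i
          naturality := fun i j f => by
            have h1 : (tr f).f n ≫ s.ι.app j = s.ι.app i := s.w f
            have h2 := inl_v_map_f (F.obj i).hom (F.obj j).hom (F.map f).left (𝟙 G)
              (by rw [Category.comp_id, Over.w]) (n + 1) n (by omega)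
            change (F.map f).left.f (n + 1) ≫
              (mappingCone.inl (F.obj j).hom).v (n + 1) n (by omega) ≫ s.ι.app j =
              ((mappingCone.inl (F.obj i).hom).v (n + 1) n (by omega) ≫ s.ι.app i) ≫ 𝟙 _
            rw [Category.comp_id, ← h1, ← Category.assoc, ← h2, Category.assoc] } }
  let m₂ : ∀ s : Cocone ((F ⋙ coneFunctor G) ⋙ eval A (ComplexShape.up ℤ) n), G.X n ⟶ s.pt :=
    fun s => (mappingCone.inr (F.obj 0).hom).f n ≫ s.ι.app 0
  have hm₂ : ∀ (s : Cocone ((F ⋙ coneFunctor G) ⋙ eval A (ComplexShape.up ℤ) n)) (i : ℕ),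
      (mappingCone.inr (F.obj i).hom).f n ≫ s.ι.app i = m₂ s := fun s i => by
    let f : (0 : ℕ) ⟶ i := homOfLE (Nat.zero_le i)
    have h1 : (tr f).f n ≫ s.ι.app i = s.ι.app 0 := s.w f
    have h2 := inr_f_map_f (F.obj 0).hom (F.obj i).hom (F.map f).left (𝟙 G)
      (by rw [Category.comp_id, Over.w]) n
    rw [id_f, Category.id_comp] at h2
    change _ = (mappingCone.inr (F.obj 0).hom).f n ≫ s.ι.app 0
    rw [← h1, ← Category.assoc, h2]
  exact
    { desc := fun s => (mappingCone.fst q').1.v n (n + 1) rfl ≫ hcn1.desc (cc₁ s) +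
        (mappingCone.snd q').v n n (add_zero n) ≫ m₂ s
      fac := fun s i => by
        change (γ i).f n ≫ _ = _
        apply mappingCone.ext_from _ (n + 1) n rfl
        · rw [inl_v_map_f_assoc, Preadditive.comp_add, Preadditive.comp_add,
            mappingCone.inl_v_fst_v_assoc, mappingCone.inl_v_snd_v_assoc, zero_comp, comp_zero,
            add_zero]
          exact hcn1.fac (cc₁ s) i
        · rw [inr_f_map_f_assoc, id_f, Category.id_comp, Preadditive.comp_add,
            mappingCone.inr_f_fst_v_assoc, mappingCone.inr_f_snd_v_assoc, zero_comp, zero_add]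
          exact (hm₂ s i).symm
      uniq := fun s m hm => by
        let m' : (mappingCone q').X n ⟶ s.pt := m
        have hm' : ∀ i, (γ i).f n ≫ m' = s.ι.app i := hm
        change m' = _
        apply mappingCone.ext_from _ (n + 1) n rfl
        · rw [Preadditive.comp_add, mappingCone.inl_v_fst_v_assoc, mappingCone.inl_v_snd_v_assoc,
            zero_comp, add_zero]
          refine hcn1.uniq (cc₁ s) _ (fun i => ?_)
          change (c.ι.app i).f (n + 1) ≫ _ = _ ≫ s.ι.app i
          rw [← hm' i]
          exact (inl_v_map_f_assoc (F.obj i).hom q' (c.ι.app i) (𝟙 G)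
            ((Category.comp_id _).trans (ι_colimHom F c hc i).symm) (n + 1) n (by omega) m').symm
        · rw [Preadditive.comp_add, mappingCone.inr_f_fst_v_assoc, mappingCone.inr_f_snd_v_assoc,
            zero_comp, zero_add]
          change _ = (mappingCone.inr (F.obj 0).hom).f n ≫ s.ι.app 0
          rw [← hm' 0]
          refine Eq.trans ?_ (inr_f_map_f_assoc (F.obj 0).hom q' (c.ι.app 0) (𝟙 G)
            ((Category.comp_id _).trans (ι_colimHom F c hc 0).symm) n m').symm
          rw [id_f, Category.id_comp] }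

end ConeFunctor

section Main

variable [HasColimitsOfShape ℕ A] [HasExactColimitsOfShape ℕ A]
  (𝒱 : CochainComplex A ℤ → Prop)
  {G : CochainComplex A ℤ}

/-- the data of one attachment step -/
structure Step (X : Over G) where
  /-- the cell -/
  V : CochainComplex A ℤ
  hV : 𝒱 V
  /-- the attaching map -/
  φ : V ⟶ X.left
  /-- the extension of the structure map -/
  q' : mappingCone φ ⟶ G
  w : mappingCone.inr φ ≫ q' = X.hom
  zero : ∀ m : ℤ, homologyMap (mappingCone.map X.hom q' (mappingCone.inr φ) (𝟙 G)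
    (by rw [Category.comp_id, w])) m = 0

variable (hcover : ∀ Z : ℤ → A, ∃ V : CochainComplex A ℤ, 𝒱 V ∧ (∀ i j : ℤ, V.d i j = 0) ∧
  ∃ e : ∀ n : ℤ, V.X n ⟶ Z n, ∀ n : ℤ, Epi (e n))

include hcover in
lemma nonempty_step (X : Over G) : Nonempty (Step 𝒱 X) := by
  obtain ⟨V, hV, hd, e, he⟩ := hcover (fun n => (mappingCone X.hom).cycles (n + (-1)))
  exact ⟨{ V := V, hV := hV, φ := attach X.hom V hd e, q' := newMap X.hom V hd e,
           w := inr_newMap X.hom V hd e, zero := homologyMap_coneMap X.hom V hd e }⟩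

variable {𝒱}

/-- the next stage -/
noncomputable def Step.next {X : Over G} (st : Step 𝒱 X) : Over G := Over.mk st.q'

/-- the map to the next stage -/
noncomputable def Step.nextMap {X : Over G} (st : Step 𝒱 X) : X ⟶ st.next :=
  Over.homMk (mappingCone.inr st.φ) st.w

variable (st : ∀ X : Over G, Step 𝒱 X) (X₀ : Over G)

/-- the sequence of stages -/
noncomputable def seq : ℕ → Over G
  | 0 => X₀
  | (i + 1) => (st (seq i)).next

/-- the sequence of stages as a functor -/
noncomputable def seqFunctor : ℕ ⥤ Over G :=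
  Functor.ofSequence (X := seq st X₀) (fun i => (st (seq st X₀ i)).nextMap)

lemma seq_property (Pr : CochainComplex A ℤ → Prop)
    (hcone : ∀ (V K : CochainComplex A ℤ) (φ : V ⟶ K), 𝒱 V → Pr K → Pr (mappingCone φ))
    (h0 : Pr X₀.left) (i : ℕ) : Pr (seq st X₀ i).left := by
  induction i with
  | zero => exact h0
  | succ i ih => exact hcone _ _ (st (seq st X₀ i)).φ (st (seq st X₀ i)).hV ih

include hcover in
/-- **cellular factorization**: every morphism `q₀ : K₀ ⟶ G` factors as `K₀ ⟶ K ⟶ G` where `K ⟶ G`
is a quasi-isomorphism and `K` is built from `K₀` by a sequential colimit of cell attachments. -/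
theorem exists_cell_factorization {K₀ : CochainComplex A ℤ} (q₀ : K₀ ⟶ G) :
    ∃ (K : CochainComplex A ℤ) (b : K₀ ⟶ K) (c : K ⟶ G), b ≫ c = q₀ ∧ QuasiIso c ∧
      ∀ (Pr : CochainComplex A ℤ → Prop),
        (∀ (V K : CochainComplex A ℤ) (φ : V ⟶ K), 𝒱 V → Pr K → Pr (mappingCone φ)) →
        (∀ (F : ℕ ⥤ CochainComplex A ℤ) (c : Cocone F), IsColimit c → (∀ i, Pr (F.obj i)) → Pr c.pt) →
        Pr K₀ → Pr K := by
  let st : ∀ X : Over G, Step 𝒱 X := fun X => (nonempty_step 𝒱 hcover X).some
  let X₀ : Over G := Over.mk q₀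
  let F := seqFunctor st X₀
  let c := colimit.cocone (F ⋙ Over.forget G)
  let hc : IsColimit c := colimit.isColimit _
  refine ⟨c.pt, c.ι.app 0, colimHom F c hc, ι_colimHom F c hc 0, ?_, ?_⟩
  · rw [Groth.Agent.Lib.Helper94.KFlatAbs.quasiIso_iff_acyclic_mappingCone]
    refine acyclic_of_isColimit_of_homologyMap_eq_zero _ (isColimitConeCocone F c hc)
      (fun i n => ?_)
    have h1 : F.map (homOfLE (Nat.le_succ i)) = (st (seq st X₀ i)).nextMap :=
      Functor.ofSequence_map_homOfLE_succ _ i
    change homologyMap ((coneFunctor G).map (F.map (homOfLE (Nat.le_succ i)))) n = 0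
    rw [h1]
    exact (st (seq st X₀ i)).zero n
  · intro Pr hcone hcolim h0
    exact hcolim _ c hc (fun i => seq_property st X₀ Pr hcone h0 i)

end Main

end Groth.Agent.Lib.Helper94.CellRes
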