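import Mathlib.CategoryTheory.Functor.Derived.LeftDerived
import Mathlib.CategoryTheory.Functor.Derived.RightDerived
import Mathlib.CategoryTheory.Localization.Opposite

/-!
# Opposites of Kan extensions and derived functors (helper94)

Namespace `Groth.Agent.Lib.Helper94.KanOp`.
If `(LF, α)` is a right Kan extension of `F` along `L` then `(LF.op, α.op)` is a left Kan extension
of `F.op` along `L.op`; hence the opposite of a left derived functor is a right derived functor.
-/

open CategoryTheory CategoryTheory.Limits Opposite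

namespace Groth.Agent.Lib.Helper94.KanOp

universe v₁ v₂ v₃ u₁ u₂ u₃

variable {C : Type u₁} [Category.{v₁} C] {D : Type u₂} [Category.{v₂} D]
  {H : Type u₃} [Category.{v₃} H]

section

variable {L : C ⥤ D} {F : C ⥤ H} (LF : D ⥤ H) (α : L ⋙ LF ⟶ F)

/-- the opposite of the counit, as a unit -/
def opUnit : F.op ⟶ L.op ⋙ LF.op := NatTrans.op α

@[simp] lemma opUnit_app (X : Cᵒᵖ) : (opUnit LF α).app X = (α.app X.unop).op := rfl

/-- the natural transformation `L ⋙ G.unop ⟶ F` attached to `β : F.op ⟶ L.op ⋙ G` -/
def unopCounit (G : Dᵒᵖ ⥤ Hᵒᵖ) (β : F.op ⟶ L.op ⋙ G) : L ⋙ G.unop ⟶ F where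
  app X := (β.app (op X)).unop
  naturality X Y f := by
    have := β.naturality f.op
    exact Quiver.Hom.op_inj this.symm

/-- the natural transformation `LF.op ⟶ G` attached to `γ : G.unop ⟶ LF` -/
def opLift (G : Dᵒᵖ ⥤ Hᵒᵖ) (γ : G.unop ⟶ LF) : LF.op ⟶ G where
  app Y := (γ.app Y.unop).op
  naturality Y Y' f := by
    have := γ.naturality f.unop
    exact Quiver.Hom.unop_inj this.symm

/-- the natural transformation `G.unop ⟶ LF` attached to `γ : LF.op ⟶ G` -/
def unopLift (G : Dᵒᵖ ⥤ Hᵒᵖ) (γ : LF.op ⟶ G) : G.unop ⟶ LF where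
  app Y := (γ.app (op Y)).unop
  naturality Y Y' f := by
    have := γ.naturality f.op
    exact Quiver.Hom.op_inj this.symm

theorem isLeftKanExtension_op [LF.IsRightKanExtension α] :
    LF.op.IsLeftKanExtension (opUnit LF α) := by
  refine ⟨⟨IsInitial.ofUniqueHom (fun E => ?_) (fun E m => ?_)⟩⟩
  · refine StructuredArrow.homMk
      (opLift LF E.right (LF.liftOfIsRightKanExtension α E.right.unop (unopCounit E.right E.hom))) ?_
    ext X
    have := LF.liftOfIsRightKanExtension_fac_app α E.right.unop (unopCounit E.right E.hom) X.unop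
    exact Quiver.Hom.unop_inj this
  · ext Y
    have h1 : unopLift LF E.right m.right =
        LF.liftOfIsRightKanExtension α E.right.unop (unopCounit E.right E.hom) := by
      refine LF.hom_ext_of_isRightKanExtension α _ _ ?_
      rw [LF.liftOfIsRightKanExtension_fac]
      ext X
      have := congr_app (StructuredArrow.w m) (op X)
      exact Quiver.Hom.op_inj this
    have := congr_app h1 Y.unop
    exact Quiver.Hom.unop_inj this

end

section Derived

variable {L : C ⥤ D} {F : C ⥤ H} (LF : D ⥤ H) (α : L ⋙ LF ⟶ F) (W : MorphismProperty C)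
  [L.IsLocalization W]

/-- the opposite of a left derived functor is a right derived functor -/
theorem isRightDerivedFunctor_op [LF.IsLeftDerivedFunctor α W] :
    LF.op.IsRightDerivedFunctor (opUnit LF α) W.op := by
  have : LF.IsRightKanExtension α := Functor.IsLeftDerivedFunctor.isRightKanExtension LF α W
  exact ⟨isLeftKanExtension_op LF α⟩

end Derived

end Groth.Agent.Lib.Helper94.KanOp
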