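import Groth.Agent.Lib.Helper94.KanOp
import Mathlib.CategoryTheory.Localization.DerivabilityStructure.Derives

/-!
# Left derived functors via left derivability structures (helper94)

Namespace `Groth.Agent.Lib.Helper94.DerivesLeft`.
-/

open CategoryTheory CategoryTheory.Limits Opposite

namespace Groth.Agent.Lib.Helper94.DerivesLeft

open Groth.Agent.Lib.Helper94.KanOp

universe v₁ v₂ v₃ v₄ u₁ u₂ u₃ u₄

variable {C₁ : Type u₁} {C₂ : Type u₂} {H : Type u₃} [Category.{v₁} C₁] [Category.{v₂} C₂]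
  [Category.{v₃} H] {D₂ : Type u₄} [Category.{v₄} D₂]
  {W₁ : MorphismProperty C₁} {W₂ : MorphismProperty C₂}

/-- If `Φ` is a left derivability structure and `Φ.functor ⋙ F` inverts `W₁`, then the counit of
any left derived functor of `F` is an isomorphism on the objects coming from `C₁`. -/
theorem isIso_app_of_isLeftDerivabilityStructure (Φ : LocalizerMorphism W₁ W₂)
    [Φ.IsLeftDerivabilityStructure] (F : C₂ ⥤ H) (hF : W₁.IsInvertedBy (Φ.functor ⋙ F))
    (L₂ : C₂ ⥤ D₂) [L₂.IsLocalization W₂] (LF : D₂ ⥤ H) (α : L₂ ⋙ LF ⟶ F)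
    [LF.IsLeftDerivedFunctor α W₂] (X₁ : C₁) : IsIso (α.app (Φ.functor.obj X₁)) := by
  have h : Φ.op.Derives F.op := hF.op
  have := isRightDerivedFunctor_op LF α W₂
  have h2 : IsIso ((opUnit LF α).app (Φ.op.functor.obj (op X₁))) :=
    h.isIso_of_isRightDerivedFunctor (opUnit LF α) (op X₁)
  have h3 : IsIso (α.app (Φ.functor.obj X₁)).op := h2
  exact isIso_of_op _

end Groth.Agent.Lib.Helper94.DerivesLeft
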