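import Mathlib.CategoryTheory.Triangulated.LocalizingSubcategory
import Mathlib.CategoryTheory.Localization.DerivabilityStructure.Constructor
import Mathlib.CategoryTheory.Localization.CalculusOfFractions

/-!
# Resolving triangulated subcategories give left derivability structures (helper94)

Namespace `Groth.Agent.Lib.Helper94.ResolvingSub`.
Let `A`, `B` be triangulated subcategories (closed under isomorphisms) of a triangulated category
`C` such that every object `X` of `C` admits a morphism `P ⟶ X` in `B.trW` with `P` in `A`.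
Then the inclusion `A ⥤ C` is a left derivability structure with respect to `B.trW`.
-/

open CategoryTheory CategoryTheory.Limits Pretriangulated

namespace Groth.Agent.Lib.Helper94.ResolvingSub

variable {C : Type*} [Category C] [HasZeroObject C] [HasShift C ℤ] [Preadditive C]
  [∀ n : ℤ, (shiftFunctor C n).Additive] [Pretriangulated C] [IsTriangulated C]
  (A B : ObjectProperty C) [A.IsTriangulated] [B.IsTriangulated]
  [A.IsClosedUnderIsomorphisms] [B.IsClosedUnderIsomorphisms]

/-- a morphism in `B.trW` between objects of `A` is in `(A ⊓ B).trW` -/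
lemma inf_trW_of_trW {X Y : C} (s : X ⟶ Y) (hX : A X) (hY : A Y) (hs : B.trW s) :
    (A ⊓ B).trW s := by
  obtain ⟨Z, g, h, hT, hZ⟩ := hs
  exact ⟨Z, g, h, hT, A.ext_of_isTriangulatedClosed₃ _ hT hX hY, hZ⟩

variable (hres : ∀ X : C, ∃ (P : C) (q : P ⟶ X), A P ∧ B.trW q)

include hres

lemma isVerdierLeftLocalizing : A.IsVerdierLeftLocalizing B := by
  rw [ObjectProperty.isVerdierLeftLocalizing_iff]
  intro X Y s hY hs
  obtain ⟨P, q, hP, hq⟩ := hres X
  exact ⟨P, q ≫ s, q, hP, inf_trW_of_trW A B _ hP hY (B.trW.comp_mem _ _ hq hs), rfl⟩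

/-- the left resolution of an object given by `hres` -/
noncomputable def leftResolution (X : C) :
    (A.triangulatedLocalizerMorphism B).LeftResolution X :=
  { X₁ := ⟨(hres X).choose, (hres X).choose_spec.choose_spec.1⟩
    w := (hres X).choose_spec.choose
    hw := (hres X).choose_spec.choose_spec.2 }

lemma hasLeftResolutions : (A.triangulatedLocalizerMorphism B).HasLeftResolutions :=
  fun X => ⟨leftResolution A B hres X⟩

lemma isConnected_leftResolution (X : C) :
    IsConnected ((A.triangulatedLocalizerMorphism B).LeftResolution X) := by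
  have : Nonempty ((A.triangulatedLocalizerMorphism B).LeftResolution X) :=
    ⟨leftResolution A B hres X⟩
  refine zigzag_isConnected (fun R R' => ?_)
  obtain ⟨ψ, fac⟩ := MorphismProperty.HasRightCalculusOfFractions.exists_rightFraction
    (W := B.trW) (MorphismProperty.LeftFraction.mk R.w R'.w R'.hw)
  dsimp at fac
  obtain ⟨Q, q, hQ, hq⟩ := hres ψ.X'
  let R'' : (A.triangulatedLocalizerMorphism B).LeftResolution X :=
    { X₁ := ⟨Q, hQ⟩
      w := q ≫ ψ.s ≫ R.w
      hw := B.trW.comp_mem _ _ hq (B.trW.comp_mem _ _ ψ.hs R.hw) }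
  let φ₁ : R'' ⟶ R :=
    { f := A.homMk (q ≫ ψ.s)
      comm := by
        change (q ≫ ψ.s) ≫ R.w = q ≫ ψ.s ≫ R.w
        rw [Category.assoc] }
  let φ₂ : R'' ⟶ R' :=
    { f := A.homMk (q ≫ ψ.f)
      comm := by
        change (q ≫ ψ.f) ≫ R'.w = q ≫ ψ.s ≫ R.w
        rw [Category.assoc, fac] }
  exact (Zigzag.of_inv φ₁).trans (Zigzag.of_hom φ₂)

lemma hasLeftResolutions_arrow :
    (A.triangulatedLocalizerMorphism B).arrow.HasLeftResolutions := by
  intro f
  obtain ⟨Q, wr, hQ, hwr⟩ := hres f.right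
  obtain ⟨ψ, fac⟩ := MorphismProperty.HasRightCalculusOfFractions.exists_rightFraction
    (W := B.trW) (MorphismProperty.LeftFraction.mk f.hom wr hwr)
  dsimp at fac
  obtain ⟨P, q, hP, hq⟩ := hres ψ.X'
  exact ⟨{
    X₁ := Arrow.mk (A.homMk (q ≫ ψ.f) : (⟨P, hP⟩ : A.FullSubcategory) ⟶ ⟨Q, hQ⟩)
    w := Arrow.homMk (q ≫ ψ.s) wr (by
      change (q ≫ ψ.s) ≫ f.hom = (q ≫ ψ.f) ≫ wr
      rw [Category.assoc, Category.assoc, fac])
    hw := ⟨B.trW.comp_mem _ _ hq ψ.hs, hwr⟩ }⟩

lemma isLocalizedEquivalence : (A.triangulatedLocalizerMorphism B).IsLocalizedEquivalence := by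
  have := isVerdierLeftLocalizing A B hres
  have := hasLeftResolutions A B hres
  let Φ := A.triangulatedLocalizerMorphism B
  let L₁ := (B.inverseImage A.ι).trW.Q
  let L₂ := B.trW.Q
  let G := Φ.localizedFunctor L₁ L₂
  have h1 : (Φ.functor ⋙ L₂).EssSurj := Φ.essSurj_of_hasLeftResolutions L₂
  have h2 : (L₁ ⋙ G).EssSurj := Functor.essSurj_of_iso (CatCommSq.iso Φ.functor L₁ L₂ G)
  have h3 : G.EssSurj :=
    ⟨fun Y => ⟨L₁.obj ((L₁ ⋙ G).objPreimage Y), ⟨(L₁ ⋙ G).objObjPreimageIso Y⟩⟩⟩
  have : G.IsEquivalence := { }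
  exact LocalizerMorphism.IsLocalizedEquivalence.mk' Φ L₁ L₂ G

theorem isLeftDerivabilityStructure :
    (A.triangulatedLocalizerMorphism B).IsLeftDerivabilityStructure := by
  have := isLocalizedEquivalence A B hres
  have := hasLeftResolutions_arrow A B hres
  have := isConnected_leftResolution A B hres
  exact LocalizerMorphism.IsLeftDerivabilityStructure.mk' _

end Groth.Agent.Lib.Helper94.ResolvingSub
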