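import Groth.Agent.Lib.Helper94.KFlatBi
import Mathlib.Algebra.Homology.Embedding.HomEquiv
import Mathlib.Algebra.Homology.Embedding.StupidTrunc
import Mathlib.CategoryTheory.Limits.Constructions.EventuallyConstant

/-!
# Brutal truncations and K-flatness of bounded above termwise flat complexes (helper94)

Namespace `Groth.Agent.Lib.Helper94.KFlatTrunc`.

* `Q K m`, `π K m : K ⟶ Q K m` : the brutal truncation `σ_{≤ m} K` with its projection;
* `sub K m = ker (π K m) = σ_{> m} K` with `subι K m : sub K m ⟶ K`, transition maps `subMap`;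
* `subFunctor K b : ℕ ⥤ CochainComplex C ℤ`, `k ↦ σ_{> b - k} K`, with colimit cocone `subCocone`;
* generic: `isKFlat₂_of_concentrated`, `isKFlat₂_of_bounded_above`.
-/

universe v u

open CategoryTheory CategoryTheory.Limits HomologicalComplex

namespace Groth.Agent.Lib.Helper94.KFlatTrunc

section Trunc

variable {C : Type u} [Category.{v} C] [Abelian C]

lemma exists_truncLE (K : CochainComplex C ℤ) (m : ℤ) :
    ∃ (Q : CochainComplex C ℤ) (π : K ⟶ Q),
      (∀ n : ℤ, n ≤ m → IsIso (π.f n)) ∧ (∀ n : ℤ, m < n → IsZero (Q.X n)) := by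
  let e := ComplexShape.embeddingUpIntLE m
  have hlift : e.HasLift (𝟙 (K.restriction e)) := fun j hj => (hj.false_of_isTruncLE).elim
  refine ⟨(K.restriction e).extend e, e.liftExtend (𝟙 (K.restriction e)) hlift,
    fun n hn => ?_, fun n hn => ?_⟩
  · obtain ⟨k, hk⟩ : ∃ k : ℕ, e.f k = n := ⟨(m - n).toNat, by
      change m - ((m - n).toNat : ℤ) = n
      omega⟩
    rw [e.isIso_liftExtend_f_iff _ hlift hk]
    infer_instance
  · change IsZero ((K.stupidTrunc e).X n)
    refine K.isZero_stupidTrunc_X e n (fun k hk => ?_)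
    change m - (k : ℤ) = n at hk
    omega

/-- the brutal truncation `σ_{≤ m} K` -/
noncomputable def Q (K : CochainComplex C ℤ) (m : ℤ) : CochainComplex C ℤ :=
  (exists_truncLE K m).choose

/-- the projection `K ⟶ σ_{≤ m} K` -/
noncomputable def π (K : CochainComplex C ℤ) (m : ℤ) : K ⟶ Q K m :=
  (exists_truncLE K m).choose_spec.choose

lemma isIso_π_f (K : CochainComplex C ℤ) (m n : ℤ) (h : n ≤ m) : IsIso ((π K m).f n) :=
  (exists_truncLE K m).choose_spec.choose_spec.1 n h

lemma isZero_Q_X (K : CochainComplex C ℤ) (m n : ℤ) (h : m < n) : IsZero ((Q K m).X n) :=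
  (exists_truncLE K m).choose_spec.choose_spec.2 n h

instance epi_π (K : CochainComplex C ℤ) (m : ℤ) : Epi (π K m) := by
  have : ∀ n, Epi ((π K m).f n) := fun n => by
    by_cases h : n ≤ m
    · have := isIso_π_f K m n h
      infer_instance
    · exact ⟨fun _ _ _ => (isZero_Q_X K m n (by omega)).eq_of_src _ _⟩
  exact HomologicalComplex.epi_of_epi_f _ this

/-- the brutal truncation `σ_{> m} K`, as the kernel of `K ⟶ σ_{≤ m} K` -/
noncomputable def sub (K : CochainComplex C ℤ) (m : ℤ) : CochainComplex C ℤ := kernel (π K m)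

/-- the inclusion `σ_{> m} K ⟶ K` -/
noncomputable def subι (K : CochainComplex C ℤ) (m : ℤ) : sub K m ⟶ K := kernel.ι (π K m)

instance mono_subι (K : CochainComplex C ℤ) (m : ℤ) : Mono (subι K m) :=
  inferInstanceAs (Mono (kernel.ι (π K m)))

@[reassoc (attr := simp)]
lemma subι_π (K : CochainComplex C ℤ) (m : ℤ) : subι K m ≫ π K m = 0 := kernel.condition _

lemma shortExact_sub (K : CochainComplex C ℤ) (m : ℤ) :
    (ShortComplex.mk (subι K m) (π K m) (subι_π K m)).ShortExact :=
  { exact := ShortComplex.exact_of_f_is_kernel _ (kernelIsKernel (π K m)) }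

lemma shortExact_sub_eval (K : CochainComplex C ℤ) (m n : ℤ) :
    (ShortComplex.mk ((subι K m).f n) ((π K m).f n)
      (by rw [← comp_f, subι_π, zero_f])).ShortExact :=
  (shortExact_sub K m).map_of_exact (eval C (ComplexShape.up ℤ) n)

lemma isZero_sub_X (K : CochainComplex C ℤ) (m n : ℤ) (h : n ≤ m) : IsZero ((sub K m).X n) := by
  have hS := shortExact_sub_eval K m n
  have := isIso_π_f K m n h
  have := hS.mono_f
  refine IsZero.of_mono_eq_zero ((subι K m).f n) ?_
  rw [← cancel_mono ((π K m).f n), zero_comp, ← comp_f, subι_π, zero_f]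

lemma isIso_subι_f (K : CochainComplex C ℤ) (m n : ℤ) (h : m < n) : IsIso ((subι K m).f n) :=
  (shortExact_sub_eval K m n).isIso_f_iff.2 (isZero_Q_X K m n h)

lemma subι_π_of_le (K : CochainComplex C ℤ) {m m' : ℤ} (h : m ≤ m') : subι K m' ≫ π K m = 0 := by
  ext n
  by_cases hn : n ≤ m'
  · exact (isZero_sub_X K m' n hn).eq_of_src _ _
  · exact (isZero_Q_X K m n (by omega)).eq_of_tgt _ _

/-- the inclusion `σ_{> m'} K ⟶ σ_{> m} K` for `m ≤ m'` -/
noncomputable def subMap (K : CochainComplex C ℤ) {m m' : ℤ} (h : m ≤ m') : sub K m' ⟶ sub K m :=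
  kernel.lift _ (subι K m') (subι_π_of_le K h)

@[reassoc (attr := simp)]
lemma subMap_ι (K : CochainComplex C ℤ) {m m' : ℤ} (h : m ≤ m') :
    subMap K h ≫ subι K m = subι K m' := kernel.lift_ι _ _ _

instance mono_subMap (K : CochainComplex C ℤ) {m m' : ℤ} (h : m ≤ m') : Mono (subMap K h) :=
  mono_of_mono_fac (subMap_ι K h)

lemma isIso_subMap_f (K : CochainComplex C ℤ) {m m' : ℤ} (h : m ≤ m') (n : ℤ) (hn : m' < n) :
    IsIso ((subMap K h).f n) := by
  have h1 : (subMap K h).f n ≫ (subι K m).f n = (subι K m').f n := by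
    rw [← comp_f, subMap_ι]
  have := isIso_subι_f K m n (by omega)
  have := isIso_subι_f K m' n hn
  exact IsIso.of_isIso_fac_right h1

/-- `k ↦ σ_{> b - k} K` -/
noncomputable def subFunctor (K : CochainComplex C ℤ) (b : ℤ) : ℕ ⥤ CochainComplex C ℤ where
  obj k := sub K (b - k)
  map {k k'} f := subMap K (m := b - k') (m' := b - k) (by have := leOfHom f; omega)
  map_id k := by rw [← cancel_mono (subι K _), subMap_ι, Category.id_comp]
  map_comp f g := by rw [← cancel_mono (subι K _), Category.assoc, subMap_ι, subMap_ι, subMap_ι]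

/-- the cocone `σ_{> b - k} K ⟶ K` -/
noncomputable def subCocone (K : CochainComplex C ℤ) (b : ℤ) : Cocone (subFunctor K b) where
  pt := K
  ι :=
    { app := fun k => subι K (b - k)
      naturality := fun k k' f => by
        dsimp [subFunctor]
        rw [subMap_ι, Category.comp_id] }

/-- `K` is the colimit (union) of its brutal truncations `σ_{> b - k} K` -/
noncomputable def isColimitSubCocone (K : CochainComplex C ℤ) (b : ℤ) :
    IsColimit (subCocone K b) := by
  refine isColimitOfEval _ _ (fun n => ?_)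
  let k₀ : ℕ := (b - n + 1).toNat
  have hk₀ : (subFunctor K b ⋙ eval C (ComplexShape.up ℤ) n).IsEventuallyConstantFrom k₀ := by
    intro k f
    have := leOfHom f
    exact isIso_subMap_f K (m := b - k) (m' := b - k₀) (by omega) n (by omega)
  haveI : IsIso (((eval C (ComplexShape.up ℤ) n).mapCocone (subCocone K b)).ι.app k₀) :=
    isIso_subι_f K _ n (by omega)
  exact hk₀.isColimitOfIsIso _

end Trunc

section Concentrated

open Groth.Agent.Lib.Helper94.KFlatBi Groth.Agent.Lib.Helper94.KFlatAbs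

universe v₁ v₂ v₃ u₁ u₂ u₃

variable {C₁ : Type u₁} [Category.{v₁} C₁] [Abelian C₁] {C₂ : Type u₂} [Category.{v₂} C₂] [Abelian C₂]
  {D : Type u₃} [Category.{v₃} D] [Abelian D]
  (T : C₁ ⥤ C₂ ⥤ D) [T.Additive] [∀ X, (T.obj X).Additive]
  [∀ (K₁ : CochainComplex C₁ ℤ) (K₂ : CochainComplex C₂ ℤ),
    HasMapBifunctor K₁ K₂ T (ComplexShape.up ℤ)]

/-- `M` is flat for `T`: `T(-, M)` preserves exact short complexes -/
def IsFlatObj (M : C₂) : Prop :=
  ∀ S : ShortComplex C₁, S.Exact → (S.map (T.flip.obj M)).Exact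

variable {T} in
lemma IsFlatObj.of_iso {M N : C₂} (e : M ≅ N) (h : IsFlatObj T M) : IsFlatObj T N := fun S hS =>
  (ShortComplex.exact_iff_of_iso (S.mapNatIso (T.flip.mapIso e))).1 (h S hS)

variable (F : CochainComplex C₁ ℤ) (L : CochainComplex C₂ ℤ) (q₀ : ℤ)

/-- the projection of `Tot(T(F,L))^n` on its only non zero summand -/
noncomputable def invι (p n : ℤ) (h : p + q₀ = n) :
    (mapBifunctor F L T (ComplexShape.up ℤ)).X n ⟶ (T.obj (F.X p)).obj (L.X q₀) :=
  mapBifunctorDesc (K₁ := F) (K₂ := L) (F := T) (c := ComplexShape.up ℤ) (j := n)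
    (fun p' q' h' =>
      if hq : q' = q₀ then
        eqToHom (by
          subst hq
          have hp : p' = p := by
            change p' + q' = n at h'
            omega
          subst hp
          rfl)
      else 0)

variable (hL : ∀ q : ℤ, q ≠ q₀ → IsZero (L.X q))

include hL in
lemma isIso_ι (p n : ℤ) (h : p + q₀ = n) :
    IsIso (ιMapBifunctor F L T (ComplexShape.up ℤ) p q₀ n h) := by
  refine ⟨invι T F L q₀ p n h, ?_, ?_⟩
  · unfold invι
    rw [ι_mapBifunctorDesc, dif_pos rfl, eqToHom_refl]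
  · refine mapBifunctor.hom_ext (K₁ := F) (K₂ := L) (F := T) (c := ComplexShape.up ℤ)
      (fun p' q' h' => ?_)
    unfold invι
    rw [ι_mapBifunctorDesc_assoc]
    by_cases hq : q' = q₀
    · subst hq
      have hp : p' = p := by
        change p' + q' = n at h'
        omega
      subst hp
      rw [dif_pos rfl, eqToHom_refl, Category.id_comp, Category.comp_id]
    · rw [dif_neg hq, zero_comp]
      exact (((T.obj (F.X p')).map_isZero (hL q' hq)).eq_of_src _ _)

include hL in
lemma ι_d (p p' n n' : ℤ) (h : p + q₀ = n) (hp : p + 1 = p') (hn : n + 1 = n') :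
    ιMapBifunctor F L T (ComplexShape.up ℤ) p q₀ n h ≫
        (mapBifunctor F L T (ComplexShape.up ℤ)).d n n' =
      (T.map (F.d p p')).app (L.X q₀) ≫
        ιMapBifunctor F L T (ComplexShape.up ℤ) p' q₀ n' (by
          change p' + q₀ = n'
          omega) := by
  have hd : L.d q₀ (q₀ + 1) = 0 := (hL (q₀ + 1) (by omega)).eq_of_tgt _ _
  rw [mapBifunctor.d_eq, Preadditive.comp_add, mapBifunctor.ι_D₁, mapBifunctor.ι_D₂,
    mapBifunctor.d₁_eq F L T (ComplexShape.up ℤ) (show (ComplexShape.up ℤ).Rel p p' from hp) q₀ n'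
      (by change p' + q₀ = n'; omega),
    mapBifunctor.d₂_eq F L T (ComplexShape.up ℤ) p
      (show (ComplexShape.up ℤ).Rel q₀ (q₀ + 1) from rfl) n'
      (by change p + (q₀ + 1) = n'; omega), hd, Functor.map_zero, zero_comp, smul_zero, add_zero]
  simp

include hL in
/-- a complex concentrated in one degree, with `T`-flat term, is K-flat -/
theorem isKFlat₂_of_concentrated (hflat : IsFlatObj T (L.X q₀)) : IsKFlat₂ T L := by
  intro F hF n
  rw [exactAt_iff' _ (n - 1) n (n + 1) (by simp) (by simp)]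
  obtain ⟨p, hp⟩ : ∃ p : ℤ, p + q₀ = n := ⟨n - q₀, by omega⟩
  have h0 : (F.sc' (p - 1) p (p + 1)).Exact :=
    (F.exactAt_iff' (p - 1) p (p + 1) (by simp) (by simp)).1 (hF p)
  have h1 := hflat _ h0
  have h₁ : p - 1 + q₀ = n - 1 := by omega
  have h₃ : p + 1 + q₀ = n + 1 := by omega
  let e₁ := @asIso _ _ _ _ (ιMapBifunctor F L T (ComplexShape.up ℤ) (p - 1) q₀ (n - 1) h₁)
    (isIso_ι T F L q₀ hL (p - 1) (n - 1) h₁)
  let e₂ := @asIso _ _ _ _ (ιMapBifunctor F L T (ComplexShape.up ℤ) p q₀ n hp)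
    (isIso_ι T F L q₀ hL p n hp)
  let e₃ := @asIso _ _ _ _ (ιMapBifunctor F L T (ComplexShape.up ℤ) (p + 1) q₀ (n + 1) h₃)
    (isIso_ι T F L q₀ hL (p + 1) (n + 1) h₃)
  refine (ShortComplex.exact_iff_of_iso (ShortComplex.isoMk e₁ e₂ e₃ ?_ ?_)).1 h1
  · exact ι_d T F L q₀ hL (p - 1) p (n - 1) n (by omega) (by omega) (by omega)
  · exact ι_d T F L q₀ hL p (p + 1) n (n + 1) hp rfl rfl

end Concentrated

section BoundedAbove

open Groth.Agent.Lib.Helper94.KFlatBi Groth.Agent.Lib.Helper94.KFlatAbs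

universe v₁ v₂ v₃ u₁ u₂ u₃

variable {C₁ : Type u₁} [Category.{v₁} C₁] [Abelian C₁] {C₂ : Type u₂} [Category.{v₂} C₂] [Abelian C₂]
  {D : Type u₃} [Category.{v₃} D] [Abelian D]
  (T : C₁ ⥤ C₂ ⥤ D) [T.Additive] [∀ X, (T.obj X).Additive]
  [∀ (K₁ : CochainComplex C₁ ℤ) (K₂ : CochainComplex C₂ ℤ),
    HasMapBifunctor K₁ K₂ T (ComplexShape.up ℤ)]

lemma isFlatObj_of_isZero (M : C₂) (hM : IsZero M) : IsFlatObj T M := fun S _ =>
  ShortComplex.exact_of_isZero_X₂ _ ((T.obj S.X₂).map_isZero hM)

/-- a complex with all terms zero is K-flat -/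
theorem isKFlat₂_of_isZero_X (K : CochainComplex C₂ ℤ) (hK : ∀ n, IsZero (K.X n)) :
    IsKFlat₂ T K :=
  isKFlat₂_of_concentrated T K 0 (fun q _ => hK q) (isFlatObj_of_isZero T _ (hK 0))

variable [HasCoproducts.{0} D] [AB4OfSize.{0} D]

/-- the brutal truncations `σ_{> b - k} K` of a bounded above termwise flat complex are K-flat -/
theorem isKFlat₂_sub (K : CochainComplex C₂ ℤ) (b : ℤ) (hb : ∀ n : ℤ, b < n → IsZero (K.X n))
    (hflat : ∀ n : ℤ, IsFlatObj T (K.X n)) (k : ℕ) :
    ∀ m : ℤ, m = b - k → IsKFlat₂ T (sub K m) := by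
  induction k with
  | zero =>
    intro m hm
    refine isKFlat₂_of_isZero_X T _ (fun n => ?_)
    by_cases hn : n ≤ m
    · exact isZero_sub_X K m n hn
    · have := isIso_subι_f K m n (by omega)
      exact IsZero.of_iso (hb n (by simp at hm; omega)) (asIso ((subι K m).f n))
  | succ k ih =>
    intro m hm
    have ih' := ih (m + 1) (by push_cast at hm; omega)
    have hmm : m ≤ m + 1 := by omega
    let f : sub K (m + 1) ⟶ sub K m := subMap K hmm
    let S := ShortComplex.mk f (cokernel.π f) (cokernel.condition f)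
    have hS : S.ShortExact :=
      { exact := ShortComplex.exact_of_g_is_cokernel _ (cokernelIsCokernel f) }
    have hSq : ∀ q : ℤ, (S.map (eval C₂ (ComplexShape.up ℤ) q)).ShortExact :=
      fun q => hS.map_of_exact _
    have hle : ∀ q : ℤ, q ≤ m + 1 → IsIso ((cokernel.π f).f q) := fun q hq =>
      (hSq q).isIso_g_iff.2 (isZero_sub_X K (m + 1) q hq)
    have hgt : ∀ q : ℤ, m + 1 < q → IsZero ((cokernel f).X q) := fun q hq =>
      (hSq q).isIso_f_iff.1 (isIso_subMap_f K hmm q hq)
    have hsplit : ∀ q : ℤ, Nonempty (S.map (eval C₂ (ComplexShape.up ℤ) q)).Splitting := fun q => by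
      by_cases hq : q ≤ m + 1
      · exact ⟨ShortComplex.Splitting.ofIsZeroOfIsIso _ (isZero_sub_X K (m + 1) q hq) (hle q hq)⟩
      · exact ⟨ShortComplex.Splitting.ofIsIsoOfIsZero _ (isIso_subMap_f K hmm q (by omega))
          (hgt q (by omega))⟩
    have h23 := isKFlat₂_two_of_three T S
      (fun X q => ((hsplit q).some.map (T.obj X)).shortExact)
    refine h23.2.1 ih' ?_
    refine isKFlat₂_of_concentrated T _ (m + 1) (fun q hq => ?_) ?_
    · by_cases hq' : q ≤ m
      · have : Epi ((cokernel.π f).f q) := (hSq q).epi_g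
        exact IsZero.of_epi ((cokernel.π f).f q) (isZero_sub_X K m q hq')
      · exact hgt q (by omega)
    · have := hle (m + 1) le_rfl
      have := isIso_subι_f K m (m + 1) (by omega)
      exact (hflat (m + 1)).of_iso
        ((asIso ((subι K m).f (m + 1))).symm ≪≫ asIso ((cokernel.π f).f (m + 1)))

variable [HasColimitsOfShape ℕ C₂] [∀ X : C₁, PreservesColimitsOfShape ℕ (T.obj X)]
  [HasColimitsOfShape ℕ D] [HasExactColimitsOfShape ℕ D]

/-- a bounded above complex with `T`-flat terms is K-flat -/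
theorem isKFlat₂_of_bounded_above (K : CochainComplex C₂ ℤ) (b : ℤ)
    (hb : ∀ n : ℤ, b < n → IsZero (K.X n)) (hflat : ∀ n : ℤ, IsFlatObj T (K.X n)) :
    IsKFlat₂ T K :=
  isKFlat₂_of_isColimit T (subCocone K b) (isColimitSubCocone K b)
    (fun k => isKFlat₂_sub T K b hb hflat k _ rfl)

end BoundedAbove

end Groth.Agent.Lib.Helper94.KFlatTrunc
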