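import Groth.Agent.Lib.Helper94.CellRes
import Groth.Agent.Lib.Helper94.KFlatTrunc

/-!
# K-flat resolutions for a biadditive bifunctor (helper94)

Namespace `Groth.Agent.Lib.Helper94.KFlatRes`.
-/

universe v₁ v₂ v₃ u₁ u₂ u₃ w w'

open CategoryTheory CategoryTheory.Limits HomologicalComplex CochainComplex

namespace Groth.Agent.Lib.Helper94.KFlatRes

open Groth.Agent.Lib.Helper94.KFlatBi Groth.Agent.Lib.Helper94.KFlatAbs
  Groth.Agent.Lib.Helper94.KFlatTrunc Groth.Agent.Lib.Helper94.CellRes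

variable {C₁ : Type u₁} [Category.{v₁} C₁] [Abelian C₁] {C₂ : Type u₂} [Category.{v₂} C₂] [Abelian C₂]
  {D : Type u₃} [Category.{v₃} D] [Abelian D]
  (T : C₁ ⥤ C₂ ⥤ D) [T.Additive] [∀ X, (T.obj X).Additive]

section FlatObj

/-- `T`-flat objects are stable under colimits of exact shape preserved by `T` -/
theorem isFlatObj_of_isColimit {J : Type w} [Category.{w'} J]
    [∀ X : C₁, PreservesColimitsOfShape J (T.obj X)]
    [HasColimitsOfShape J D] [HasExactColimitsOfShape J D]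
    {G : J ⥤ C₂} (c : Cocone G) (hc : IsColimit c) (h : ∀ j, IsFlatObj T (G.obj j)) :
    IsFlatObj T c.pt := by
  intro S hS
  let SJ : ShortComplex (J ⥤ D) :=
    ShortComplex.mk (X₁ := G ⋙ T.obj S.X₁) (X₂ := G ⋙ T.obj S.X₂) (X₃ := G ⋙ T.obj S.X₃)
      (Functor.whiskerLeft G (T.map S.f)) (Functor.whiskerLeft G (T.map S.g))
      (by rw [← Functor.whiskerLeft_comp, ← T.map_comp, S.zero, T.map_zero]; rfl)
  have hSJ : SJ.Exact := exact_of_pointwise SJ (fun j => h j S hS)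
  exact colim.exact_mapShortComplex (S := SJ) hSJ
    (isColimitOfPreserves (T.obj S.X₁) hc) (isColimitOfPreserves (T.obj S.X₂) hc)
    (isColimitOfPreserves (T.obj S.X₃) hc)
    ((T.map S.f).app c.pt) ((T.map S.g).app c.pt)
    (fun j => (T.map S.f).naturality (c.ι.app j))
    (fun j => (T.map S.g).naturality (c.ι.app j))

theorem isFlatObj_biprod (M N : C₂) (hM : IsFlatObj T M) (hN : IsFlatObj T N) :
    IsFlatObj T (M ⊞ N) := by
  have : ∀ X : C₁, PreservesColimitsOfShape (Discrete WalkingPair) (T.obj X) := fun X =>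
    haveI := preservesBinaryBiproducts_of_preservesBiproducts (T.obj X)
    preservesBinaryCoproducts_of_preservesBinaryBiproducts _
  haveI : HasFiniteBiproducts D := HasFiniteBiproducts.of_hasFiniteProducts
  exact isFlatObj_of_isColimit T (J := Discrete WalkingPair) _ (BinaryBiproduct.isColimit M N)
    (fun j => by
      rcases j with ⟨_ | _⟩
      · exact hM
      · exact hN)

end FlatObj

section Cells

variable [∀ (K₁ : CochainComplex C₁ ℤ) (K₂ : CochainComplex C₂ ℤ),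
    HasMapBifunctor K₁ K₂ T (ComplexShape.up ℤ)]

/-- cells: K-flat complexes with `T`-flat terms -/
def IsCell (V : CochainComplex C₂ ℤ) : Prop := IsKFlat₂ T V ∧ ∀ n : ℤ, IsFlatObj T (V.X n)

variable [HasColimitsOfShape (Discrete ℤ) C₂] [∀ X : C₁, PreservesColimitsOfShape (Discrete ℤ) (T.obj X)]
  [HasColimitsOfShape (Discrete ℤ) D] [HasExactColimitsOfShape (Discrete ℤ) D]

theorem exists_cell_cover (hflat : ∀ M : C₂, ∃ (P : C₂) (p : P ⟶ M), Epi p ∧ IsFlatObj T P)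
    (Z : ℤ → C₂) :
    ∃ V : CochainComplex C₂ ℤ, IsCell T V ∧ (∀ i j : ℤ, V.d i j = 0) ∧
      ∃ e : ∀ n : ℤ, V.X n ⟶ Z n, ∀ n : ℤ, Epi (e n) := by
  choose P p hp hP using fun n => hflat (Z n)
  let Sg : ℤ → CochainComplex C₂ ℤ := fun n => (single C₂ (ComplexShape.up ℤ) n).obj (P n)
  let cof : Cocone (Discrete.functor Sg) := Cofan.mk (∐ Sg) (Sigma.ι Sg)
  have hcof : IsColimit cof := coproductIsCoproduct Sg
  have hev : ∀ m : ℤ, IsColimit ((eval C₂ (ComplexShape.up ℤ) m).mapCocone cof) := fun m =>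
    isColimitOfPreserves _ hcof
  have hflatX : ∀ n m : ℤ, IsFlatObj T ((Sg n).X m) := fun n m => by
    by_cases h : m = n
    · exact (hP n).of_iso (singleObjXIsoOfEq (ComplexShape.up ℤ) n (P n) m h).symm
    · exact isFlatObj_of_isZero T _ (isZero_single_obj_X (ComplexShape.up ℤ) n (P n) m h)
  refine ⟨cof.pt, ⟨?_, fun m => ?_⟩, fun i j => ?_, ?_⟩
  · refine isKFlat₂_of_isColimit T cof hcof (fun ⟨n⟩ => ?_)
    exact isKFlat₂_of_concentrated T (Sg n) n
      (fun q hq => isZero_single_obj_X (ComplexShape.up ℤ) n (P n) q hq) (hflatX n n)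
  · exact isFlatObj_of_isColimit T _ (hev m) (fun ⟨n⟩ => hflatX n m)
  · refine (hev i).hom_ext (fun ⟨n⟩ => ?_)
    have h1 : (Sigma.ι Sg n).f i ≫ (∐ Sg).d i j = (Sg n).d i j ≫ (Sigma.ι Sg n).f j :=
      (Sigma.ι Sg n).comm i j
    have h2 : (Sg n).d i j = 0 := single_obj_d _ _ _ _ _
    change (Sigma.ι Sg n).f i ≫ (∐ Sg).d i j = (Sigma.ι Sg n).f i ≫ 0
    rw [h1, h2, zero_comp, comp_zero]
  · let leg : ∀ m n : ℤ, (Sg n).X m ⟶ Z m := fun m n =>
      if h : m = n then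
        (singleObjXIsoOfEq (ComplexShape.up ℤ) n (P n) m h).hom ≫ p n ≫ eqToHom (by rw [h])
      else 0
    let e : ∀ m : ℤ, (∐ Sg).X m ⟶ Z m := fun m =>
      (hev m).desc (Cocone.mk (Z m) (Discrete.natTrans (fun ⟨n⟩ => leg m n)))
    refine ⟨e, fun m => ?_⟩
    have h1 : (Sigma.ι Sg m).f m ≫ e m = leg m m :=
      (hev m).fac (Cocone.mk (Z m) (Discrete.natTrans (fun ⟨n⟩ => leg m n))) ⟨m⟩
    have h2 : Epi (leg m m) := by
      simp only [leg, dif_pos rfl, eqToHom_refl, Category.comp_id]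
      infer_instance
    exact epi_of_epi_fac h1

theorem isFlatObj_mappingCone_X {V K : CochainComplex C₂ ℤ} (φ : V ⟶ K)
    (hV : ∀ n : ℤ, IsFlatObj T (V.X n)) (hK : ∀ n : ℤ, IsFlatObj T (K.X n)) (n : ℤ) :
    IsFlatObj T ((mappingCone φ).X n) :=
  (isFlatObj_biprod T _ _ (hV (n + 1)) (hK n)).of_iso
    (homotopyCofiber.XIsoBiprod φ n (n + 1) rfl).symm

variable [HasColimitsOfShape ℕ C₂] [HasExactColimitsOfShape ℕ C₂]
  [∀ X : C₁, PreservesColimitsOfShape ℕ (T.obj X)] [HasColimitsOfShape ℕ D]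
  [HasExactColimitsOfShape ℕ D]

/-- **K-flat factorization**: every morphism `q₀ : K₀ ⟶ G` factors through a quasi-isomorphism
`c : K ⟶ G` where `K` is K-flat (resp. has flat terms) as soon as `K₀` is/has. -/
theorem exists_kflat_factorization
    (hflat : ∀ M : C₂, ∃ (P : C₂) (p : P ⟶ M), Epi p ∧ IsFlatObj T P)
    {K₀ G : CochainComplex C₂ ℤ} (q₀ : K₀ ⟶ G) :
    ∃ (K : CochainComplex C₂ ℤ) (b : K₀ ⟶ K) (c : K ⟶ G), b ≫ c = q₀ ∧ QuasiIso c ∧
      (IsKFlat₂ T K₀ → IsKFlat₂ T K) ∧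
      ((∀ n : ℤ, IsFlatObj T (K₀.X n)) → ∀ n : ℤ, IsFlatObj T (K.X n)) := by
  obtain ⟨K, b, c, hbc, hc, hP⟩ :=
    exists_cell_factorization (𝒱 := IsCell T) (exists_cell_cover T hflat) q₀
  refine ⟨K, b, c, hbc, hc, ?_, ?_⟩
  · exact hP (IsKFlat₂ T) (fun V K φ hV hK => isKFlat₂_cone T φ hV.1 hK)
      (fun F c hc h => isKFlat₂_of_isColimit T c hc h)
  · exact hP (fun K => ∀ n : ℤ, IsFlatObj T (K.X n))
      (fun V K φ hV hK => isFlatObj_mappingCone_X T φ hV.2 hK)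
      (fun F c hc h n => isFlatObj_of_isColimit T _
        (isColimitOfPreserves (eval C₂ (ComplexShape.up ℤ) n) hc) (fun i => h i n))

open CochainComplex.HomComplex in
/-- **K-flat resolutions**: every complex is the target of a degreewise epimorphic
quasi-isomorphism from a K-flat complex with flat terms. -/
theorem exists_kflat_resolution
    (hflat : ∀ M : C₂, ∃ (P : C₂) (p : P ⟶ M), Epi p ∧ IsFlatObj T P)
    (G : CochainComplex C₂ ℤ) :
    ∃ (K : CochainComplex C₂ ℤ) (q : K ⟶ G), IsKFlat₂ T K ∧ (∀ n : ℤ, IsFlatObj T (K.X n)) ∧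
      QuasiIso q ∧ ∀ n : ℤ, Epi (q.f n) := by
  obtain ⟨V, hV, hd, e, he⟩ := exists_cell_cover T hflat (fun n => G.X (n + (-1)))
  let α : Cochain V G (-1) := Cochain.mk (fun p q hpq => e p ≫ (G.XIsoOfEq hpq).hom)
  let z : Cocycle V G 0 := Cocycle.mk (δ (-1) 0 α) 1 (zero_add 1) (δ_δ _ _ _ _)
  let β : V ⟶ G := Cocycle.homOf z
  have hβ : δ (-1) 0 α = Cochain.ofHom (𝟙 V ≫ β) := by
    rw [Category.id_comp]
    exact (Cocycle.cochain_ofHom_homOf_eq_coe z).symm
  let q₀ : mappingCone (𝟙 V) ⟶ G := mappingCone.desc (𝟙 V) α β hβ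
  have hq₀ : ∀ n : ℤ, Epi (q₀.f n) := fun n => by
    have h1 : (mappingCone.inl (𝟙 V)).v (n + 1) n (by omega) ≫ q₀.f n =
        α.v (n + 1) n (by omega) := mappingCone.inl_v_desc_f _ _ _ _ _ _ _
    have h2 : Epi (α.v (n + 1) n (by omega)) := by
      simp only [α, Cochain.mk_v]
      infer_instance
    exact epi_of_epi_fac h1
  obtain ⟨K, b, c, hbc, hc, h1, h2⟩ := exists_kflat_factorization T hflat q₀
  refine ⟨K, c, h1 (isKFlat₂_cone T (𝟙 V) hV.1 hV.1),
    h2 (isFlatObj_mappingCone_X T (𝟙 V) hV.2 hV.2), hc, fun n => ?_⟩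
  have h3 : b.f n ≫ c.f n = q₀.f n := by rw [← comp_f, hbc]
  have := hq₀ n
  exact epi_of_epi_fac h3

end Cells

end Groth.Agent.Lib.Helper94.KFlatRes
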