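import Groth.Agent.Lib.Helper94.CellRes
import Groth.Agent.Lib.Helper94.KFlatRes
import Groth.Agent.Lib.Helper94.KFlatResInst

/-!
# Bounded above cellular (flat) resolutions (helper94)

Namespace `Groth.Agent.Lib.Helper94.CellResBdd`.

Variant of `CellRes` keeping track of an upper bound: if `G` and `K₀` vanish in degrees `> n`, the
cellular factorization `K₀ ⟶ K ⟶ G` can be chosen with `K` vanishing in degrees `> n`.
-/

universe v u

open CategoryTheory CategoryTheory.Limits HomologicalComplex CochainComplex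
open CochainComplex.HomComplex

namespace Groth.Agent.Lib.Helper94.CellResBdd

open Groth.Agent.Lib.Helper94.CellRes

section Gen

variable {A : Type u} [Category.{v} A] [Abelian A]

lemma isZero_of_isColimit_of_isZero {J : Type*} [Category J] {F : J ⥤ A} (c : Cocone F)
    (hc : IsColimit c) (h : ∀ j, IsZero (F.obj j)) : IsZero c.pt := by
  rw [IsZero.iff_id_eq_zero]
  exact hc.hom_ext (fun j => (h j).eq_of_src _ _)

lemma isZero_biprod {M N : A} (hM : IsZero M) (hN : IsZero N) : IsZero (M ⊞ N) := by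
  rw [IsZero.iff_id_eq_zero]
  refine biprod.hom_ext' _ _ (hM.eq_of_src _ _) (hN.eq_of_src _ _)

lemma isZero_mappingCone_X {V K : CochainComplex A ℤ} (φ : V ⟶ K) (m : ℤ)
    (hV : IsZero (V.X (m + 1))) (hK : IsZero (K.X m)) : IsZero ((mappingCone φ).X m) :=
  IsZero.of_iso (isZero_biprod hV hK) (homotopyCofiber.XIsoBiprod φ m (m + 1) rfl)

variable [HasColimitsOfShape ℕ A] [HasExactColimitsOfShape ℕ A]
  (𝒱 : CochainComplex A ℤ → Prop) {G : CochainComplex A ℤ}

/-- a step with control on the vanishing of the cell -/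
structure StepB (X : Over G) extends Step 𝒱 X where
  bdd : ∀ j : ℤ, IsZero ((mappingCone X.hom).cycles (j + (-1))) → IsZero (V.X j)

variable (hcover : ∀ Z : ℤ → A, ∃ V : CochainComplex A ℤ, 𝒱 V ∧ (∀ i j : ℤ, V.d i j = 0) ∧
  (∀ j : ℤ, IsZero (Z j) → IsZero (V.X j)) ∧ ∃ e : ∀ n : ℤ, V.X n ⟶ Z n, ∀ n : ℤ, Epi (e n))

include hcover in
lemma nonempty_stepB (X : Over G) : Nonempty (StepB 𝒱 X) := by
  obtain ⟨V, hV, hd, hz, e, he⟩ := hcover (fun n => (mappingCone X.hom).cycles (n + (-1)))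
  exact ⟨{ V := V, hV := hV, φ := attach X.hom V hd e, q' := newMap X.hom V hd e,
           w := inr_newMap X.hom V hd e, zero := homologyMap_coneMap X.hom V hd e, bdd := hz }⟩

variable {𝒱}

lemma StepB.isZero_next {X : Over G} (st : StepB 𝒱 X) (n : ℤ)
    (hG : ∀ i : ℤ, n < i → IsZero (G.X i)) (hX : ∀ i : ℤ, n < i → IsZero (X.left.X i)) :
    ∀ i : ℤ, n < i → IsZero (st.toStep.next.left.X i) := by
  intro i hi
  refine isZero_mappingCone_X st.φ i ?_ (hX i hi)
  refine st.bdd (i + 1) ?_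
  have h : IsZero ((mappingCone X.hom).X (i + 1 + (-1))) :=
    isZero_mappingCone_X X.hom _ (hX _ (by omega)) (hG _ (by omega))
  exact IsZero.of_mono ((mappingCone X.hom).iCycles _) h

variable (st : ∀ X : Over G, StepB 𝒱 X) (X₀ : Over G)

lemma isZero_seq (n : ℤ) (hG : ∀ i : ℤ, n < i → IsZero (G.X i))
    (h0 : ∀ i : ℤ, n < i → IsZero (X₀.left.X i)) (k : ℕ) :
    ∀ i : ℤ, n < i → IsZero ((seq (fun X => (st X).toStep) X₀ k).left.X i) := by
  induction k with
  | zero => exact h0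
  | succ k ih => exact (st _).isZero_next n hG ih

include hcover in
/-- **bounded cellular factorization** -/
theorem exists_cell_factorization_bdd (n : ℤ) (hG : ∀ i : ℤ, n < i → IsZero (G.X i))
    {K₀ : CochainComplex A ℤ} (q₀ : K₀ ⟶ G) (hK₀ : ∀ i : ℤ, n < i → IsZero (K₀.X i)) :
    ∃ (K : CochainComplex A ℤ) (b : K₀ ⟶ K) (c : K ⟶ G), b ≫ c = q₀ ∧ QuasiIso c ∧
      (∀ i : ℤ, n < i → IsZero (K.X i)) ∧
      ∀ (Pr : CochainComplex A ℤ → Prop),
        (∀ (V K : CochainComplex A ℤ) (φ : V ⟶ K), 𝒱 V → Pr K → Pr (mappingCone φ)) →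
        (∀ (F : ℕ ⥤ CochainComplex A ℤ) (c : Cocone F), IsColimit c → (∀ i, Pr (F.obj i)) → Pr c.pt) →
        Pr K₀ → Pr K := by
  let stB : ∀ X : Over G, StepB 𝒱 X := fun X => (nonempty_stepB 𝒱 hcover X).some
  let st : ∀ X : Over G, Step 𝒱 X := fun X => (stB X).toStep
  let X₀ : Over G := Over.mk q₀
  let F := seqFunctor st X₀
  let c := colimit.cocone (F ⋙ Over.forget G)
  let hc : IsColimit c := colimit.isColimit _
  refine ⟨c.pt, c.ι.app 0, colimHom F c hc, ι_colimHom F c hc 0, ?_, ?_, ?_⟩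
  · rw [Groth.Agent.Lib.Helper94.KFlatAbs.quasiIso_iff_acyclic_mappingCone]
    refine acyclic_of_isColimit_of_homologyMap_eq_zero _ (isColimitConeCocone F c hc)
      (fun i n => ?_)
    have h1 : F.map (homOfLE (Nat.le_succ i)) = (st (seq st X₀ i)).nextMap :=
      Functor.ofSequence_map_homOfLE_succ _ i
    change homologyMap ((coneFunctor G).map (F.map (homOfLE (Nat.le_succ i)))) n = 0
    rw [h1]
    exact (st (seq st X₀ i)).zero n
  · intro i hi
    exact isZero_of_isColimit_of_isZero ((eval A (ComplexShape.up ℤ) i).mapCocone c)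
      (isColimitOfPreserves _ hc) (fun k => isZero_seq stB X₀ n hG hK₀ k i hi)
  · intro Pr hcone hcolim h0
    exact hcolim _ c hc (fun i => seq_property st X₀ Pr hcone h0 i)

end Gen

section Bi

open ZeroObject

open Groth.Agent.Lib.Helper94.KFlatBi Groth.Agent.Lib.Helper94.KFlatAbs
  Groth.Agent.Lib.Helper94.KFlatTrunc Groth.Agent.Lib.Helper94.KFlatRes

universe v₁ v₂ v₃ u₁ u₂ u₃

variable {C₁ : Type u₁} [Category.{v₁} C₁] [Abelian C₁] {C₂ : Type u₂} [Category.{v₂} C₂] [Abelian C₂]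
  {D : Type u₃} [Category.{v₃} D] [Abelian D]
  (T : C₁ ⥤ C₂ ⥤ D) [T.Additive] [∀ X, (T.obj X).Additive]
  [∀ (K₁ : CochainComplex C₁ ℤ) (K₂ : CochainComplex C₂ ℤ),
    HasMapBifunctor K₁ K₂ T (ComplexShape.up ℤ)]
  [HasColimitsOfShape (Discrete ℤ) C₂] [∀ X : C₁, PreservesColimitsOfShape (Discrete ℤ) (T.obj X)]
  [HasColimitsOfShape (Discrete ℤ) D] [HasExactColimitsOfShape (Discrete ℤ) D]

theorem exists_cell_cover_bdd (hflat : ∀ M : C₂, ∃ (P : C₂) (p : P ⟶ M), Epi p ∧ IsFlatObj T P)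
    (Z : ℤ → C₂) :
    ∃ V : CochainComplex C₂ ℤ, IsCell T V ∧ (∀ i j : ℤ, V.d i j = 0) ∧
      (∀ j : ℤ, IsZero (Z j) → IsZero (V.X j)) ∧
      ∃ e : ∀ n : ℤ, V.X n ⟶ Z n, ∀ n : ℤ, Epi (e n) := by
  have hflat' : ∀ M : C₂, ∃ (P : C₂) (p : P ⟶ M), Epi p ∧ IsFlatObj T P ∧
      (IsZero M → IsZero P) := by
    intro M
    by_cases hM : IsZero M
    · exact ⟨M, 𝟙 M, inferInstance, isFlatObj_of_isZero T M hM, fun _ => hM⟩
    · obtain ⟨P, p, hp, hP⟩ := hflat M
      exact ⟨P, p, hp, hP, fun h => (hM h).elim⟩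
  choose P p hp hP hPz using fun n => hflat' (Z n)
  let Sg : ℤ → CochainComplex C₂ ℤ := fun n => (single C₂ (ComplexShape.up ℤ) n).obj (P n)
  let cof : Cocone (Discrete.functor Sg) := Cofan.mk (∐ Sg) (Sigma.ι Sg)
  have hcof : IsColimit cof := coproductIsCoproduct Sg
  have hev : ∀ m : ℤ, IsColimit ((eval C₂ (ComplexShape.up ℤ) m).mapCocone cof) := fun m =>
    isColimitOfPreserves _ hcof
  have hflatX : ∀ n m : ℤ, IsFlatObj T ((Sg n).X m) := fun n m => by
    by_cases h : m = n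
    · exact (hP n).of_iso (singleObjXIsoOfEq (ComplexShape.up ℤ) n (P n) m h).symm
    · exact isFlatObj_of_isZero T _ (isZero_single_obj_X (ComplexShape.up ℤ) n (P n) m h)
  refine ⟨cof.pt, ⟨?_, fun m => ?_⟩, fun i j => ?_, fun j hj => ?_, ?_⟩
  · refine isKFlat₂_of_isColimit T cof hcof (fun ⟨n⟩ => ?_)
    exact isKFlat₂_of_concentrated T (Sg n) n
      (fun q hq => isZero_single_obj_X (ComplexShape.up ℤ) n (P n) q hq) (hflatX n n)
  · exact isFlatObj_of_isColimit T _ (hev m) (fun ⟨n⟩ => hflatX n m)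
  · refine (hev i).hom_ext (fun ⟨n⟩ => ?_)
    have h1 : (Sigma.ι Sg n).f i ≫ (∐ Sg).d i j = (Sg n).d i j ≫ (Sigma.ι Sg n).f j :=
      (Sigma.ι Sg n).comm i j
    have h2 : (Sg n).d i j = 0 := single_obj_d _ _ _ _ _
    change (Sigma.ι Sg n).f i ≫ (∐ Sg).d i j = (Sigma.ι Sg n).f i ≫ 0
    rw [h1, h2, zero_comp, comp_zero]
  · refine isZero_of_isColimit_of_isZero _ (hev j) (fun ⟨n⟩ => ?_)
    by_cases h : j = n
    · subst h
      exact IsZero.of_iso (hPz j hj) (singleObjXSelf (ComplexShape.up ℤ) j (P j))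
    · exact isZero_single_obj_X (ComplexShape.up ℤ) n (P n) j h
  · let leg : ∀ m n : ℤ, (Sg n).X m ⟶ Z m := fun m n =>
      if h : m = n then
        (singleObjXIsoOfEq (ComplexShape.up ℤ) n (P n) m h).hom ≫ p n ≫ eqToHom (by rw [h])
      else 0
    let e : ∀ m : ℤ, (∐ Sg).X m ⟶ Z m := fun m =>
      (hev m).desc (Cocone.mk (Z m) (Discrete.natTrans (fun ⟨n⟩ => leg m n)))
    refine ⟨e, fun m => ?_⟩
    have h1 : (Sigma.ι Sg m).f m ≫ e m = leg m m :=
      (hev m).fac (Cocone.mk (Z m) (Discrete.natTrans (fun ⟨n⟩ => leg m n))) ⟨m⟩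
    have h2 : Epi (leg m m) := by
      simp only [leg, dif_pos rfl, eqToHom_refl, Category.comp_id]
      infer_instance
    exact epi_of_epi_fac h1

variable [HasColimitsOfShape ℕ C₂] [HasExactColimitsOfShape ℕ C₂]
  [∀ X : C₁, PreservesColimitsOfShape ℕ (T.obj X)] [HasColimitsOfShape ℕ D]
  [HasExactColimitsOfShape ℕ D]

/-- **bounded above flat resolutions** of bounded above complexes -/
theorem exists_bdd_flat_resolution
    (hflat : ∀ M : C₂, ∃ (P : C₂) (p : P ⟶ M), Epi p ∧ IsFlatObj T P)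
    (G : CochainComplex C₂ ℤ) (n : ℤ) (hG : ∀ i : ℤ, n < i → IsZero (G.X i)) :
    ∃ (K : CochainComplex C₂ ℤ) (q : K ⟶ G), QuasiIso q ∧ (∀ i : ℤ, n < i → IsZero (K.X i)) ∧
      IsKFlat₂ T K ∧ (∀ i : ℤ, IsFlatObj T (K.X i)) := by
  have hz : ∀ i : ℤ, IsZero ((0 : CochainComplex C₂ ℤ).X i) := fun i =>
    (eval C₂ (ComplexShape.up ℤ) i).map_isZero (isZero_zero _)
  obtain ⟨K, b, c, hbc, hc, hK, hP⟩ :=
    exists_cell_factorization_bdd (𝒱 := IsCell T) (exists_cell_cover_bdd T hflat) n hG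
      (0 : (0 : CochainComplex C₂ ℤ) ⟶ G) (fun i _ => hz i)
  refine ⟨K, c, hc, hK, ?_, ?_⟩
  · exact hP (IsKFlat₂ T) (fun V K φ hV hK => isKFlat₂_cone T φ hV.1 hK)
      (fun F c hc h => isKFlat₂_of_isColimit T c hc h) (isKFlat₂_of_isZero_X T _ hz)
  · exact hP (fun K => ∀ n : ℤ, IsFlatObj T (K.X n))
      (fun V K φ hV hK => isFlatObj_mappingCone_X T φ hV.2 hK)
      (fun F c hc h n => isFlatObj_of_isColimit T _
        (isColimitOfPreserves (eval C₂ (ComplexShape.up ℤ) n) hc) (fun i => h i n))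
      (fun i => isFlatObj_of_isZero T _ (hz i))

end Bi

section Site

open Groth.Agent.Lib.Helper94.KFlatResInst

variable {C : Type u} [SmallCategory C] {J : GrothendieckTopology C} {O : Sheaf J CommRingCat.{u}}

/-- bounded above flat resolutions of bounded above complexes of modules on a ringed site -/
theorem exists_bdd_flat_resolution_site (G : CochainComplex (ModSite.Mod O) ℤ) (n : ℤ)
    (hG : ∀ i : ℤ, n < i → IsZero (G.X i)) :
    ∃ (K : CochainComplex (ModSite.Mod O) ℤ) (q : K ⟶ G), QuasiIso q ∧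
      (∀ i : ℤ, n < i → IsZero (K.X i)) ∧ (∀ i : ℤ, ModSite.IsFlat (K.X i)) := by
  obtain ⟨K, q, h1, h2, _, h4⟩ :=
    exists_bdd_flat_resolution (ModSite.tensorBi O) hflat_site G n hG
  exact ⟨K, q, h1, h2, fun i => isFlat_of_isFlatObj _ (h4 i)⟩

end Site

end Groth.Agent.Lib.Helper94.CellResBdd
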