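import Groth.Agent.Lib.Helper94.FlatEq

/-!
# Equational criterion of flatness on a small ringed site: the converse (helper94)

Namespace `Groth.Agent.Lib.Helper94.FlatCrit`.
* `mono_shf_map_of_isLocallyInjective` : sheafification of a locally injective map is mono.
* `Crit F` : the single-relation equational criterion; `crit_mat` : matrix form;
* `isFlat_of_crit` : `Crit F → IsFlat F`.
-/

universe u

open CategoryTheory CategoryTheory.Limits MonoidalCategory Opposite TensorProduct

namespace Groth.Agent.Lib.Helper94.FlatCrit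

open ModSite Groth.Agent.Lib.Helper94.ModTensorW Groth.Agent.Lib.Helper94.ModTensor
  Groth.Agent.Lib.Helper94.ModFlat Groth.Agent.Lib.Helper94.FlatEq

variable {C : Type u} [SmallCategory C] {J : GrothendieckTopology C} (O : Sheaf J CommRingCat.{u})

/-- sheafification of a locally injective morphism of presheaves of modules is a monomorphism -/
theorem mono_shf_map_of_isLocallyInjective {P P' : PMod O} (ψ : P ⟶ P')
    [hψ : PresheafOfModules.IsLocallyInjective J ψ] : Mono ((shf O).map ψ) := by
  have h1 : Sheaf.IsLocallyInjective ((presheafToSheaf J AddCommGrpCat.{u}).map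
      ((PresheafOfModules.toPresheaf _).map ψ)) :=
    (Presheaf.isLocallyInjective_presheafToSheaf_map_iff J _).2 hψ
  have h2 : Mono ((SheafOfModules.toSheaf (ringSh O)).map ((shf O).map ψ)) := by
    change Mono ((presheafToSheaf J AddCommGrpCat.{u}).map
      ((PresheafOfModules.toPresheaf _).map ψ))
    exact Sheaf.mono_of_isLocallyInjective _
  exact (SheafOfModules.toSheaf (ringSh O)).mono_of_mono_map h2

variable {O}

/-- the single-relation equational criterion -/
def Crit (F : Mod O) : Prop :=
  ∀ (U : C) (n : ℕ) (f : Fin n → O.obj.obj (op U)) (s : Fin n → sect F U),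
    ∑ j, f j • s j = 0 →
    ∃ S ∈ J U, ∀ ⦃V : C⦄ (g : V ⟶ U), S g →
      ∃ (l : ℕ) (t : Fin l → sect F V) (a : Fin n → Fin l → O.obj.obj (op V)),
        (∀ j, (F.val.map g.op).hom (s j) = ∑ k, a j k • t k) ∧
        (∀ k, ∑ j, a j k * (O.obj.map g.op).hom (f j) = 0)

section

variable (F : Mod O)

/-- restriction of sections, as a plain function -/
noncomputable def res {U V : C} (g : V ⟶ U) (x : sect F U) : sect F V := (F.val.map g.op).hom x

/-- restriction of sections of `O`, as a plain function -/
def rres {U V : C} (g : V ⟶ U) (c : O.obj.obj (op U)) : O.obj.obj (op V) := (O.obj.map g.op).hom c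

lemma res_smul {U V : C} (g : V ⟶ U) (c : O.obj.obj (op U)) (x : sect F U) :
    res F g (c • x) = rres g c • res F g x :=
  (F.val.restrictₛₗ g.op).map_smulₛₗ c x

lemma res_sum {U V : C} (g : V ⟶ U) {ι : Type*} (s : Finset ι) (x : ι → sect F U) :
    res F g (∑ i ∈ s, x i) = ∑ i ∈ s, res F g (x i) :=
  map_sum (F.val.restrictₛₗ g.op) x s

lemma res_zero {U V : C} (g : V ⟶ U) : res F g (0 : sect F U) = 0 :=
  map_zero (F.val.restrictₛₗ g.op)

lemma res_comp {U V W : C} (g : V ⟶ U) (h : W ⟶ V) (x : sect F U) :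
    res F (h ≫ g) x = res F h (res F g x) :=
  F.val.map_comp_apply g.op h.op x

lemma rres_comp {U V W : C} (g : V ⟶ U) (h : W ⟶ V) (c : O.obj.obj (op U)) :
    rres (h ≫ g) c = rres h (rres g c) := by
  unfold rres
  rw [op_comp, Functor.map_comp]; rfl

lemma rres_sum {U V : C} (g : V ⟶ U) {ι : Type*} (s : Finset ι) (x : ι → O.obj.obj (op U)) :
    rres g (∑ i ∈ s, x i) = ∑ i ∈ s, rres g (x i) :=
  map_sum (O.obj.map g.op).hom x s

lemma rres_mul {U V : C} (g : V ⟶ U) (a b : O.obj.obj (op U)) :
    rres g (a * b) = rres g a * rres g b :=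
  map_mul (O.obj.map g.op).hom a b

lemma rres_zero {U V : C} (g : V ⟶ U) : rres g (0 : O.obj.obj (op U)) = 0 :=
  map_zero (O.obj.map g.op).hom

/-- the sieve of arrows over which the relations `f` among the sections `s` become trivial -/
def trivSieve {U : C} {m n : ℕ} (f : Fin m → Fin n → O.obj.obj (op U)) (s : Fin n → sect F U) :
    Sieve U where
  arrows V g := ∃ (l : ℕ) (t : Fin l → sect F V) (a : Fin n → Fin l → O.obj.obj (op V)),
    (∀ j, res F g (s j) = ∑ k', a j k' • t k') ∧
    (∀ k k', ∑ j, a j k' * rres g (f k j) = 0)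
  downward_closed := by
    rintro V W g ⟨l, t, a, h1, h2⟩ h
    refine ⟨l, fun k' => res F h (t k'),
      fun j k' => rres h (a j k'), fun j => ?_, fun k k' => ?_⟩
    · rw [res_comp, h1, res_sum]
      exact Finset.sum_congr rfl fun k' _ => res_smul F h _ _
    · have := congrArg (rres h) (h2 k k')
      rw [rres_sum, rres_zero] at this
      rw [← this]
      refine Finset.sum_congr rfl fun j _ => ?_
      rw [rres_mul, rres_comp]

end

/-- **matrix form** of the equational criterion, deduced from the single-relation form -/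
theorem crit_mat (F : Mod O) (hF : Crit F) : ∀ (m : ℕ) (U : C) (n : ℕ)
    (f : Fin m → Fin n → O.obj.obj (op U)) (s : Fin n → sect F U),
    (∀ k, ∑ j, f k j • s j = 0) → trivSieve F f s ∈ J U := by
  classical
  intro m
  induction m with
  | zero =>
    intro U n f s _
    refine J.superset_covering ?_ (J.top_mem U)
    intro V g _
    refine ⟨n, fun j => res F g (s j), fun j k' => if j = k' then 1 else 0,
      fun j => ?_, fun k => k.elim0⟩
    simp
  | succ m ih =>
    intro U n f s hrel
    obtain ⟨S₀, hS₀, h₀⟩ := hF U n (f 0) s (hrel 0)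
    refine J.transitive hS₀ _ ?_
    intro V₀ g₀ hg₀
    obtain ⟨l₀, t₀, a₀, h1, h2⟩ := h₀ g₀ hg₀
    replace h1 : ∀ j, res F g₀ (s j) = ∑ k, a₀ j k • t₀ k := h1
    replace h2 : ∀ k, ∑ j, a₀ j k * rres g₀ (f 0 j) = 0 := h2
    -- new relations among the `t₀`
    let f' : Fin m → Fin l₀ → O.obj.obj (op V₀) := fun k k₀ =>
      ∑ j, a₀ j k₀ * rres g₀ (f k.succ j)
    have hrel' : ∀ k, ∑ k₀, f' k k₀ • t₀ k₀ = 0 := by
      intro k
      have := congrArg (res F g₀) (hrel k.succ)
      rw [res_sum, res_zero] at this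
      rw [← this]
      simp only [f', Finset.sum_smul]
      rw [Finset.sum_comm]
      refine Finset.sum_congr rfl fun j _ => ?_
      rw [res_smul, h1, Finset.smul_sum]
      refine Finset.sum_congr rfl fun k₀ _ => ?_
      rw [smul_smul, mul_comm]
    refine J.superset_covering ?_ (ih V₀ l₀ f' t₀ hrel')
    rintro W h ⟨l, t, b, hb1, hb2⟩
    refine ⟨l, t, fun j k' => ∑ k₀, rres h (a₀ j k₀) * b k₀ k', fun j => ?_,
      fun k k' => ?_⟩
    · rw [res_comp, h1, res_sum]
      simp only [Finset.sum_smul]
      rw [Finset.sum_comm]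
      refine Finset.sum_congr rfl fun k₀ _ => ?_
      rw [res_smul, hb1, Finset.smul_sum]
      refine Finset.sum_congr rfl fun k' _ => ?_
      rw [smul_smul]
    · -- the key computation
      have key : ∀ (φ : Fin n → O.obj.obj (op U)),
          ∑ j, (∑ k₀, rres h (a₀ j k₀) * b k₀ k') * rres (h ≫ g₀) (φ j) =
            ∑ k₀, b k₀ k' * rres h (∑ j, a₀ j k₀ * rres g₀ (φ j)) := by
        intro φ
        simp only [Finset.sum_mul, rres_sum, rres_mul, Finset.mul_sum]
        rw [Finset.sum_comm]
        refine Finset.sum_congr rfl fun k₀ _ => Finset.sum_congr rfl fun j _ => ?_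
        rw [rres_comp]
        ring
      rw [key]
      refine Fin.cases ?_ (fun k => ?_) k
      · refine Finset.sum_eq_zero fun k₀ _ => ?_
        rw [h2 k₀, rres_zero, mul_zero]
      · exact hb2 k k'

section Flat

variable (F : Mod O) (hF : Crit F)

lemma hom_res {A B : Mod O} (φ : A ⟶ B) {U V : C} (v : V ⟶ U) (x : sect A U) :
    (φ.val.app (op V)).hom (res A v x) = res B v ((φ.val.app (op U)).hom x) :=
  PresheafOfModules.naturality_apply φ.val v.op x

include hF in
/-- key local injectivity statement -/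
theorem equalizerSieve_zero_mem_of_crit {A B : Mod O} (φ : A ⟶ B) [Mono φ]
    (U : C) (t : ((fgt O).obj A ⊗ (fgt O).obj F).obj (op U))
    (ht : (((fgt O).map φ ▷ (fgt O).obj F).app (op U)).hom t = 0) :
    Presheaf.equalizerSieve
      (F := (PresheafOfModules.toPresheaf _).obj ((fgt O).obj A ⊗ (fgt O).obj F)) (X := op U)
      t 0 ∈ J U := by
  classical
  obtain ⟨n, p, q, rfl⟩ := TensorProduct.exists_sum_tmul_eq t
  have h0 : ∑ i, ((φ.val.app (op U)).hom (p i)) ⊗ₜ[O.obj.obj (op U)] (q i) = 0 :=
    (map_sum (((fgt O).map φ ▷ (fgt O).obj F).app (op U)).hom _ _).symm.trans ht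
  have h0' : ∑ i, (q i) ⊗ₜ[O.obj.obj (op U)] ((φ.val.app (op U)).hom (p i)) = 0 := by
    exact ((map_sum (TensorProduct.comm (O.obj.obj (op U)) (B.val.obj (op U)) (F.val.obj (op U)))
      (fun i => ((φ.val.app (op U)).hom (p i)) ⊗ₜ[O.obj.obj (op U)] (q i)) Finset.univ).symm.trans
      (congrArg _ h0)).trans (map_zero _)
  obtain ⟨r, g', k, a, b, y, h1, h2, h3⟩ := exists_vanishing_data _ _ h0'
  let f : Fin k → Fin (n + r) → O.obj.obj (op U) := fun j c =>
    Sum.elim (fun i => a i j) (fun l => b l j) (finSumFinEquiv.symm c)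
  let s : Fin (n + r) → sect F U := fun c => Sum.elim q g' (finSumFinEquiv.symm c)
  have hrel : ∀ j, ∑ c, f j c • s c = 0 := by
    intro j
    rw [← finSumFinEquiv.sum_comp, Fintype.sum_sum_type]
    simp only [f, s, Equiv.symm_apply_apply, Sum.elim_inl, Sum.elim_inr]
    exact h3 j
  refine J.superset_covering ?_ (crit_mat F hF k U (n + r) f s hrel)
  rintro V v ⟨l, τ, c, hc1, hc2⟩
  let P : PMod O := (fgt O).obj A
  let Q : PMod O := (fgt O).obj F
  change (P ⊗ Q).restrictₛₗ v.op (∑ i, p i ⊗ₜ[O.obj.obj (op U)] q i) =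
    (P ⊗ Q).restrictₛₗ v.op 0
  refine ((map_sum ((P ⊗ Q).restrictₛₗ v.op) _ _).trans ?_).trans (map_zero _).symm
  change ∑ i, (res A v (p i) ⊗ₜ[O.obj.obj (op V)] res F v (q i)) = 0
  -- the coefficients
  have hq : ∀ i, res F v (q i) = ∑ k', c (finSumFinEquiv (Sum.inl i)) k' • τ k' := by
    intro i
    have := hc1 (finSumFinEquiv (Sum.inl i))
    simpa [s] using this
  have hα : ∀ k', ∑ i, c (finSumFinEquiv (Sum.inl i)) k' • res A v (p i) = 0 := by
    intro k'
    apply PresheafOfModules.injective_of_mono ((fgt O).map φ) (op V)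
    change (φ.val.app (op V)).hom _ = (φ.val.app (op V)).hom 0
    rw [map_zero, map_sum]
    have e1 : ∀ i, (φ.val.app (op V)).hom (c (finSumFinEquiv (Sum.inl i)) k' • res A v (p i)) =
        ∑ j, (c (finSumFinEquiv (Sum.inl i)) k' * rres v (a i j)) • res B v (y j) := by
      intro i
      rw [map_smul, hom_res, h1 i, res_sum, Finset.smul_sum]
      refine Finset.sum_congr rfl fun j _ => ?_
      rw [res_smul, smul_smul]
    have e2 : ∀ l', (0 : sect B V) =
        ∑ j, (c (finSumFinEquiv (Sum.inr l')) k' * rres v (b l' j)) • res B v (y j) := by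
      intro l'
      have := congrArg (fun z => c (finSumFinEquiv (Sum.inr l')) k' • res B v z) (h2 l')
      simp only [res_zero, smul_zero, res_sum, Finset.smul_sum, res_smul, smul_smul] at this
      exact this.symm
    have e3 : ∀ j, ∑ i, c (finSumFinEquiv (Sum.inl i)) k' * rres v (a i j) +
        ∑ l', c (finSumFinEquiv (Sum.inr l')) k' * rres v (b l' j) = 0 := by
      intro j
      have := hc2 j k'
      rw [← finSumFinEquiv.sum_comp, Fintype.sum_sum_type] at this
      simpa [f] using this
    calc ∑ i, (φ.val.app (op V)).hom (c (finSumFinEquiv (Sum.inl i)) k' • res A v (p i))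
        = ∑ i, ∑ j, (c (finSumFinEquiv (Sum.inl i)) k' * rres v (a i j)) • res B v (y j) :=
          Finset.sum_congr rfl fun i _ => e1 i
      _ = ∑ i, ∑ j, (c (finSumFinEquiv (Sum.inl i)) k' * rres v (a i j)) • res B v (y j) +
            ∑ l', ∑ j, (c (finSumFinEquiv (Sum.inr l')) k' * rres v (b l' j)) • res B v (y j) := by
          rw [← Finset.sum_congr rfl fun l' _ => e2 l', Finset.sum_const_zero, add_zero]
      _ = ∑ j, (∑ i, c (finSumFinEquiv (Sum.inl i)) k' * rres v (a i j) +
            ∑ l', c (finSumFinEquiv (Sum.inr l')) k' * rres v (b l' j)) • res B v (y j) := by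
          rw [Finset.sum_comm, Finset.sum_comm (s := (Finset.univ : Finset (Fin r))),
            ← Finset.sum_add_distrib]
          refine Finset.sum_congr rfl fun j _ => ?_
          rw [add_smul, Finset.sum_smul, Finset.sum_smul]
      _ = 0 := Finset.sum_eq_zero fun j _ => by rw [e3 j, zero_smul]
  calc ∑ i, (res A v (p i) ⊗ₜ[O.obj.obj (op V)] res F v (q i))
      = ∑ i, ∑ k', (c (finSumFinEquiv (Sum.inl i)) k' • res A v (p i)) ⊗ₜ[O.obj.obj (op V)] τ k' := by
        refine Finset.sum_congr rfl fun i _ => ?_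
        rw [hq i, TensorProduct.tmul_sum]
        refine Finset.sum_congr rfl fun k' _ => ?_
        rw [TensorProduct.tmul_smul, TensorProduct.smul_tmul']
    _ = ∑ k', (∑ i, c (finSumFinEquiv (Sum.inl i)) k' • res A v (p i)) ⊗ₜ[O.obj.obj (op V)] τ k' := by
        rw [Finset.sum_comm]
        refine Finset.sum_congr rfl fun k' _ => ?_
        rw [TensorProduct.sum_tmul]
    _ = 0 := Finset.sum_eq_zero fun k' _ => by rw [hα k', TensorProduct.zero_tmul]

include hF in
theorem isLocallyInjective_whiskerRight_of_crit {A B : Mod O} (φ : A ⟶ B) [Mono φ] :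
    PresheafOfModules.IsLocallyInjective J ((fgt O).map φ ▷ (fgt O).obj F) := by
  constructor
  intro X x y h
  let P : PMod O := (fgt O).obj A
  let Q : PMod O := (fgt O).obj F
  have h' : (((fgt O).map φ ▷ (fgt O).obj F).app (op X.unop)).hom
      ((show (P ⊗ Q).obj (op X.unop) from x) - (show (P ⊗ Q).obj (op X.unop) from y)) = 0 := by
    rw [map_sub, sub_eq_zero]
    exact h
  refine J.superset_covering ?_ (equalizerSieve_zero_mem_of_crit F hF φ X.unop _ h')
  intro V v hv
  have : (P ⊗ Q).restrictₛₗ v.op ((show (P ⊗ Q).obj (op X.unop) from x) -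
      (show (P ⊗ Q).obj (op X.unop) from y)) = (P ⊗ Q).restrictₛₗ v.op 0 := hv
  rw [map_sub, map_zero, sub_eq_zero] at this
  exact this

include hF in
/-- the equational criterion implies flatness -/
theorem isFlat_of_crit : IsFlat F := by
  rw [isFlat_iff_preservesMono]
  intro A B φ hφ
  have := isLocallyInjective_whiskerRight_of_crit F hF φ
  exact mono_shf_map_of_isLocallyInjective O ((fgt O).map φ ▷ (fgt O).obj F)

end Flat

end Groth.Agent.Lib.Helper94.FlatCrit
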