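import Groth.Agent.Lib.Helper94.StalkFlat
import Groth.Agent.Lib.Helper94.FlatCrit
import Groth.Agent.S9095
import Groth.Prelude.Def_FlatMod2

/-!
# Stalkwise flat `O_X`-modules are the tensor-flat ones (helper94)

Namespace `Groth.Agent.Lib.Helper94.StalkFlatScheme`.
For a scheme `X` and `M : X.Modules` (definitionally a `ModSite.Mod X.sheaf`):
`FlatMod.IsFlat M ↔ ModSite.IsFlat M` (`isFlat_iff`).
-/

universe u

open CategoryTheory CategoryTheory.Limits TopologicalSpace Opposite AlgebraicGeometry

namespace Groth.Agent.Lib.Helper94.StalkFlatScheme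

open Groth.Agent.Lib.Helper94.StalkFlat Groth.Agent.Lib.Helper94.FlatCrit

variable {X : Scheme.{u}}

/-- `M` as a sheaf of modules on the ringed site of opens of `X` -/
abbrev toSite (M : X.Modules) : ModSite.Mod (J := Opens.grothendieckTopology X) X.sheaf := M

/-- the underlying presheaf of modules, over the structure presheaf -/
abbrev toPre (M : X.Modules) : PresheafOfModules.{u} (X.presheaf ⋙ forget₂ CommRingCat RingCat) :=
  M.val

theorem crit_of_isFlat (M : X.Modules) (hM : FlatMod.IsFlat M) : Crit (toSite M) := by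
  intro U n f s h
  let S : Sieve U :=
    { arrows := fun V g => ∃ (l : ℕ) (t : Fin l → ModSite.sect (toSite M) V)
        (a : Fin n → Fin l → X.sheaf.obj.obj (op V)),
        (∀ j, res (toSite M) g (s j) = ∑ k, a j k • t k) ∧
        (∀ k, ∑ j, a j k * rres g (f j) = 0)
      downward_closed := by
        rintro V W g ⟨l, t, a, h1, h2⟩ h
        refine ⟨l, fun k => res (toSite M) h (t k), fun j k => rres h (a j k), fun j => ?_,
          fun k => ?_⟩
        · rw [res_comp, h1 j, res_sum]
          refine Finset.sum_congr rfl (fun k _ => ?_)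
          rw [res_smul]
        · have := congrArg (rres h) (h2 k)
          rw [rres_sum, rres_zero] at this
          rw [← this]
          refine Finset.sum_congr rfl (fun j _ => ?_)
          rw [rres_mul, rres_comp] }
  refine ⟨S, fun x hx => ?_, fun V g hg => hg⟩
  haveI : Module.Flat ((X.presheaf).stalk x) ↑(TopCat.Presheaf.stalk (toPre M).presheaf x) := hM x
  obtain ⟨V, hxV, i, l, t, a, h1, h2⟩ :=
    exists_local_trivialization (toPre M) x U hx n f s h
  exact ⟨V, i, ⟨l, t, a, h1, h2⟩, hxV⟩

theorem isFlat_of_crit (M : X.Modules) (hM : Crit (toSite M)) : FlatMod.IsFlat M := by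
  intro x
  refine flat_stalk_of_local_trivialization (toPre M) x (fun U hx n f s h => ?_)
  obtain ⟨S, hS, hS'⟩ := hM U n f s h
  obtain ⟨V, g, hg, hxV⟩ := hS x hx
  obtain ⟨l, t, a, h1, h2⟩ := hS' g hg
  exact ⟨V, hxV, g, l, t, a, h1, h2⟩

/-- stalkwise flat ⟺ tensor-flat -/
theorem isFlat_iff (M : X.Modules) : FlatMod.IsFlat M ↔ ModSite.IsFlat (toSite M) := by
  rw [Groth.Agent.S9095.result]
  exact ⟨crit_of_isFlat M, isFlat_of_crit M⟩

end Groth.Agent.Lib.Helper94.StalkFlatScheme
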