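import Groth.Agent.Lib.Helper94.KFlatDerSite
import Groth.Agent.Lib.Helper94.StalkFlatScheme
import Groth.Agent.Lib.Helper94.KFlatBdd
import Groth.Prelude.Def_DTor2

/-!
# Derived tensor products on schemes computed by K-flat complexes (helper94)

Namespace `Groth.Agent.Lib.Helper94.KFlatDerScheme`.
-/

universe u

open CategoryTheory CategoryTheory.Limits HomologicalComplex CochainComplex AlgebraicGeometry

attribute [local instance] HasDerivedCategory.standard

namespace Groth.Agent.Lib.Helper94.KFlatDerScheme

open Groth.Agent.Lib.Helper94.KFlatBi Groth.Agent.Lib.Helper94.KFlatSite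
  Groth.Agent.Lib.Helper94.ModFlat Groth.Agent.Lib.Helper94.ModTensor
  Groth.Agent.Lib.Helper94.KFlatDerSite Groth.Agent.Lib.Helper94.ResolvingCx

variable {X : Scheme.{u}}

/-- K-flatness of a complex of `O_X`-modules, in bifunctor form -/
abbrev KF (E : CochainComplex X.Modules ℤ) : Prop :=
  IsKFlat₂ (C₁ := ModSite.Mod (J := Opens.grothendieckTopology X) X.sheaf)
    (ModSite.tensorBi (J := Opens.grothendieckTopology X) X.sheaf) E

/-- `- ⊗ M` in the prelude's form is `- ⊗ M` on the ringed site of opens -/
noncomputable def tensorRightModIsoTensR (M : X.Modules) :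
    DCoh.tensorRightMod M ≅ tensR (J := Opens.grothendieckTopology X) X.sheaf M :=
  NatIso.ofComponents (fun N => Iso.refl _) (by
    intro N N' φ
    exact (Category.comp_id _).trans (Category.id_comp _).symm)

/-- `- ⊗ M` in the prelude's form is `M ⊗ -` on the ringed site of opens -/
noncomputable def tensorRightModIsoTensL (M : X.Modules) :
    DCoh.tensorRightMod M ≅ tensL (J := Opens.grothendieckTopology X) X.sheaf M :=
  tensorRightModIsoTensR M ≪≫ (tensLIsoTensR (J := Opens.grothendieckTopology X) X.sheaf M).symm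

/-- `- ⊗ M` as an endofunctor of modules on the site of opens -/
noncomputable abbrev tRM (M : X.Modules) :
    ModSite.Mod (J := Opens.grothendieckTopology X) X.sheaf ⥤
      ModSite.Mod (J := Opens.grothendieckTopology X) X.sheaf := DCoh.tensorRightMod M

instance (M : X.Modules) : (tRM M).Additive := DCoh.additive_tensorRightMod M

/-- the termwise tensor product `E ⊗ M` -/
noncomputable abbrev tensorCxMod (E : CochainComplex X.Modules ℤ) (M : X.Modules) :
    CochainComplex X.Modules ℤ :=
  ((DCoh.tensorRightMod M).mapHomologicalComplex (ComplexShape.up ℤ)).obj E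

theorem isResolving_KF : IsResolving (fun E : CochainComplex X.Modules ℤ => KF E) :=
  isResolving_isKFlat₂ (J := Opens.grothendieckTopology X) X.sheaf

theorem quasiIso_map_KF (M : X.Modules) {P P' : CochainComplex X.Modules ℤ} (φ : P ⟶ P')
    (hP : KF P) (hP' : KF P') (hφ : QuasiIso φ) :
    QuasiIso (((DCoh.tensorRightMod M).mapHomologicalComplex (ComplexShape.up ℤ)).map φ) :=
  quasiIso_map_of_isKFlat₂ (J := Opens.grothendieckTopology X) X.sheaf (tRM M) M
    (tensorRightModIsoTensL M) φ hP hP' hφ

/-- the counit of `- ⊗^L M` is an isomorphism on K-flat complexes -/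
theorem isIso_counit_app_KF (M : X.Modules) [DCoh.HasLTensorMod M]
    (E : CochainComplex X.Modules ℤ) (hE : KF E) :
    IsIso (((DCoh.tensorModKh M).totalLeftDerivedCounit DerivedCategory.Qh
      (HomotopyCategory.quasiIso X.Modules (ComplexShape.up ℤ))).app
        ((HomotopyCategory.quotient X.Modules (ComplexShape.up ℤ)).obj E)) := by
  refine isIso_counit_app isResolving_KF (DCoh.tensorModKh M) ?_ DerivedCategory.Qh
    (HomotopyCategory.quasiIso X.Modules (ComplexShape.up ℤ)) rfl (DCoh.LTensorMod M) _ E hE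
  intro P P' φ hP hP' hφ
  have h1 := quasiIso_map_KF M φ hP hP' hφ
  have h2 : HomotopyCategory.quasiIso X.Modules (ComplexShape.up ℤ)
      ((HomotopyCategory.quotient X.Modules (ComplexShape.up ℤ)).map
        (((DCoh.tensorRightMod M).mapHomologicalComplex (ComplexShape.up ℤ)).map φ)) :=
    (HomotopyCategory.quotient_map_mem_quasiIso_iff _).2 h1
  exact Localization.inverts DerivedCategory.Qh
    (HomotopyCategory.quasiIso X.Modules (ComplexShape.up ℤ)) _ h2

/-- the value of `- ⊗^L M` on a K-flat complex `E` is `E ⊗ M` -/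
noncomputable def lTensorModObjIso (M : X.Modules) [DCoh.HasLTensorMod M]
    (E : CochainComplex X.Modules ℤ) (hE : KF E) :
    (DCoh.LTensorMod M).obj (DCoh.toD X E) ≅ DCoh.toD X (tensorCxMod E M) :=
  haveI := isIso_counit_app_KF M E hE
  (DCoh.LTensorMod M).mapIso ((DerivedCategory.quotientCompQhIso X.Modules).symm.app E) ≪≫
    asIso (((DCoh.tensorModKh M).totalLeftDerivedCounit DerivedCategory.Qh
      (HomotopyCategory.quasiIso X.Modules (ComplexShape.up ℤ))).app
        ((HomotopyCategory.quotient X.Modules (ComplexShape.up ℤ)).obj E)) ≪≫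
    (DerivedCategory.quotientCompQhIso X.Modules).app (tensorCxMod E M)

/-- a bounded above complex of (stalkwise) flat modules is K-flat -/
theorem kf_of_bounded_above_flat (E : CochainComplex X.Modules ℤ) (b : ℤ)
    (hb : ∀ n : ℤ, b < n → IsZero (E.X n)) (hflat : ∀ n : ℤ, FlatMod.IsFlat (E.X n)) : KF E :=
  (isKFlat_iff E).1 (Groth.Agent.Lib.Helper94.KFlatBdd.isKFlat_of_bounded_above_flat
    (O := X.sheaf) E b hb
    (fun n => (Groth.Agent.Lib.Helper94.StalkFlatScheme.isFlat_iff (E.X n)).1 (hflat n)))

/-- cohomology of `E ⊗^L M` for `E` K-flat -/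
noncomputable def hdLTensorModIso (M : X.Modules) [DCoh.HasLTensorMod M]
    (E : CochainComplex X.Modules ℤ) (hE : KF E) (i : ℤ) :
    DCoh.HD ((DCoh.LTensorMod M).obj (DCoh.toD X E)) i ≅ (tensorCxMod E M).homology i :=
  (DerivedCategory.homologyFunctor X.Modules i).mapIso (lTensorModObjIso M E hE) ≪≫
    (DerivedCategory.homologyFunctorFactors X.Modules i).app (tensorCxMod E M)

/-- the cohomology of `E ⊗^L M` vanishes where `E` vanishes, for `E` K-flat -/
theorem isZero_hd_lTensorMod (M : X.Modules) [DCoh.HasLTensorMod M]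
    (E : CochainComplex X.Modules ℤ) (hE : KF E) (i : ℤ) (hi : IsZero (E.X i)) :
    IsZero (DCoh.HD ((DCoh.LTensorMod M).obj (DCoh.toD X E)) i) := by
  refine IsZero.of_iso ?_ (hdLTensorModIso M E hE i)
  rw [← exactAt_iff_isZero_homology]
  exact ExactAt.of_isZero ((DCoh.tensorRightMod M).map_isZero hi)

end Groth.Agent.Lib.Helper94.KFlatDerScheme
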