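import Groth.Agent.Lib.Helper94.KFlatCycles

/-!
# Flatness of cokernels from Tor-vanishing (helper94)

Namespace `Groth.Agent.Lib.Helper94.TorFlat`.
-/

universe u

open CategoryTheory CategoryTheory.Limits HomologicalComplex CochainComplex

namespace Groth.Agent.Lib.Helper94.TorFlat

open Groth.Agent.Lib.Helper94.KFlatCycles Groth.Agent.Lib.Helper94.ModFlat
  Groth.Agent.Lib.Helper94.ModTensor

variable {C : Type u} [SmallCategory C] {J : GrothendieckTopology C} (O : Sheaf J CommRingCat.{u})

/-- if `M ⊗ K^{p-1} → M ⊗ K^p → M ⊗ K^{p+1}` is exact for every `M` and `K^{p+1}` is flat, then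
the cokernel of `K^p → K^{p+1}` is flat -/
theorem isFlat_cokernel_of_exact (K : CochainComplex (ModSite.Mod O) ℤ) (p : ℤ)
    (hfl : ModSite.IsFlat (K.X (p + 1)))
    (hex : ∀ M : ModSite.Mod O, ((K.sc' (p - 1) p (p + 1)).map (tensL O M)).Exact) :
    ModSite.IsFlat (cokernel (K.d p (p + 1))) := by
  let d := K.d p (p + 1)
  let T : ShortComplex (ModSite.Mod O) :=
    ShortComplex.mk (Abelian.image.ι d) (cokernel.π d) (kernel.condition _)
  have hT : T.ShortExact :=
    { exact := ShortComplex.exact_of_f_is_kernel _ (kernelIsKernel (cokernel.π d))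
      mono_f := inferInstanceAs (Mono (Abelian.image.ι d))
      epi_g := inferInstanceAs (Epi (cokernel.π d)) }
  refine isFlat_X₃_of_pure O T hT hfl (fun M => ?_)
  have hepi : Epi ((tensL O M).map (Abelian.factorThruImage d)) := inferInstance
  have w : (tensL O M).map (K.d (p - 1) p) ≫
      (tensL O M).map (Abelian.factorThruImage d) ≫ (tensL O M).map (Abelian.image.ι d) = 0 := by
    rw [← Functor.map_comp, ← Functor.map_comp, Abelian.image.fac, d_comp_d, Functor.map_zero]
  have hex' : (ShortComplex.mk _ _ w).Exact := by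
    refine (ShortComplex.exact_iff_of_iso
      (?_ : (K.sc' (p - 1) p (p + 1)).map (tensL O M) ≅ ShortComplex.mk _ _ w)).1 (hex M)
    refine ShortComplex.isoMk (Iso.refl _) (Iso.refl _) (Iso.refl _) ?_ ?_
    · exact (Category.id_comp _).trans (Category.comp_id _).symm
    · refine (Category.id_comp _).trans (Eq.trans ?_ (Category.comp_id _).symm)
      exact ((tensL O M).map_comp _ _).symm.trans
        (congrArg (tensL O M).map (Abelian.image.fac d))
  refine mono_of_exact_of_epi _ _ _ w hex' ?_
  rw [← Functor.map_comp]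
  have : K.d (p - 1) p ≫ Abelian.factorThruImage d = 0 := by
    rw [← cancel_mono (Abelian.image.ι d), Category.assoc, Abelian.image.fac, d_comp_d, zero_comp]
  rw [this, Functor.map_zero]

end Groth.Agent.Lib.Helper94.TorFlat
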