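import Groth.Agent.Lib.Helper94.CellResBdd
import Groth.Agent.Lib.Helper94.KFlatDerScheme
import Groth.Agent.Lib.Helper94.TorFlat

/-!
# Bounded above flat resolutions on schemes, flatness of cokernels from Tor-vanishing (helper94)

Namespace `Groth.Agent.Lib.Helper94.FlatResScheme`.
-/

universe u

open CategoryTheory CategoryTheory.Limits HomologicalComplex CochainComplex AlgebraicGeometry

attribute [local instance] HasDerivedCategory.standard

namespace Groth.Agent.Lib.Helper94.FlatResScheme

open Groth.Agent.Lib.Helper94.KFlatDerScheme Groth.Agent.Lib.Helper94.ModFlat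
  Groth.Agent.Lib.Helper94.ModTensor

variable {X : Scheme.{u}}

theorem isFlat_of_iso_site {C : Type u} [SmallCategory C] {J : GrothendieckTopology C}
    {O : Sheaf J CommRingCat.{u}} {F F' : ModSite.Mod O} (e : F ≅ F') (h : ModSite.IsFlat F) :
    ModSite.IsFlat F' := by
  have := h.1
  have := h.2
  exact ⟨preservesFiniteLimits_of_natIso ((ModSite.tensorBi O).flip.mapIso e),
    preservesFiniteColimits_of_natIso ((ModSite.tensorBi O).flip.mapIso e)⟩

theorem isFlat_of_iso {F F' : X.Modules} (e : F ≅ F') (h : FlatMod.IsFlat F) :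
    FlatMod.IsFlat F' :=
  (Groth.Agent.Lib.Helper94.StalkFlatScheme.isFlat_iff F').2
    (isFlat_of_iso_site (J := Opens.grothendieckTopology X) (O := X.sheaf) e
      ((Groth.Agent.Lib.Helper94.StalkFlatScheme.isFlat_iff F).1 h))

theorem isFlat_of_isZero (F : X.Modules) (h : IsZero F) : FlatMod.IsFlat F :=
  (Groth.Agent.Lib.Helper94.StalkFlatScheme.isFlat_iff F).2
    (Groth.Agent.Lib.Helper94.ModFlat.isFlat_of_isZero (J := Opens.grothendieckTopology X)
      X.sheaf F h)

/-- bounded above flat resolutions of bounded above complexes of `O_X`-modules -/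
theorem exists_bdd_flat_resolution (G : CochainComplex X.Modules ℤ) (n : ℤ)
    (hG : ∀ i : ℤ, n < i → IsZero (G.X i)) :
    ∃ (K : CochainComplex X.Modules ℤ) (q : K ⟶ G), QuasiIso q ∧
      (∀ i : ℤ, n < i → IsZero (K.X i)) ∧ (∀ i : ℤ, FlatMod.IsFlat (K.X i)) := by
  obtain ⟨K, q, h1, h2, h3⟩ :=
    Groth.Agent.Lib.Helper94.CellResBdd.exists_bdd_flat_resolution_site
      (J := Opens.grothendieckTopology X) (O := X.sheaf) G n hG
  exact ⟨K, q, h1, h2,
    fun i => (Groth.Agent.Lib.Helper94.StalkFlatScheme.isFlat_iff _).2 (h3 i)⟩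

/-- for a bounded above complex `E` of flat modules, if `H^p(E ⊗^L G) = 0` for all `G` then
the cokernel of `E^p → E^{p+1}` is flat -/
theorem isFlat_cokernel_of_tor_vanishing (E : CochainComplex X.Modules ℤ) (n : ℤ)
    (hn : ∀ i : ℤ, n < i → IsZero (E.X i)) (hflat : ∀ i : ℤ, FlatMod.IsFlat (E.X i))
    (hL : ∀ G : X.Modules, DCoh.HasLTensorMod G) (p q : ℤ) (hpq : p + 1 = q)
    (h : ∀ (G : X.Modules) [DCoh.HasLTensorMod G],
      IsZero (DCoh.HD ((DCoh.LTensorMod G).obj (DCoh.toD X E)) p)) :
    FlatMod.IsFlat (cokernel (E.d p q)) := by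
  subst hpq
  have hKF : KF E := kf_of_bounded_above_flat E n hn hflat
  refine (Groth.Agent.Lib.Helper94.StalkFlatScheme.isFlat_iff _).2 ?_
  refine Groth.Agent.Lib.Helper94.TorFlat.isFlat_cokernel_of_exact
    (J := Opens.grothendieckTopology X) X.sheaf E p
    ((Groth.Agent.Lib.Helper94.StalkFlatScheme.isFlat_iff _).1 (hflat (p + 1))) (fun G => ?_)
  haveI := hL G
  have h0 : IsZero (DCoh.HD ((DCoh.LTensorMod G).obj (DCoh.toD X E)) p) := h G
  have h1 : IsZero ((tensorCxMod E G).homology p) :=
    IsZero.of_iso h0 (hdLTensorModIso G E hKF p).symm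
  have h2 : (tensorCxMod E G).ExactAt p :=
    (HomologicalComplex.exactAt_iff_isZero_homology _ _).2 h1
  have h3 := (HomologicalComplex.exactAt_iff' _ (p - 1) p (p + 1) (by simp) (by simp)).1 h2
  exact (ShortComplex.exact_iff_of_iso
    ((ShortComplex.mapNatIso
      (C := ModSite.Mod (J := Opens.grothendieckTopology X) X.sheaf)
      (D := ModSite.Mod (J := Opens.grothendieckTopology X) X.sheaf)
      (F := tRM G)
      (G := tensL (J := Opens.grothendieckTopology X) X.sheaf G)
      (HomologicalComplex.sc' (C := ModSite.Mod (J := Opens.grothendieckTopology X) X.sheaf)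
        E (p - 1) p (p + 1))
      (tensorRightModIsoTensL G)))).1 h3

/-- if `E` vanishes in degree `q + 1` and resolves `F[-q]`..., the cokernel of `E^{q-1} → E^q` is
the `q`-th cohomology -/
noncomputable def cokernelIsoHomology (E : CochainComplex X.Modules ℤ) (p q r : ℤ)
    (hpq : p + 1 = q) (hqr : q + 1 = r) (hr : IsZero (E.X r)) :
    cokernel (E.d p q) ≅ E.homology q :=
  haveI : IsIso (E.homologyι q) :=
    E.isIso_homologyι q r (by simp [← hqr]) (hr.eq_of_tgt _ _)
  (IsColimit.coconePointUniqueUpToIso (colimit.isColimit (parallelPair (E.d p q) 0))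
    (E.opcyclesIsCokernel p q (by simp [← hpq]))) ≪≫ (asIso (E.homologyι q)).symm

/-- a module with a bounded above flat resolution -/
theorem exists_flat_resolution_module (F : X.Modules) :
    ∃ (E : CochainComplex X.Modules ℤ)
      (q : E ⟶ (HomologicalComplex.single X.Modules (ComplexShape.up ℤ) 0).obj F),
      QuasiIso q ∧ (∀ i : ℤ, 0 < i → IsZero (E.X i)) ∧ (∀ i : ℤ, FlatMod.IsFlat (E.X i)) :=
  exists_bdd_flat_resolution _ 0
    (fun i hi => isZero_single_obj_X (ComplexShape.up ℤ) 0 F i (by omega))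

end Groth.Agent.Lib.Helper94.FlatResScheme
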