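import Mathlib.Algebra.Category.Grp.Ulift
import Mathlib.Algebra.Category.Grp.FilteredColimits
import Mathlib.CategoryTheory.Limits.ConcreteCategory.Basic
import Mathlib.CategoryTheory.Limits.Preserves.Filtered

/-!
# Elementwise description of filtered colimits of abelian groups, for index categories in an
arbitrary universe (via `AddCommGrpCat.uliftFunctor`, which preserves all colimits).
-/

set_option autoImplicit false
universe w v
open CategoryTheory CategoryTheory.Limits

namespace Groth.Agent.Lib.Helper94.AbFiltered

variable {J : Type v} [SmallCategory J] [IsFiltered J] (F : J ⥤ AddCommGrpCat.{w})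
  (c : Cocone F) (hc : IsColimit c)

instance : PreservesFilteredColimitsOfSize.{v, v} (forget AddCommGrpCat.{max w v}) :=
  preservesFilteredColimitsOfSize_shrink.{v, max w v, v, max w v} _

include hc in
lemma exists_rep (x : c.pt) : ∃ (j : J) (y : F.obj j), c.ι.app j y = x := by
  have hU := isColimitOfPreserves AddCommGrpCat.uliftFunctor.{v, w} hc
  obtain ⟨j, y, hy⟩ := Concrete.isColimit_exists_rep
    (F ⋙ AddCommGrpCat.uliftFunctor.{v, w}) hU (ULift.up x)
  exact ⟨j, y.down, congrArg ULift.down hy⟩

include hc in
lemma exists_map_eq_zero (j : J) (y : F.obj j) (h : c.ι.app j y = 0) :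
    ∃ (k : J) (f : j ⟶ k), F.map f y = 0 := by
  have hU := isColimitOfPreserves AddCommGrpCat.uliftFunctor.{v, w} hc
  obtain ⟨k, f, g, hfg⟩ := Concrete.isColimit_exists_of_rep_eq
    (F ⋙ AddCommGrpCat.uliftFunctor.{v, w}) hU
    (i := j) (j := j) (ULift.up y) (ULift.up 0) (by
      apply ULift.ext
      change c.ι.app j y = c.ι.app j 0
      rw [h, map_zero])
  refine ⟨k, f, ?_⟩
  have := congrArg ULift.down hfg
  change F.map f y = F.map g 0 at this
  rw [this, map_zero]

end Groth.Agent.Lib.Helper94.AbFiltered
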