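import Groth.Prelude.Def_DeltaF
import Mathlib.Algebra.Homology.ShortComplex.Ab
import Mathlib.Algebra.Category.Grp.EpiMono
import Mathlib.Algebra.Category.Grp.Abelian
import Mathlib.CategoryTheory.Abelian.Exact

/-!
# Elementwise API for cohomological delta-functors with values in abelian groups
-/

set_option autoImplicit false
universe w v u
open CategoryTheory CategoryTheory.Limits

namespace Groth.Agent.Lib.Helper94.DeltaAb

open DeltaF

variable {C : Type u} [Category.{v} C] [Abelian C]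

/-- the short exact sequence attached to a monomorphism -/
noncomputable def sesOfMono {A M : C} (u : A ⟶ M) : ShortComplex C :=
  ShortComplex.mk u (cokernel.π u) (cokernel.condition u)

lemma sesOfMono_shortExact {A M : C} (u : A ⟶ M) [Mono u] : (sesOfMono u).ShortExact where
  exact := ShortComplex.exact_cokernel u
  mono_f := by dsimp [sesOfMono]; infer_instance
  epi_g := by dsimp [sesOfMono]; infer_instance

variable (T T' : CohDeltaFunctor C AddCommGrpCat.{w} ℕ)

section
variable {T}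
variable (S : ShortComplex C) (hS : S.ShortExact)

include hS in
lemma ex2 (n : ℕ) (y : (T.F n).obj S.X₂) (h : (T.F n).map S.g y = 0) :
    ∃ x, (T.F n).map S.f x = y :=
  (ShortComplex.ab_exact_iff _).1 (T.exact₂ S hS n) y h

lemma ex3 (n₀ n₁ : ℕ) (h : n₀ + 1 = n₁) (z : (T.F n₀).obj S.X₃)
    (hz : T.δ S hS n₀ n₁ h z = 0) : ∃ y, (T.F n₀).map S.g y = z :=
  (ShortComplex.ab_exact_iff _).1 (T.exact₃ S hS n₀ n₁ h) z hz

lemma ex1 (n₀ n₁ : ℕ) (h : n₀ + 1 = n₁) (x : (T.F n₁).obj S.X₁)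
    (hx : (T.F n₁).map S.f x = 0) : ∃ z, T.δ S hS n₀ n₁ h z = x :=
  (ShortComplex.ab_exact_iff _).1 (T.exact₁ S hS n₀ n₁ h) x hx

lemma map_g_δ (n₀ n₁ : ℕ) (h : n₀ + 1 = n₁) (y : (T.F n₀).obj S.X₂) :
    T.δ S hS n₀ n₁ h ((T.F n₀).map S.g y) = 0 := by
  have := ConcreteCategory.congr_hom (T.comp_δ S hS n₀ n₁ h) y
  simpa using this

lemma δ_map_f (n₀ n₁ : ℕ) (h : n₀ + 1 = n₁) (z : (T.F n₀).obj S.X₃) :
    (T.F n₁).map S.f (T.δ S hS n₀ n₁ h z) = 0 := by
  have := ConcreteCategory.congr_hom (T.δ_comp S hS n₀ n₁ h) z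
  simpa using this

omit hS in
lemma map_f_map_g (n : ℕ) (x : (T.F n).obj S.X₁) :
    (T.F n).map S.g ((T.F n).map S.f x) = 0 := by
  have : (T.F n).map S.f ≫ (T.F n).map S.g = 0 := by
    rw [← Functor.map_comp, S.zero, Functor.map_zero]
  have := ConcreteCategory.congr_hom this x
  simpa using this

end

variable {T T'}

lemma nat_apply (φ : T ⟶ T') (n : ℕ) {X Y : C} (f : X ⟶ Y) (x : (T.F n).obj X) :
    (φ.app n).app Y ((T.F n).map f x) = (T'.F n).map f ((φ.app n).app X x) := by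
  have := ConcreteCategory.congr_hom ((φ.app n).naturality f) x
  simpa using this

lemma comm_apply (φ : T ⟶ T') (S : ShortComplex C) (hS : S.ShortExact) (n₀ n₁ : ℕ)
    (h : n₀ + 1 = n₁) (z : (T.F n₀).obj S.X₃) :
    (φ.app n₁).app S.X₁ (T.δ S hS n₀ n₁ h z) = T'.δ S hS n₀ n₁ h ((φ.app n₀).app S.X₃ z) := by
  have := ConcreteCategory.congr_hom (φ.comm S hS n₀ n₁ h) z
  simpa using this

lemma zeroMono_inj (hT0 : T.ZeroMono) (S : ShortComplex C) (hS : S.ShortExact) :
    Function.Injective ((T.F 0).map S.f) := by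
  have := hT0 S hS
  exact (AddCommGrpCat.mono_iff_injective _).1 this

/-- injectivity step: if `φ^q` is surjective on all objects and injective on all objects, and `T^{q+1}` is
elementwise effaceable, then `φ^{q+1}` is injective. -/
lemma inj_step (φ : T ⟶ T') (q : ℕ)
    (hsurj : ∀ A : C, Function.Surjective ((φ.app q).app A))
    (hinj : ∀ A : C, Function.Injective ((φ.app q).app A))
    (hT : ∀ (A : C) (α : (T.F (q + 1)).obj A),
      ∃ (M : C) (u : A ⟶ M), Mono u ∧ (T.F (q + 1)).map u α = 0) (A : C) :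
    Function.Injective ((φ.app (q + 1)).app A) := by
  rw [injective_iff_map_eq_zero]
  intro α hα
  obtain ⟨M, u, hu, huα⟩ := hT A α
  have hS := sesOfMono_shortExact u
  obtain ⟨β, hβ⟩ := ex1 (T := T) (sesOfMono u) hS q (q + 1) rfl α huα
  have h1 : T'.δ (sesOfMono u) hS q (q + 1) rfl ((φ.app q).app _ β) = 0 := by
    rw [← comm_apply, hβ]; exact hα
  obtain ⟨m', hm'⟩ := ex3 (T := T') (sesOfMono u) hS q (q + 1) rfl _ h1
  obtain ⟨m, rfl⟩ := hsurj _ m'
  rw [← nat_apply] at hm'
  have := hinj _ hm'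
  rw [← hβ, ← this]
  exact map_g_δ (T := T) (sesOfMono u) hS q (q + 1) rfl m

/-- surjectivity step -/
lemma surj_step (φ : T ⟶ T') (q : ℕ)
    (hsurj : ∀ A : C, Function.Surjective ((φ.app q).app A))
    (hT' : ∀ (A : C) (α : (T'.F (q + 1)).obj A),
      ∃ (M : C) (u : A ⟶ M), Mono u ∧ (T'.F (q + 1)).map u α = 0) (A : C) :
    Function.Surjective ((φ.app (q + 1)).app A) := by
  intro α'
  obtain ⟨M, u, hu, huα⟩ := hT' A α'
  have hS := sesOfMono_shortExact u
  obtain ⟨β', hβ'⟩ := ex1 (T := T') (sesOfMono u) hS q (q + 1) rfl α' huα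
  obtain ⟨β, rfl⟩ := hsurj _ β'
  refine ⟨T.δ (sesOfMono u) hS q (q + 1) rfl β, ?_⟩
  rw [← hβ']
  exact comm_apply φ (sesOfMono u) hS q (q + 1) rfl β

section mono
variable {A M : C} (u : A ⟶ M) [Mono u]

lemma mono_ex2 (n : ℕ) (y : (T.F n).obj M) (h : (T.F n).map (cokernel.π u) y = 0) :
    ∃ x : (T.F n).obj A, (T.F n).map u x = y :=
  ex2 (T := T) (sesOfMono u) (sesOfMono_shortExact u) n y h

omit [Mono u] in
lemma map_u_map_π (n : ℕ) (x : (T.F n).obj A) :
    (T.F n).map (cokernel.π u) ((T.F n).map u x) = 0 :=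
  map_f_map_g (T := T) (sesOfMono u) n x

lemma mono_zero_inj (hT0 : T.ZeroMono) : Function.Injective ((T.F 0).map u) :=
  zeroMono_inj hT0 (sesOfMono u) (sesOfMono_shortExact u)

end mono

section monoδ
variable (T) in
/-- connecting map attached to a monomorphism -/
noncomputable def δm {A M : C} (u : A ⟶ M) [Mono u] (n : ℕ) :
    (T.F n).obj (cokernel u) ⟶ (T.F (n + 1)).obj A :=
  T.δ (sesOfMono u) (sesOfMono_shortExact u) n (n + 1) rfl

variable {A M : C} (u : A ⟶ M) [Mono u]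

lemma mono_ex1 (n : ℕ) (x : (T.F (n + 1)).obj A) (hx : (T.F (n + 1)).map u x = 0) :
    ∃ z : (T.F n).obj (cokernel u), δm T u n z = x :=
  ex1 (T := T) (sesOfMono u) (sesOfMono_shortExact u) n (n + 1) rfl x hx

lemma mono_ex3 (n : ℕ) (z : (T.F n).obj (cokernel u)) (hz : δm T u n z = 0) :
    ∃ y : (T.F n).obj M, (T.F n).map (cokernel.π u) y = z :=
  ex3 (T := T) (sesOfMono u) (sesOfMono_shortExact u) n (n + 1) rfl z hz

lemma mono_map_π_δ (n : ℕ) (y : (T.F n).obj M) :
    δm T u n ((T.F n).map (cokernel.π u) y) = 0 :=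
  map_g_δ (T := T) (sesOfMono u) (sesOfMono_shortExact u) n (n + 1) rfl y

lemma mono_comm_apply (φ : T ⟶ T') (n : ℕ) (z : (T.F n).obj (cokernel u)) :
    (φ.app (n + 1)).app A (δm T u n z) = δm T' u n ((φ.app n).app (cokernel u) z) :=
  comm_apply φ (sesOfMono u) (sesOfMono_shortExact u) n (n + 1) rfl z

end monoδ

section core
variable {A M : C} (u : A ⟶ M) [Mono u] (φ : T ⟶ T')

/-- four-lemma (mono part) along `0 → A → M → M/A → 0`. -/
lemma inj_core (q : ℕ) (hsurjM : Function.Surjective ((φ.app q).app M))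
    (hinjQ : Function.Injective ((φ.app q).app (cokernel u)))
    (α : (T.F (q + 1)).obj A) (huα : (T.F (q + 1)).map u α = 0)
    (hα : (φ.app (q + 1)).app A α = 0) : α = 0 := by
  obtain ⟨β, hβ⟩ := mono_ex1 u q α huα
  have h1 : δm T' u q ((φ.app q).app _ β) = 0 := by
    rw [← mono_comm_apply, hβ]; exact hα
  obtain ⟨m', hm'⟩ := mono_ex3 u q _ h1
  obtain ⟨m, rfl⟩ := hsurjM m'
  rw [← nat_apply] at hm'
  have := hinjQ hm'
  rw [← hβ, ← this]
  exact mono_map_π_δ u q m

/-- four-lemma (epi part) along `0 → A → M → M/A → 0`. -/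
lemma surj_core (q : ℕ) (hsurjM : Function.Surjective ((φ.app (q + 1)).app M))
    (hinjQ : Function.Injective ((φ.app (q + 1)).app (cokernel u)))
    (hsurjQ : Function.Surjective ((φ.app q).app (cokernel u))) :
    Function.Surjective ((φ.app (q + 1)).app A) := by
  intro x'
  obtain ⟨m, hm⟩ := hsurjM ((T'.F (q + 1)).map u x')
  have hq : (T.F (q + 1)).map (cokernel.π u) m = 0 := by
    apply hinjQ
    rw [nat_apply, hm, map_zero]
    exact map_u_map_π (T := T') u (q + 1) x'
  obtain ⟨a, ha⟩ := mono_ex2 (T := T) u (q + 1) m hq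
  have h2 : (T'.F (q + 1)).map u ((φ.app (q + 1)).app A a - x') = 0 := by
    rw [map_sub, ← nat_apply, ha, hm, sub_self]
  obtain ⟨y', hy'⟩ := mono_ex1 u q _ h2
  obtain ⟨y, rfl⟩ := hsurjQ y'
  refine ⟨a - δm T u q y, ?_⟩
  rw [map_sub, mono_comm_apply, hy']
  abel

/-- degree zero: injectivity -/
lemma inj_zero {A M : C} (u : A ⟶ M) [Mono u] (φ : T ⟶ T') (hT0 : T.ZeroMono)
    (hinjM : Function.Injective ((φ.app 0).app M)) :
    Function.Injective ((φ.app 0).app A) := by
  intro x y hxy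
  apply mono_zero_inj u hT0
  apply hinjM
  rw [nat_apply, nat_apply, hxy]

/-- degree zero: surjectivity -/
lemma surj_zero (hT'0 : T'.ZeroMono) (hsurjM : Function.Surjective ((φ.app 0).app M))
    (hinjQ : Function.Injective ((φ.app 0).app (cokernel u))) :
    Function.Surjective ((φ.app 0).app A) := by
  intro a'
  obtain ⟨m, hm⟩ := hsurjM ((T'.F 0).map u a')
  have hq : (T.F 0).map (cokernel.π u) m = 0 := by
    apply hinjQ
    rw [nat_apply, hm, map_zero]
    exact map_u_map_π (T := T') u 0 a'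
  obtain ⟨a, ha⟩ := mono_ex2 (T := T) u 0 m hq
  refine ⟨a, ?_⟩
  apply mono_zero_inj u hT'0
  rw [← nat_apply, ← hm, ha]

end core

section iso

lemma inj_of_iso (φ : T ⟶ T') {X A : C} (e : X ≅ A) (q : ℕ)
    (h : Function.Injective ((φ.app q).app X)) :
    Function.Injective ((φ.app q).app A) := by
  intro x y hxy
  have h1 : (T.F q).map e.inv x = (T.F q).map e.inv y := by
    apply h
    rw [nat_apply, nat_apply, hxy]
  have h2 : ∀ z : (T.F q).obj A, (T.F q).map e.hom ((T.F q).map e.inv z) = z := by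
    intro z
    have : (T.F q).map e.inv ≫ (T.F q).map e.hom = 𝟙 _ := by
      rw [← Functor.map_comp, e.inv_hom_id, CategoryTheory.Functor.map_id]
    have := ConcreteCategory.congr_hom this z
    rwa [ConcreteCategory.comp_apply, ConcreteCategory.id_apply] at this
  rw [← h2 x, ← h2 y, h1]

lemma surj_of_iso (φ : T ⟶ T') {X A : C} (e : X ≅ A) (q : ℕ)
    (h : Function.Surjective ((φ.app q).app X)) :
    Function.Surjective ((φ.app q).app A) := by
  intro x'
  obtain ⟨x, hx⟩ := h ((T'.F q).map e.inv x')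
  refine ⟨(T.F q).map e.hom x, ?_⟩
  rw [nat_apply, hx]
  have : (T'.F q).map e.inv ≫ (T'.F q).map e.hom = 𝟙 _ := by
    rw [← Functor.map_comp, e.inv_hom_id, CategoryTheory.Functor.map_id]
  have := ConcreteCategory.congr_hom this x'
  rwa [ConcreteCategory.comp_apply, ConcreteCategory.id_apply] at this

end iso

end Groth.Agent.Lib.Helper94.DeltaAb
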