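import Groth.Agent.Lib.Helper94.LTensorCoprod

/-!
# Derived functors computed on a resolving class commute with coproducts (helper94)

Namespace `Groth.Agent.Lib.Helper94.DerCoprodFunctor`.

`Φ` a functor on complexes preserving coproducts, `LF` a functor on derived categories with a
natural transformation `α : Q ⋙ LF ⟶ Φ ⋙ Q` which is an isomorphism on a class `Pr` of complexes
such that every complex is quasi-isomorphic to a member of `Pr` and `Pr` is stable under termwise
coproducts. Then `LF` commutes with coproducts.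
-/

universe w w' v v' u u' t

open CategoryTheory CategoryTheory.Limits HomologicalComplex

namespace Groth.Agent.Lib.Helper94.DerCoprodFunctor

open Groth.Agent.Lib.Helper94.DerCoprodU Groth.Agent.Lib.Helper94.LTensorCoprod DerivedCategory

variable {A : Type u} [Category.{v} A] [Abelian A] [HasDerivedCategory.{w} A]
  {B : Type u'} [Category.{v'} B] [Abelian B] [HasDerivedCategory.{w'} B]
  {ι : Type t}
  [HasColimitsOfShape (Discrete ι) A] [HasExactColimitsOfShape (Discrete ι) A]
  [HasColimitsOfShape (Discrete ι) B] [HasExactColimitsOfShape (Discrete ι) B]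

theorem isIso_sigmaDesc (Φ : CochainComplex A ℤ ⥤ CochainComplex B ℤ)
    [PreservesColimitsOfShape (Discrete ι) Φ]
    (LF : DerivedCategory A ⥤ DerivedCategory B)
    (α : (Q : CochainComplex A ℤ ⥤ DerivedCategory A) ⋙ LF ⟶ Φ ⋙ Q)
    (Pr : CochainComplex A ℤ → Prop)
    (hres : ∀ K : CochainComplex A ℤ, ∃ (P : CochainComplex A ℤ) (p : P ⟶ K), QuasiIso p ∧ Pr P)
    (hα : ∀ P, Pr P → IsIso (α.app P))
    (hsig : ∀ K : ι → CochainComplex A ℤ, (∀ i, Pr (K i)) → Pr (sigmaC K))
    (X : ι → DerivedCategory A) [HasCoproduct X] [HasCoproduct (fun i => LF.obj (X i))] :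
    IsIso (Sigma.desc (fun i => LF.map (Sigma.ι X i))) := by
  have hK : ∀ i, ∃ K : CochainComplex A ℤ, Pr K ∧ Nonempty (Q.obj K ≅ X i) :=
    fun i => by
      obtain ⟨P, q, hq, hP⟩ := hres (Q.objPreimage (X i))
      haveI := hq
      exact ⟨P, hP, ⟨asIso (Q.map q) ≪≫ Q.objObjPreimageIso (X i)⟩⟩
  choose K hK e using hK
  let e' : ∀ i, Q.obj (K i) ≅ X i := fun i => (e i).some
  have hS : IsColimit (Cofan.mk (sigmaC K) (ιC K)) := isColimitSigmaC K
  have hPrS : Pr (sigmaC K) := hsig K hK
  have h1 : IsColimit (Cofan.mk (Φ.obj (sigmaC K)) (fun i => Φ.map (ιC K i))) :=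
    isColimitMapCoconeCofanMkEquiv Φ K (ιC K) (isColimitOfPreserves Φ hS)
  let b : Φ.obj (sigmaC K) ≅ sigmaC (fun i => Φ.obj (K i)) :=
    IsColimit.coconePointUniqueUpToIso h1 (isColimitSigmaC (fun i => Φ.obj (K i)))
  have hb : ∀ i, Φ.map (ιC K i) ≫ b.hom = ιC (fun i => Φ.obj (K i)) i := fun i =>
    IsColimit.comp_coconePointUniqueUpToIso_hom h1
      (isColimitSigmaC (fun i => Φ.obj (K i))) ⟨i⟩
  have hA : IsColimit (Cofan.mk (LF.obj (Q.obj (sigmaC K)))
      (fun i => LF.map (Q.map (ιC K i)))) := by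
    haveI : ∀ i, IsIso (α.app (K i)) := fun i => hα (K i) (hK i)
    haveI : IsIso (α.app (sigmaC K)) := hα (sigmaC K) hPrS
    refine isColimitCofanOfIso _
      (Cofan.mk ((Φ ⋙ Q).obj (sigmaC K)) (fun i => (Φ ⋙ Q).map (ιC K i)))
      (fun i => asIso (α.app (K i))) (asIso (α.app (sigmaC K)))
      (fun i => α.naturality (ιC K i)) ?_
    refine isColimitCofanOfIso _
      (Cofan.mk (Q.obj (sigmaC (fun i => Φ.obj (K i))))
        (fun i => Q.map (ιC (fun i => Φ.obj (K i)) i)))
      (fun i => Iso.refl _) (Q.mapIso b) (fun i => ?_) (isColimitCofan _)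
    change Q.map (Φ.map (ιC K i)) ≫ Q.map b.hom = 𝟙 _ ≫ _
    rw [Category.id_comp, ← Functor.map_comp, hb]
    rfl
  let c : Cofan X := Cofan.mk (Q.obj (sigmaC K)) (fun i => (e' i).inv ≫ Q.map (ιC K i))
  have hc : IsColimit c :=
    isColimitCofanOfIso c (Cofan.mk (Q.obj (sigmaC K)) (fun i => Q.map (ιC K i)))
      (fun i => (e' i).symm) (Iso.refl _) (fun i => Category.comp_id _) (isColimitCofan K)
  have hLc : IsColimit (LF.mapCocone c) :=
    (isColimitMapCoconeCofanMkEquiv LF X _).symm
      (isColimitCofanOfIso _ _ (fun i => LF.mapIso (e' i).symm) (Iso.refl _)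
        (fun i => by
          change LF.map ((e' i).inv ≫ Q.map (ιC K i)) ≫ 𝟙 _ = LF.map (e' i).inv ≫ _
          rw [Category.comp_id, Functor.map_comp]
          rfl) hA)
  haveI : PreservesColimit (Discrete.functor X) LF :=
    preservesColimit_of_preserves_colimit_cocone hc hLc
  exact inferInstanceAs (IsIso (sigmaComparison LF X))

end Groth.Agent.Lib.Helper94.DerCoprodFunctor
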