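import Mathlib

/-!
# Coproducts of complexes, quasi-isomorphisms and homotopies (copy of `Lib/Helper68/DerCoprod` with a
universe-generalized index type; helper94)

For a family `K : J → HomologicalComplex A c` in an abelian category with exact coproducts
of shape `J`, we build an explicit model `sigmaC K` of the coproduct (termwise coproduct),
show that a termwise coproduct of quasi-isomorphisms is a quasi-isomorphism, and that homotopies
can be glued along coproducts.
-/

open CategoryTheory Limits

namespace Groth.Agent.Lib.Helper94.DerCoprodU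

universe w' w v u

variable {A : Type u} [Category.{v} A] [Abelian A] {J : Type w}
  {ι : Type*} {c : ComplexShape ι}

/-- A family of complexes seen as a complex of functors `Discrete J ⥤ A`. -/
@[reducible]
def fam (K : J → HomologicalComplex A c) : HomologicalComplex (Discrete J ⥤ A) c where
  X i := Discrete.functor (fun j => (K j).X i)
  d i i' := Discrete.natTrans (fun j => (K j.as).d i i')
  shape i i' h := by
    ext ⟨j⟩
    simp [(K j).shape i i' h]
  d_comp_d' i i' i'' _ _ := by
    ext ⟨j⟩
    simp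

/-- A family of morphisms of complexes seen as a morphism of complexes of functors. -/
@[reducible]
def famMap {K L : J → HomologicalComplex A c} (t : ∀ j, K j ⟶ L j) : fam K ⟶ fam L where
  f i := Discrete.natTrans (fun j => (t j.as).f i)
  comm' i i' _ := by
    ext ⟨j⟩
    simp

lemma quasiIso_famMap {K L : J → HomologicalComplex A c} (t : ∀ j, K j ⟶ L j)
    [∀ j, QuasiIso (t j)] : QuasiIso (famMap t) := by
  rw [HomologicalComplex.quasiIso_iff_evaluation]
  rintro ⟨j⟩
  refine (quasiIso_iff_of_arrow_mk_iso _ (t j) ?_).2 inferInstance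
  exact Arrow.isoMk
    (HomologicalComplex.Hom.isoOfComponents (fun i => Iso.refl _)
      (by intros; exact (Category.id_comp _).trans (Category.comp_id _).symm))
    (HomologicalComplex.Hom.isoOfComponents (fun i => Iso.refl _)
      (by intros; exact (Category.id_comp _).trans (Category.comp_id _).symm))
    (by ext i; exact (Category.id_comp _).trans (Category.comp_id _).symm)

section

variable [HasColimitsOfShape (Discrete J) A]

/-- The termwise coproduct of a family of complexes. -/
noncomputable def sigmaC (K : J → HomologicalComplex A c) : HomologicalComplex A c :=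
  ((colim (J := Discrete J) (C := A)).mapHomologicalComplex c).obj (fam K)

/-- The termwise coproduct of a family of morphisms of complexes. -/
noncomputable def mapC {K L : J → HomologicalComplex A c} (t : ∀ j, K j ⟶ L j) :
    sigmaC K ⟶ sigmaC L :=
  ((colim (J := Discrete J) (C := A)).mapHomologicalComplex c).map (famMap t)

lemma quasiIso_mapC [HasExactColimitsOfShape (Discrete J) A] {K L : J → HomologicalComplex A c}
    (t : ∀ j, K j ⟶ L j) [∀ j, QuasiIso (t j)] : QuasiIso (mapC t) := by
  have := quasiIso_famMap t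
  dsimp only [mapC]
  exact HomologicalComplex.quasiIso_map_of_preservesHomology (famMap t) colim

set_option backward.isDefEq.respectTransparency false in
/-- The inclusion of a summand in the termwise coproduct. -/
noncomputable def ιC (K : J → HomologicalComplex A c) (j : J) : K j ⟶ sigmaC K where
  f i := colimit.ι ((fam K).X i) ⟨j⟩
  comm' i i' _ := by
    simp [sigmaC]

set_option backward.isDefEq.respectTransparency false in
@[reassoc (attr := simp)]
lemma ιC_mapC {K L : J → HomologicalComplex A c} (t : ∀ j, K j ⟶ L j) (j : J) :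
    ιC K j ≫ mapC t = t j ≫ ιC L j := by
  ext i
  simp [ιC, mapC]

set_option backward.isDefEq.respectTransparency false in
/-- The morphism from the termwise coproduct induced by a family of morphisms. -/
noncomputable def descC {K : J → HomologicalComplex A c} {Y : HomologicalComplex A c}
    (g : ∀ j, K j ⟶ Y) : sigmaC K ⟶ Y where
  f i := colimit.desc ((fam K).X i) ⟨Y.X i, Discrete.natTrans (fun j => (g j.as).f i)⟩
  comm' i i' _ := by
    apply colimit.hom_ext
    rintro ⟨j⟩
    simp [sigmaC]

set_option backward.isDefEq.respectTransparency false in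
@[reassoc (attr := simp)]
lemma ιC_descC {K : J → HomologicalComplex A c} {Y : HomologicalComplex A c}
    (g : ∀ j, K j ⟶ Y) (j : J) : ιC K j ≫ descC g = g j := by
  ext i
  simp [ιC, descC]

set_option backward.isDefEq.respectTransparency false in
/-- Homotopies can be glued along the termwise coproduct. -/
noncomputable def homotopyC {K : J → HomologicalComplex A c} {Y : HomologicalComplex A c}
    (φ ψ : sigmaC K ⟶ Y) (h : ∀ j, Homotopy (ιC K j ≫ φ) (ιC K j ≫ ψ)) : Homotopy φ ψ where
  hom i i' := colimit.desc ((fam K).X i) ⟨Y.X i', Discrete.natTrans (fun j => (h j.as).hom i i')⟩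
  zero i i' hii' := by
    apply colimit.hom_ext
    rintro ⟨j⟩
    simp [(h j).zero i i' hii']
  comm i := by
    apply colimit.hom_ext
    rintro ⟨j⟩
    have := (h j).comm i
    simp [dNext, prevD, ιC, sigmaC] at this ⊢
    exact this

end

section Derived

open DerivedCategory

variable {C : Type u} [Category.{v} C] [Abelian C] [HasDerivedCategory.{w} C]
  {J : Type w'} [HasColimitsOfShape (Discrete J) C] [HasExactColimitsOfShape (Discrete J) C]

instance isIso_Q_map_mapC {K L : J → CochainComplex C ℤ} (t : ∀ j, K j ⟶ L j)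
    [∀ j, QuasiIso (t j)] : IsIso (Q.map (mapC t)) := by
  have := quasiIso_mapC t
  rw [isIso_Q_map_iff_quasiIso]
  infer_instance

/-- Existence part of the universal property of `Q.obj (sigmaC K)`. -/
lemma exists_desc (K : J → CochainComplex C ℤ) (T : DerivedCategory C)
    (f : ∀ j, Q.obj (K j) ⟶ T) :
    ∃ φ : Q.obj (sigmaC K) ⟶ T, ∀ j, Q.map (ιC K j) ≫ φ = f j := by
  obtain ⟨Y, ⟨e⟩⟩ : ∃ Y : CochainComplex C ℤ, Nonempty (Q.obj Y ≅ T) :=
    ⟨_, ⟨Q.objObjPreimageIso T⟩⟩
  have H : ∀ j, ∃ (X' : CochainComplex C ℤ) (s : X' ⟶ K j) (_ : IsIso (Q.map s)) (g : X' ⟶ Y),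
      f j ≫ e.inv = inv (Q.map s) ≫ Q.map g := fun j => right_fac (f j ≫ e.inv)
  choose K' s hs g hg using H
  have : ∀ j, QuasiIso (s j) := fun j => (isIso_Q_map_iff_quasiIso _ (s j)).1 (hs j)
  refine ⟨inv (Q.map (mapC s)) ≫ Q.map (descC g) ≫ e.hom, fun j => ?_⟩
  have h1 : Q.map (ιC K j) ≫ inv (Q.map (mapC s)) = inv (Q.map (s j)) ≫ Q.map (ιC K' j) := by
    rw [← cancel_epi (Q.map (s j)), ← cancel_mono (Q.map (mapC s))]
    simp only [Category.assoc, IsIso.inv_hom_id, Category.comp_id, IsIso.hom_inv_id_assoc]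
    rw [← Q.map_comp, ← Q.map_comp, ιC_mapC]
  rw [reassoc_of% h1, ← Q.map_comp_assoc, ιC_descC, ← reassoc_of% (hg j)]
  simp

omit [HasColimitsOfShape (Discrete J) C] [HasExactColimitsOfShape (Discrete J) C] in
/-- If `Q.map f = 0`, then `f` becomes null-homotopic after precomposition with a
quasi-isomorphism. -/
lemma exists_quasiIso_homotopy_zero {X Y : CochainComplex C ℤ} (f : X ⟶ Y) (hf : Q.map f = 0) :
    ∃ (X' : CochainComplex C ℤ) (t : X' ⟶ X) (_ : QuasiIso t), Nonempty (Homotopy (t ≫ f) 0) := by
  have h1 : Qh.map ((HomotopyCategory.quotient _ _).map f) =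
      Qh.map (0 : (HomotopyCategory.quotient _ _).obj X ⟶ (HomotopyCategory.quotient _ _).obj Y) := by
    rw [← cancel_mono ((quotientCompQhIso C).hom.app Y), quotientCompQhIso_hom_naturality, hf]
    simp
  obtain ⟨Z, s, hs, hsf⟩ := (MorphismProperty.map_eq_iff_precomp Qh
    (HomotopyCategory.quasiIso C (ComplexShape.up ℤ)) _ _).1 h1
  obtain ⟨X', rfl⟩ := HomotopyCategory.quotient_obj_surjective Z
  obtain ⟨t, rfl⟩ := (HomotopyCategory.quotient _ _).map_surjective s
  rw [HomotopyCategory.quotient_map_mem_quasiIso_iff] at hs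
  refine ⟨X', t, hs, ?_⟩
  rw [← HomotopyCategory.quotient_map_eq_zero_iff, Functor.map_comp, hsf, Limits.comp_zero]

/-- Uniqueness part of the universal property of `Q.obj (sigmaC K)`. -/
lemma hom_ext (K : J → CochainComplex C ℤ) (T : DerivedCategory C)
    (φ ψ : Q.obj (sigmaC K) ⟶ T) (h : ∀ j, Q.map (ιC K j) ≫ φ = Q.map (ιC K j) ≫ ψ) :
    φ = ψ := by
  suffices H : ∀ χ : Q.obj (sigmaC K) ⟶ T, (∀ j, Q.map (ιC K j) ≫ χ = 0) → χ = 0 by
    rw [← sub_eq_zero]
    apply H
    intro j
    rw [Preadditive.comp_sub, h j, sub_self]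
  intro χ hχ
  obtain ⟨Y, ⟨e⟩⟩ : ∃ Y : CochainComplex C ℤ, Nonempty (Q.obj Y ≅ T) :=
    ⟨_, ⟨Q.objObjPreimageIso T⟩⟩
  obtain ⟨Y', g, s, hs, hg⟩ := left_fac (χ ≫ e.inv)
  have h0 : ∀ j, Q.map (ιC K j ≫ g) = 0 := by
    intro j
    rw [Q.map_comp, ← cancel_mono (inv (Q.map s)), Category.assoc, ← hg, reassoc_of% (hχ j)]
    simp
  have H : ∀ j, ∃ (X' : CochainComplex C ℤ) (t : X' ⟶ K j) (_ : QuasiIso t),
      Nonempty (Homotopy (t ≫ ιC K j ≫ g) 0) := fun j => exists_quasiIso_homotopy_zero _ (h0 j)
  choose K' t ht hh using H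
  have hG : Homotopy (mapC t ≫ g) 0 := homotopyC _ _ (fun j =>
    (Homotopy.ofEq (by simp)).trans ((hh j).some.trans (Homotopy.ofEq (by simp))))
  have h2 : Q.map (mapC t) ≫ Q.map g = 0 := by
    rw [← Q.map_comp, Q_map_eq_of_homotopy _ hG, Q.map_zero]
  have h3 : Q.map g = 0 := by
    rw [← cancel_epi (Q.map (mapC t)), h2, Limits.comp_zero]
  rw [h3, Limits.zero_comp] at hg
  rw [← cancel_mono e.inv, hg, Limits.zero_comp]

/-- `Q.obj (sigmaC K)` is a coproduct of the `Q.obj (K j)` in the derived category. -/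
noncomputable def isColimitCofan (K : J → CochainComplex C ℤ) :
    IsColimit (Cofan.mk (Q.obj (sigmaC K)) (fun j => Q.map (ιC K j))) :=
  Cofan.IsColimit.mk _ (fun t => (exists_desc K t.pt t.inj).choose)
    (fun t j => (exists_desc K t.pt t.inj).choose_spec j)
    (fun t _ hm => hom_ext K _ _ _ (fun j =>
      (hm j).trans ((exists_desc K t.pt t.inj).choose_spec j).symm))

variable (C J) in
/-- The derived category has coproducts of shape `J` as soon as `C` has exact coproducts
of shape `J`. -/
lemma hasCoproductsOfShape : HasCoproductsOfShape J (DerivedCategory C) := by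
  constructor
  intro F
  have hK : ∀ j, ∃ K : CochainComplex C ℤ, Nonempty (Q.obj K ≅ F.obj ⟨j⟩) :=
    fun j => ⟨_, ⟨Q.objObjPreimageIso _⟩⟩
  choose K e using hK
  have : HasColimit (Discrete.functor (fun j => Q.obj (K j))) := ⟨⟨⟨_, isColimitCofan K⟩⟩⟩
  exact hasColimit_of_iso (F := Discrete.functor (fun j => Q.obj (K j)))
    (Discrete.natIso (fun ⟨j⟩ => (e j).some.symm))

end Derived

end Groth.Agent.Lib.Helper94.DerCoprodU
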