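import Mathlib
import Groth.Prelude.Def_CxOX
import Groth.Agent.Lib.Helper94.JShriekFree
import Groth.Agent.Lib.Helper94.JShriekFlat
import Groth.Agent.Lib.Helper94.StalkFlatScheme
import Groth.Agent.Lib.Helper94.FlatResScheme
import Groth.Agent.Lib.Helper6.FreeOnClass
import Groth.Agent.Lib.QCoh.Helper74_LocFreeLift

/-!
# `j_! O_V ≅ freeOn X.sheaf V` on a scheme, and flat covers by coproducts of `j_! O_V` (helper94)
-/

set_option autoImplicit false
universe u
open CategoryTheory CategoryTheory.Limits AlgebraicGeometry TopologicalSpace Opposite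

namespace Groth.Agent.Lib.Helper94.ExtZeroUnitFree

open Groth.Agent.Lib.QCoh Groth.Agent.Lib.Helper94.JShriek

/-- morphisms out of `O_Y` are global sections -/
noncomputable def unitHomEquivTop {Y : Scheme.{u}} (N : Y.Modules) :
    (Coh.structureModule Y ⟶ N) ≃ Γ(N, ⊤) where
  toFun χ := χ.app ⊤ (1 : Γ(Y, ⊤))
  invFun t := Lift74.unitHomOfTop N t
  left_inv χ := Lift74.unitHom_ext (Lift74.unitHomOfTop_app_one N _)
  right_inv t := Lift74.unitHomOfTop_app_one N t

variable {X : Scheme.{u}} (V : X.Opens)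

lemma image_top_eq : V.ι ''ᵁ ⊤ = V := Scheme.Opens.ι_image_top V

/-- transport of sections along `V.ι ''ᵁ ⊤ = V` -/
noncomputable def sectTransport (F : X.Modules) : Γ(F, V.ι ''ᵁ ⊤) ≃ Γ(F, V) where
  toFun s := F.presheaf.map (eqToHom (image_top_eq V).symm).op s
  invFun s := F.presheaf.map (eqToHom (image_top_eq V)).op s
  left_inv s := by
    change F.presheaf.map _ (F.presheaf.map _ s) = s
    rw [← ConcreteCategory.comp_apply, ← F.presheaf.map_comp, ← op_comp, eqToHom_trans, eqToHom_refl,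
      op_id, F.presheaf.map_id]
    rfl
  right_inv s := by
    change F.presheaf.map _ (F.presheaf.map _ s) = s
    rw [← ConcreteCategory.comp_apply, ← F.presheaf.map_comp, ← op_comp, eqToHom_trans, eqToHom_refl,
      op_id, F.presheaf.map_id]
    rfl

/-- `j_! O_V` corepresents sections over `V` -/
noncomputable def corep :
    (sectFunctor X.sheaf V).CorepresentableBy (CxOX.extZeroUnit V.ι) where
  homEquiv {F} := ((CxOX.extZeroAdj V.ι).homEquiv (Coh.structureModule V) F).trans
    ((unitHomEquivTop ((Scheme.Modules.restrictFunctor V.ι).obj F)).trans (sectTransport V F))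
  homEquiv_comp {F F'} p h := by
    change (sectTransport V F') ((unitHomEquivTop _)
      ((CxOX.extZeroAdj V.ι).homEquiv (Coh.structureModule V) F' (h ≫ p))) = _
    rw [Adjunction.homEquiv_naturality_right]
    exact (Lift74.app_naturality_apply' p (eqToHom (image_top_eq V).symm) _).symm

/-- `j_! O_V ≅ freeOn X.sheaf V` -/
noncomputable def extZeroUnitIso : CxOX.extZeroUnit V.ι ≅ ModSite.freeOn X.sheaf V :=
  (corep V).uniqueUpToIso (freeOnCorepresentableBy X.sheaf V)


/-- every `O_X`-module is a quotient of a flat coproduct of modules `j_! O_V` -/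
theorem exists_flat_cover (F : X.Modules) :
    ∃ (ι : Type u) (U : ι → X.Opens) (p : (∐ fun i => CxOX.extZeroUnit (U i).ι) ⟶ F),
      Epi p ∧ FlatMod.IsFlat (∐ fun i => CxOX.extZeroUnit (U i).ι) := by
  obtain ⟨P, π, ⟨ι, U₀, ⟨e⟩⟩, hπ⟩ := Groth.Agent.Lib.Helper6.FreeOnClass.P_cover
    (J := Opens.grothendieckTopology X) X.sheaf F
  let U : ι → X.Opens := U₀
  let G : ι → X.Modules := fun i => ModSite.freeOn X.sheaf (U i)
  let P' : X.Modules := P
  let π' : P' ⟶ F := π
  haveI hπ' : Epi π' := hπ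
  have e' : P' ≅ ∐ G := e
  let σ : (∐ fun i => CxOX.extZeroUnit (U i).ι) ≅ ∐ G :=
    Sigma.mapIso (fun i => extZeroUnitIso (U i))
  have hflat : FlatMod.IsFlat (∐ G) := by
    refine (Groth.Agent.Lib.Helper94.StalkFlatScheme.isFlat_iff _).2 ?_
    exact Groth.Agent.Lib.Helper94.ModFlat.isFlat_of_isColimit_cofan
      (J := Opens.grothendieckTopology X) X.sheaf G
      (fun i => isFlat_freeOn (O := X.sheaf) (U := U i)) _ (coproductIsCoproduct G)
  refine ⟨ι, U, σ.hom ≫ e'.inv ≫ π', ?_, ?_⟩
  · haveI : Epi (e'.inv ≫ π') := epi_comp _ _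
    exact epi_comp _ _
  · exact Groth.Agent.Lib.Helper94.FlatResScheme.isFlat_of_iso σ.symm hflat

end Groth.Agent.Lib.Helper94.ExtZeroUnitFree
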