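import Mathlib.Algebra.Homology.ShortComplex.HomologicalComplex
import Mathlib.Algebra.Homology.ShortComplex.ExactFunctor
import Mathlib.Algebra.Homology.Additive

/-!
# Bounded below acyclic complexes of "flat" objects stay acyclic under a right exact functor
(helper94)

Namespace `Groth.Agent.Lib.Helper94.FlatAcyclic`.
-/

open CategoryTheory CategoryTheory.Limits Category

namespace Groth.Agent.Lib.Helper94.FlatAcyclic

variable {𝒜 ℬ : Type*} [Category 𝒜] [Abelian 𝒜] [Category ℬ] [Abelian ℬ]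

section

variable (M : ChainComplex 𝒜 ℤ)

/-- cycles in degree `j` -/
noncomputable abbrev Z (j : ℤ) : 𝒜 := kernel (M.d j (j - 1))

/-- inclusion of cycles -/
noncomputable abbrev ι (j : ℤ) : Z M j ⟶ M.X j := kernel.ι _

/-- the differential, corestricted to cycles -/
noncomputable abbrev q (i j : ℤ) : M.X i ⟶ Z M j :=
  kernel.lift (M.d j (j - 1)) (M.d i j) (M.d_comp_d i j (j - 1))

lemma q_ι (i j : ℤ) : q M i j ≫ ι M j = M.d i j := kernel.lift_ι _ _ _

lemma ι_q (j : ℤ) : ι M j ≫ q M j (j - 1) = 0 := by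
  rw [← cancel_mono (ι M (j - 1)), assoc, q_ι, zero_comp, kernel.condition]

/-- the short complex `Z j → M j → Z (j-1)` -/
noncomputable abbrev ses (j : ℤ) : ShortComplex 𝒜 := ShortComplex.mk (ι M j) (q M j (j - 1)) (ι_q M j)

lemma epi_q (hac : M.Acyclic) (j : ℤ) : Epi (q M (j + 1) j) := by
  have h := (M.exactAt_iff' (j + 1) j (j - 1) (by simp) (by simp)).1 (hac j)
  exact (ShortComplex.exact_iff_epi_kernel_lift _).1 h

lemma ses_shortExact (hac : M.Acyclic) (j : ℤ) : (ses M j).ShortExact := by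
  have h1 : Epi (q M j (j - 1)) := by
    have := epi_q M hac (j - 1)
    have e : j - 1 + 1 = j := by omega
    rw [e] at this
    exact this
  exact
    { exact := ShortComplex.exact_of_f_is_kernel _
        (isKernelOfComp (ι M (j - 1)) (M.d j (j - 1)) (kernelIsKernel _) (ι_q M j) (q_ι M j (j - 1)))
      mono_f := inferInstanceAs (Mono (kernel.ι _))
      epi_g := h1 }

end

theorem acyclic_map_of_flatClass (T : 𝒜 ⥤ ℬ) [T.Additive] [PreservesFiniteColimits T]
    (P : 𝒜 → Prop) (hzero : ∀ X, IsZero X → P X)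
    (h1 : ∀ S : ShortComplex 𝒜, S.ShortExact → P S.X₂ → P S.X₃ → P S.X₁)
    (h2 : ∀ S : ShortComplex 𝒜, S.ShortExact → P S.X₃ → Mono (T.map S.f))
    (M : ChainComplex 𝒜 ℤ) (hb : ∃ i₀ : ℤ, ∀ i, i < i₀ → IsZero (M.X i))
    (hM : ∀ i, P (M.X i)) (hac : M.Acyclic) :
    ((T.mapHomologicalComplex (ComplexShape.down ℤ)).obj M).Acyclic := by
  obtain ⟨i₀, hi₀⟩ := hb
  -- all cycle objects are in `P`
  have hZlow : ∀ j, j < i₀ → P (Z M j) := fun j hj =>
    hzero _ (IsZero.of_mono (ι M j) (hi₀ j hj))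
  have hstep : ∀ j, P (Z M (j - 1)) → P (Z M j) := fun j hj =>
    h1 (ses M j) (ses_shortExact M hac j) (hM j) hj
  have hZ : ∀ j, P (Z M j) := by
    intro j
    by_cases hj : j < i₀
    · exact hZlow j hj
    · have hj' : i₀ - 1 ≤ j := by omega
      refine Int.leInduction (m := i₀ - 1) (motive := fun n _ => P (Z M n))
        (hZlow (i₀ - 1) (by omega)) ?_ j hj'
      intro n _ hn
      apply hstep
      have e : n + 1 - 1 = n := by omega
      rw [e]
      exact hn
  intro j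
  rw [HomologicalComplex.exactAt_iff' _ (j + 1) j (j - 1) (by simp) (by simp)]
  -- the three short complexes
  have hS₂ : ((ses M j).map T).Exact :=
    ((T.preservesFiniteColimits_iff_forall_exact_map_and_epi).1 inferInstance (ses M j)
      (ses_shortExact M hac j)).1
  have hmono : Mono (T.map (ι M (j - 1))) :=
    h2 (ses M (j - 1)) (ses_shortExact M hac (j - 1)) (hZ _)
  have hepi : Epi (T.map (q M (j + 1) j)) := by
    have := epi_q M hac j
    infer_instance
  let S₁ : ShortComplex ℬ :=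
    ((T.mapHomologicalComplex (ComplexShape.down ℤ)).obj M).sc' (j + 1) j (j - 1)
  let S₁' : ShortComplex ℬ := ShortComplex.mk (T.map (ι M j)) (T.map (M.d j (j - 1)))
    (by rw [← T.map_comp, kernel.condition, T.map_zero])
  let φ₁ : S₁ ⟶ S₁' :=
    { τ₁ := T.map (q M (j + 1) j)
      τ₂ := 𝟙 _
      τ₃ := 𝟙 _
      comm₁₂ := by
        change T.map (q M (j + 1) j) ≫ T.map (ι M j) = T.map (M.d (j + 1) j) ≫ 𝟙 _
        rw [← T.map_comp, q_ι, comp_id]
      comm₂₃ := by
        change 𝟙 _ ≫ T.map (M.d j (j - 1)) = T.map (M.d j (j - 1)) ≫ 𝟙 _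
        rw [id_comp, comp_id] }
  let φ₂ : (ses M j).map T ⟶ S₁' :=
    { τ₁ := 𝟙 _
      τ₂ := 𝟙 _
      τ₃ := T.map (ι M (j - 1))
      comm₁₂ := by
        change 𝟙 _ ≫ T.map (ι M j) = T.map (ι M j) ≫ 𝟙 _
        rw [id_comp, comp_id]
      comm₂₃ := by
        change 𝟙 _ ≫ T.map (M.d j (j - 1)) = T.map (q M j (j - 1)) ≫ T.map (ι M (j - 1))
        rw [id_comp, ← T.map_comp, q_ι] }
  have : Epi φ₁.τ₁ := hepi
  have : IsIso φ₁.τ₂ := inferInstanceAs (IsIso (𝟙 _))
  have : Mono φ₁.τ₃ := inferInstanceAs (Mono (𝟙 _))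
  have : Epi φ₂.τ₁ := inferInstanceAs (Epi (𝟙 _))
  have : IsIso φ₂.τ₂ := inferInstanceAs (IsIso (𝟙 _))
  have : Mono φ₂.τ₃ := hmono
  exact (ShortComplex.exact_iff_of_epi_of_isIso_of_mono φ₁).2
    ((ShortComplex.exact_iff_of_epi_of_isIso_of_mono φ₂).1 hS₂)

end Groth.Agent.Lib.Helper94.FlatAcyclic
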