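import Groth.Agent.Lib.Helper94.JShriekHom

/-!
# Equational criterion of flatness on a small ringed site (helper94)

Namespace `Groth.Agent.Lib.Helper94.FlatEq`.
* `exists_local_lift` (Lemma A): for `F` flat and `α : L ⟶ L'`, an element of `L(X) ⊗ F(X)` killed by
  `α ⊗ F` lifts locally to `(ker α)(V) ⊗ F(V)`.
* `mulHom`, `matHom`, `bas`, `coord` : matrices over global sections on a site with terminal object.
* `exists_trivialisation` (terminal object), `exists_trivialisation_over` (any object `U`, via `C/U`):
  matrix form of the equational criterion of flatness.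
-/

universe u

open CategoryTheory CategoryTheory.Limits MonoidalCategory Opposite TensorProduct

namespace Groth.Agent.Lib.Helper94.FlatEq

open ModSite Groth.Agent.Lib.Helper94.ModTensorW Groth.Agent.Lib.Helper94.ModTensor
  Groth.Agent.Lib.Helper94.ModFlat Groth.Agent.Lib.Helper94.JShriek

variable {C : Type u} [SmallCategory C] {J : GrothendieckTopology C} (O : Sheaf J CommRingCat.{u})

/-- naturality of restriction for morphisms of presheaves of modules, on elements -/
lemma hom_map_apply {P Q : PMod O} (f : P ⟶ Q) {X Y : Cᵒᵖ} (g : X ⟶ Y) (p : P.obj X) :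
    (f.app Y).hom ((P.map g).hom p) = (Q.map g).hom ((f.app X).hom p) :=
  PresheafOfModules.naturality_apply f g p

/-- the sieve of arrows over which `x` lifts along `f` -/
def liftSieve {P Q : PMod O} (f : P ⟶ Q) {X : C} (x : Q.obj (op X)) : Sieve X where
  arrows V g := ∃ y : P.obj (op V), (f.app (op V)).hom y = (Q.map g.op).hom x
  downward_closed := by
    rintro V W g ⟨y, hy⟩ h
    refine ⟨(P.map h.op).hom y, ?_⟩
    rw [hom_map_apply, hy]
    exact (Q.map_comp_apply g.op h.op x).symm

/-- naturality of the sheafification unit on elements -/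
lemma unitMap_naturality_apply {P Q : PMod O} (f : P ⟶ Q) (X : Cᵒᵖ) (p : P.obj X) :
    (((fgt O).map ((shf O).map f)).app X).hom (((unitMap O P).app X).hom p) =
      ((unitMap O Q).app X).hom ((f.app X).hom p) := by
  have h := (shfAdj O).unit.naturality f
  have h' := congrArg (fun t => (t.app X).hom p) h
  exact h'.symm

/-- the unit of sheafification is locally surjective -/
theorem imageSieve_unitMap_mem (P : PMod O) {X : C}
    (σ : ((fgt O).obj ((shf O).obj P)).obj (op X)) :
    liftSieve O (unitMap O P) σ ∈ J X := by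
  have hw : J.W ((PresheafOfModules.toPresheaf _).map (unitMap O P)) := wMod_unit (O := O) P
  rw [J.W_iff_isLocallyBijective] at hw
  have := hw.2
  exact Presheaf.imageSieve_mem J ((PresheafOfModules.toPresheaf _).map (unitMap O P)) σ

/-- the unit of sheafification is locally injective -/
theorem equalizerSieve_unitMap_mem (P : PMod O) {X : C} (a b : P.obj (op X))
    (h : ((unitMap O P).app (op X)).hom a = ((unitMap O P).app (op X)).hom b) :
    Presheaf.equalizerSieve (F := (PresheafOfModules.toPresheaf _).obj P) (X := op X) a b ∈ J X := by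
  have hw : J.W ((PresheafOfModules.toPresheaf _).map (unitMap O P)) := wMod_unit (O := O) P
  rw [J.W_iff_isLocallyBijective] at hw
  have := hw.1
  exact Presheaf.equalizerSieve_mem J ((PresheafOfModules.toPresheaf _).map (unitMap O P)) a b h

/-- **Lemma A**: for `F` flat and `α : L ⟶ L'`, an element of `L(X) ⊗ F(X)` killed by `α ⊗ F`
comes locally from `(ker α)(V) ⊗ F(V)`. -/
theorem exists_local_lift (F : Mod O) (hF : IsFlat F) {L L' : Mod O} (α : L ⟶ L') (X : C)
    (x : ((fgt O).obj L ⊗ (fgt O).obj F : PMod O).obj (op X))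
    (hx : (((fgt O).map α ▷ (fgt O).obj F).app (op X)).hom x = 0) :
    liftSieve O ((fgt O).map (kernel.ι α) ▷ (fgt O).obj F) x ∈ J X := by
  classical
  have hT : PreservesFiniteLimits (tensR O F) := hF.1
  let G : Mod O ⥤ ModuleCat ((ringSh O).obj.obj (op X)) :=
    tensR O F ⋙ SheafOfModules.evaluation (ringSh O) (op X)
  have hE : PreservesFiniteLimits (SheafOfModules.evaluation (ringSh O) (op X)) :=
    SheafOfModules.Finite.evaluationPreservesFiniteLimits (ringSh O) (op X)
  have hG : PreservesFiniteLimits G := comp_preservesFiniteLimits _ _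
  have hG0 : G.PreservesZeroMorphisms := by
    have : PreservesLimit (Functor.empty.{0} (Mod O)) G := inferInstance
    exact Functor.preservesZeroMorphisms_of_preserves_terminal_object
  let S0 : ShortComplex (Mod O) := ShortComplex.mk (kernel.ι α) α (kernel.condition α)
  have hS0 : S0.Exact := ShortComplex.exact_of_f_is_kernel _ (kernelIsKernel α)
  have hS1 : (S0.map G).Exact :=
    hS0.map_of_mono_of_preservesKernel G (inferInstanceAs (Mono (kernel.ι α))) inferInstance
  rw [ShortComplex.moduleCat_exact_iff] at hS1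
  -- the image of `x` in the sheafification
  let PL : PMod O := (fgt O).obj L ⊗ (fgt O).obj F
  let PK : PMod O := (fgt O).obj (kernel α) ⊗ (fgt O).obj F
  let u := ((unitMap O PL).app (op X)).hom x
  have hu : (G.map α).hom u = 0 := by
    have := unitMap_naturality_apply O ((fgt O).map α ▷ (fgt O).obj F) (op X) x
    refine this.trans ?_
    rw [hx]
    exact map_zero _
  obtain ⟨σ, hσ⟩ := hS1 u hu
  refine J.transitive (imageSieve_unitMap_mem O PK σ) _ ?_
  rintro V g ⟨y, hy⟩
  -- `y` lifts `σ|_g`
  let ι' := (fgt O).map (kernel.ι α) ▷ (fgt O).obj F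
  have hz : ((unitMap O PL).app (op V)).hom ((ι'.app (op V)).hom y) =
      ((unitMap O PL).app (op V)).hom ((PL.map g.op).hom x) := by
    rw [← unitMap_naturality_apply O ι' (op V) y, hy]
    rw [hom_map_apply O (unitMap O PL) g.op x]
    exact (hom_map_apply O ((fgt O).map ((shf O).map ι')) g.op σ).trans (congrArg _ hσ)
  refine J.superset_covering ?_ (equalizerSieve_unitMap_mem O PL _ _ hz)
  intro W h hh
  refine ⟨(PK.map h.op).hom y, ?_⟩
  rw [hom_map_apply]
  refine (hh : (PL.map h.op).hom _ = (PL.map h.op).hom _).trans ?_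
  exact (PL.map_comp_apply g.op h.op x).symm

/-- evaluation of sheaves of modules at an object -/
noncomputable abbrev ev (V : C) : Mod O ⥤ ModuleCat.{u} ((ringSh O).obj.obj (op V)) :=
  SheafOfModules.evaluation (ringSh O) (op V)

instance (V : C) : (ev O V).Additive :=
  inferInstanceAs ((SheafOfModules.forget (ringSh O) ⋙
    PresheafOfModules.evaluation _ (op V)).Additive)

section Terminal

variable {T : C} (hT : IsTerminal T)

/-- multiplication by a global section, as an endomorphism of the structure sheaf -/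
noncomputable def mulHom (r : O.obj.obj (op T)) : ModSite.unit O ⟶ ModSite.unit O :=
  (unitHomAddEquiv (ModSite.unit O) hT).symm r

lemma mulHom_app_one (r : O.obj.obj (op T)) :
    ((mulHom O hT r).val.app (op T)).hom (1 : O.obj.obj (op T)) = r :=
  (unitHomAddEquiv (ModSite.unit O) hT).apply_symm_apply r

/-- `μ_r` on sections over `V` is multiplication by `r|_V` -/
lemma mulHom_app_apply (r : O.obj.obj (op T)) {V : C} (g : V ⟶ T) (c : O.obj.obj (op V)) :
    ((mulHom O hT r).val.app (op V)).hom c = c * (O.obj.map g.op).hom r := by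
  have h1 : ((mulHom O hT r).val.app (op V)).hom c =
      c • ((mulHom O hT r).val.app (op V)).hom (1 : O.obj.obj (op V)) := by
    rw [← map_smul]
    congr 1
    exact (mul_one c).symm
  have h2 : ((mulHom O hT r).val.app (op V)).hom (1 : O.obj.obj (op V)) =
      (O.obj.map g.op).hom r := by
    have h := PresheafOfModules.naturality_apply (mulHom O hT r).val g.op
      (1 : O.obj.obj (op T))
    rw [mulHom_app_one] at h
    refine Eq.trans ?_ h
    congr 1
    exact (map_one (O.obj.map g.op).hom).symm
  rw [h1, h2]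
  rfl

/-- a morphism `unit ⟶ M` acts on sections by `c ↦ c • (image of 1)` -/
lemma unitHom_app_apply {M : Mod O} (φ : ModSite.unit O ⟶ M) (V : C) (c : O.obj.obj (op V)) :
    (φ.val.app (op V)).hom c = c • (φ.val.app (op V)).hom (1 : O.obj.obj (op V)) := by
  rw [← map_smul]
  congr 1
  exact (mul_one c).symm

instance : HasFiniteBiproducts (Mod O) := HasFiniteBiproducts.of_hasFiniteProducts

variable (n m : ℕ)

/-- `O^n` -/
noncomputable abbrev pw : Mod O := ⨁ fun _ : Fin n => ModSite.unit O

/-- the matrix map `O^n ⟶ O^m` -/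
noncomputable def matHom (f : Fin m → Fin n → O.obj.obj (op T)) : pw O n ⟶ pw O m :=
  biproduct.matrix fun j k => mulHom O hT (f k j)

/-- the basis sections of `O^n` over `V` -/
noncomputable def bas (V : C) (j : Fin n) : (pw O n).val.obj (op V) :=
  ((biproduct.ι (fun _ : Fin n => ModSite.unit O) j).val.app (op V)).hom (1 : O.obj.obj (op V))

/-- the coordinate functionals on sections of `O^n` -/
noncomputable def coord (V : C) (j : Fin n) (ℓ : (pw O n).val.obj (op V)) : O.obj.obj (op V) :=
  ((biproduct.π (fun _ : Fin n => ModSite.unit O) j).val.app (op V)).hom ℓ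

lemma coord_bas (V : C) (j j' : Fin n) :
    coord O n V j (bas O n V j') = if j' = j then 1 else 0 := by
  have h := biproduct.ι_π (fun _ : Fin n => ModSite.unit O) j' j
  have h' := congrArg (fun φ : ModSite.unit O ⟶ ModSite.unit O =>
    (φ.val.app (op V)).hom (1 : O.obj.obj (op V))) h
  refine Eq.trans ?_ (h'.trans ?_)
  · rfl
  · split_ifs with hj
    · subst hj
      rfl
    · rfl

/-- evaluation of a finite sum of morphisms on a section -/
lemma sum_val_app_apply {M N : Mod O} {ι : Type*} (s : Finset ι) (φ : ι → (M ⟶ N)) (V : C)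
    (x : M.val.obj (op V)) :
    ((∑ i ∈ s, φ i).val.app (op V)).hom x = ∑ i ∈ s, ((φ i).val.app (op V)).hom x := by
  have h : (ev O V).map (∑ i ∈ s, φ i) = ∑ i ∈ s, (ev O V).map (φ i) := Functor.map_sum _ _ _
  have h' := congrArg (fun ψ => ψ.hom x) h
  refine h'.trans ?_
  rw [ModuleCat.hom_sum, LinearMap.sum_apply]
  rfl

lemma bas_map {V W : C} (g : W ⟶ V) (j : Fin n) :
    ((pw O n).val.map g.op).hom (bas O n V j) = bas O n W j := by
  have h := PresheafOfModules.naturality_apply
    (biproduct.ι (fun _ : Fin n => ModSite.unit O) j).val g.op (1 : O.obj.obj (op V))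
  refine h.symm.trans ?_
  unfold bas
  congr 1
  exact map_one (O.obj.map g.op).hom

include hT in
lemma matHom_bas (f : Fin m → Fin n → O.obj.obj (op T)) {V : C} (g : V ⟶ T) (j : Fin n) :
    ((matHom O hT n m f).val.app (op V)).hom (bas O n V j) =
      ∑ k, (O.obj.map g.op).hom (f k j) • bas O m V k := by
  have h1 : biproduct.ι (fun _ : Fin n => ModSite.unit O) j ≫ matHom O hT n m f =
      ∑ k, mulHom O hT (f k j) ≫ biproduct.ι (fun _ : Fin m => ModSite.unit O) k := by
    unfold matHom
    rw [biproduct.ι_matrix, biproduct.lift_eq]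
  have h2 := congrArg (fun φ : ModSite.unit O ⟶ pw O m =>
    (φ.val.app (op V)).hom (1 : O.obj.obj (op V))) h1
  refine Eq.trans ?_ (h2.trans ?_)
  · rfl
  · rw [sum_val_app_apply]
    refine Finset.sum_congr rfl fun k _ => ?_
    change ((biproduct.ι (fun _ : Fin m => ModSite.unit O) k).val.app (op V)).hom
      (((mulHom O hT (f k j)).val.app (op V)).hom (1 : O.obj.obj (op V))) = _
    rw [mulHom_app_apply O hT (f k j) g, one_mul, unitHom_app_apply]
    rfl

include hT in
lemma coord_matHom (f : Fin m → Fin n → O.obj.obj (op T)) {V : C} (g : V ⟶ T) (k : Fin m)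
    (ℓ : (pw O n).val.obj (op V)) :
    coord O m V k (((matHom O hT n m f).val.app (op V)).hom ℓ) =
      ∑ j, coord O n V j ℓ * (O.obj.map g.op).hom (f k j) := by
  have h1 : matHom O hT n m f ≫ biproduct.π (fun _ : Fin m => ModSite.unit O) k =
      ∑ j, biproduct.π (fun _ : Fin n => ModSite.unit O) j ≫ mulHom O hT (f k j) := by
    unfold matHom
    rw [biproduct.matrix_π, biproduct.desc_eq]
  have h2 := congrArg (fun φ : pw O n ⟶ ModSite.unit O => (φ.val.app (op V)).hom ℓ) h1
  refine Eq.trans ?_ (h2.trans ?_)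
  · rfl
  · rw [sum_val_app_apply]
    refine Finset.sum_congr rfl fun j _ => ?_
    exact mulHom_app_apply O hT (f k j) g _

include hT in
/-- **Matrix form of the equational criterion** (on a site with a terminal object `T`): for `F`
flat, relations `∑_j f k j • s j = 0` (`k < m`) between sections over `T` are locally trivial. -/
theorem exists_trivialisation (F : Mod O) (hF : IsFlat F)
    (f : Fin m → Fin n → O.obj.obj (op T)) (s : Fin n → sect F T)
    (hrel : ∀ k, ∑ j, f k j • s j = 0) :
    ∃ S ∈ J T, ∀ ⦃V : C⦄ (g : V ⟶ T), S g →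
      ∃ (l : ℕ) (t : Fin l → sect F V) (a : Fin n → Fin l → O.obj.obj (op V)),
        (∀ j, (F.val.map g.op).hom (s j) = ∑ k', a j k' • t k') ∧
        (∀ k k', ∑ j, a j k' * (O.obj.map g.op).hom (f k j) = 0) := by
  classical
  let α := matHom O hT n m f
  let PL : PMod O := (fgt O).obj (pw O n) ⊗ (fgt O).obj F
  let x : PL.obj (op T) := ∑ j, bas O n T j ⊗ₜ[O.obj.obj (op T)] s j
  have hx : (((fgt O).map α ▷ (fgt O).obj F).app (op T)).hom x = 0 := by
    change (((fgt O).map α ▷ (fgt O).obj F).app (op T)).hom
      (∑ j, bas O n T j ⊗ₜ[O.obj.obj (op T)] s j) = 0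
    rw [map_sum]
    have h1 : ∀ j, (((fgt O).map α ▷ (fgt O).obj F).app (op T)).hom
        (bas O n T j ⊗ₜ[O.obj.obj (op T)] s j) =
        ∑ k, bas O m T k ⊗ₜ[O.obj.obj (op T)] (f k j • s j) := by
      intro j
      refine (whiskerRight_tmul ((fgt O).map α) ((fgt O).obj F) (op T) (bas O n T j) (s j)).trans ?_
      change ((α.val.app (op T)).hom (bas O n T j)) ⊗ₜ[O.obj.obj (op T)] s j = _
      rw [matHom_bas O hT n m f (𝟙 T) j, TensorProduct.sum_tmul]
      refine Finset.sum_congr rfl fun k _ => ?_
      rw [TensorProduct.smul_tmul]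
      congr 2
      rw [op_id, O.obj.map_id]
      rfl
    refine (Finset.sum_congr rfl fun j _ => h1 j).trans ?_
    refine Finset.sum_comm.trans ?_
    refine Finset.sum_eq_zero fun k _ => ?_
    refine (TensorProduct.tmul_sum (bas O m T k) Finset.univ fun j => f k j • s j).symm.trans ?_
    rw [hrel k]
    exact TensorProduct.tmul_zero _ _
  refine ⟨_, exists_local_lift O F hF α T x hx, ?_⟩
  rintro V g ⟨y, hy⟩
  obtain ⟨l, κ, t, rfl⟩ := TensorProduct.exists_sum_tmul_eq y
  let ι := kernel.ι α
  refine ⟨l, t, fun j k' => coord O n V j ((ι.val.app (op V)).hom (κ k')), ?_, ?_⟩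
  · intro j
    let πj : (pw O n).val.obj (op V) →ₗ[O.obj.obj (op V)] O.obj.obj (op V) :=
      ((biproduct.π (fun _ : Fin n => ModSite.unit O) j).val.app (op V)).hom
    let evj : ((pw O n).val.obj (op V)) ⊗[O.obj.obj (op V)] (F.val.obj (op V))
        →ₗ[O.obj.obj (op V)] F.val.obj (op V) :=
      TensorProduct.lift ((LinearMap.lsmul (O.obj.obj (op V)) (F.val.obj (op V))).comp πj)
    have hev : ∀ (ℓ : (pw O n).val.obj (op V)) (t' : F.val.obj (op V)),
        evj (ℓ ⊗ₜ[O.obj.obj (op V)] t') = coord O n V j ℓ • t' := fun ℓ t' => rfl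
    have hL : (((fgt O).map ι ▷ (fgt O).obj F).app (op V)).hom
        (∑ k', κ k' ⊗ₜ[O.obj.obj (op V)] t k') =
        ∑ k', ((ι.val.app (op V)).hom (κ k')) ⊗ₜ[O.obj.obj (op V)] t k' := by
      rw [map_sum]
      rfl
    let sV : Fin n → F.val.obj (op V) := fun j' => (F.val.map g.op).hom (s j')
    have hR : (∑ j', bas O n V j' ⊗ₜ[O.obj.obj (op V)] sV j' : PL.obj (op V)) =
        (PL.map g.op).hom x := by
      change _ = (PL.map g.op).hom (∑ j', bas O n T j' ⊗ₜ[O.obj.obj (op T)] s j')
      rw [map_sum]
      refine Finset.sum_congr rfl fun j' _ => ?_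
      refine Eq.trans ?_ (Groth.Agent.Lib.Helper94.ModTensorW.map_tmul
        (P := (fgt O).obj (pw O n)) ((fgt O).obj F) g.op (bas O n T j') (s j')).symm
      congr 1
      exact (bas_map O n g j').symm
    have h3 := congrArg evj (hL.symm.trans (hy.trans hR.symm))
    have e1 : evj (∑ k', ((ι.val.app (op V)).hom (κ k')) ⊗ₜ[O.obj.obj (op V)] t k') =
        ∑ k', coord O n V j ((ι.val.app (op V)).hom (κ k')) • t k' :=
      (map_sum evj _ _).trans (Finset.sum_congr rfl fun k' _ => hev _ _)
    have e2 : evj (∑ j', bas O n V j' ⊗ₜ[O.obj.obj (op V)] sV j') = sV j := by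
      refine (map_sum evj _ _).trans ?_
      refine (Finset.sum_congr rfl fun j' _ => (hev _ _).trans
        (congrArg (fun c => c • sV j') (coord_bas O n V j j'))).trans ?_
      refine (Finset.sum_eq_single j (fun b _ hb => ?_) (fun h => absurd (Finset.mem_univ j) h)).trans ?_
      · change (if b = j then (1 : O.obj.obj (op V)) else 0) • sV b = 0
        rw [if_neg hb, zero_smul]
      · rw [if_pos rfl, one_smul]
    exact e2.symm.trans (h3.symm.trans e1)
  · intro k k'
    rw [← coord_matHom O hT n m f g k]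
    have h0 : ι ≫ α = 0 := kernel.condition α
    have h1 := congrArg (fun φ : kernel α ⟶ pw O m => (φ.val.app (op V)).hom (κ k')) h0
    have h2 : ((α.val.app (op V)).hom ((ι.val.app (op V)).hom (κ k'))) = 0 := h1
    rw [h2]
    exact map_zero _

end Terminal

section General

variable (n m : ℕ)

/-- **Matrix form of the equational criterion of flatness** on a small ringed site. -/
theorem exists_trivialisation_over (F : Mod O) (hF : IsFlat F) (U : C)
    (f : Fin m → Fin n → O.obj.obj (op U)) (s : Fin n → sect F U)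
    (hrel : ∀ k, ∑ j, f k j • s j = 0) :
    ∃ S ∈ J U, ∀ ⦃V : C⦄ (g : V ⟶ U), S g →
      ∃ (l : ℕ) (t : Fin l → sect F V) (a : Fin n → Fin l → O.obj.obj (op V)),
        (∀ j, (F.val.map g.op).hom (s j) = ∑ k', a j k' • t k') ∧
        (∀ k k', ∑ j, a j k' * (O.obj.map g.op).hom (f k j) = 0) := by
  obtain ⟨S', hS', h⟩ := exists_trivialisation (O.over U) (Over.mkIdTerminal (X := U)) n m
    ((restr O U).obj F) (isFlat_restr U F hF) f s hrel
  refine ⟨Sieve.overEquiv _ S', (GrothendieckTopology.mem_over_iff J S').mp hS', ?_⟩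
  intro V g hg
  rw [Sieve.overEquiv_iff] at hg
  obtain ⟨l, t, a, h1, h2⟩ := h _ hg
  exact ⟨l, t, a, h1, h2⟩

end General

end Groth.Agent.Lib.Helper94.FlatEq

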