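import Groth.Agent.Lib.Helper94.FlatEq

universe u

open CategoryTheory CategoryTheory.Limits MonoidalCategory Opposite TensorProduct

namespace Groth.Agent.Lib.Helper94.FlatFactor

open ModSite Groth.Agent.Lib.Helper94.ModTensorW Groth.Agent.Lib.Helper94.ModTensor
  Groth.Agent.Lib.Helper94.ModFlat Groth.Agent.Lib.Helper94.JShriek Groth.Agent.Lib.Helper94.FlatEq

variable {C : Type u} [SmallCategory C] {J : GrothendieckTopology C} (O : Sheaf J CommRingCat.{u})

section Bicone

variable {O}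
variable {ι : Type*} [Fintype ι] [DecidableEq ι] (b : Bicone (fun _ : ι => ModSite.unit O))

/-- basis sections -/
noncomputable def bbas (V : C) (j : ι) : b.pt.val.obj (op V) :=
  ((b.ι j).val.app (op V)).hom (1 : O.obj.obj (op V))

/-- coordinates -/
noncomputable def bcoord (V : C) (j : ι) (ℓ : b.pt.val.obj (op V)) : O.obj.obj (op V) :=
  ((b.π j).val.app (op V)).hom ℓ

lemma bcoord_bbas (V : C) (j j' : ι) :
    bcoord b V j (bbas b V j') = if j' = j then 1 else 0 := by
  have h := b.ι_π j' j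
  have h' := congrArg (fun φ : ModSite.unit O ⟶ ModSite.unit O =>
    (φ.val.app (op V)).hom (1 : O.obj.obj (op V))) h
  refine Eq.trans ?_ (h'.trans ?_)
  · rfl
  · split_ifs with hj
    · subst hj
      rfl
    · rfl

lemma bbas_map {V W : C} (g : W ⟶ V) (j : ι) :
    (b.pt.val.map g.op).hom (bbas b V j) = bbas b W j := by
  have h := PresheafOfModules.naturality_apply (b.ι j).val g.op (1 : O.obj.obj (op V))
  refine h.symm.trans ?_
  unfold bbas
  congr 1
  exact map_one (O.obj.map g.op).hom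

variable (ht : ∑ j, b.π j ≫ b.ι j = 𝟙 b.pt)

include ht in
lemma btotal (V : C) (ℓ : b.pt.val.obj (op V)) :
    ℓ = ∑ j, bcoord b V j ℓ • bbas b V j := by
  have h := congrArg (fun φ : b.pt ⟶ b.pt => (φ.val.app (op V)).hom ℓ) ht
  refine Eq.trans ?_ (h.symm.trans ?_)
  · rfl
  · rw [sum_val_app_apply]
    refine Finset.sum_congr rfl fun j _ => ?_
    exact unitHom_app_apply O (b.ι j) V _

include ht in
lemma hom_apply_eq {N : Mod O} (ψ : b.pt ⟶ N) (V : C) (ℓ : b.pt.val.obj (op V)) :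
    (ψ.val.app (op V)).hom ℓ = ∑ j, bcoord b V j ℓ • (ψ.val.app (op V)).hom (bbas b V j) := by
  conv_lhs => rw [btotal b ht V ℓ]
  rw [map_sum]
  refine Finset.sum_congr rfl fun j _ => ?_
  rw [map_smul]

variable {T : C} (hT : IsTerminal T)

include ht hT in
lemma bhom_ext {N : Mod O} (ψ ψ' : b.pt ⟶ N)
    (h : ∀ j, (ψ.val.app (op T)).hom (bbas b T j) = (ψ'.val.app (op T)).hom (bbas b T j)) :
    ψ = ψ' := by
  have h1 : ∀ j, b.ι j ≫ ψ = b.ι j ≫ ψ' := fun j =>
    (unitHomAddEquiv N hT).injective (h j)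
  calc ψ = (∑ j, b.π j ≫ b.ι j) ≫ ψ := by rw [ht, Category.id_comp]
    _ = ∑ j, b.π j ≫ b.ι j ≫ ψ := by
        rw [Preadditive.sum_comp]
        exact Finset.sum_congr rfl fun j _ => Category.assoc _ _ _
    _ = ∑ j, b.π j ≫ b.ι j ≫ ψ' := Finset.sum_congr rfl fun j _ => by rw [h1 j]
    _ = (∑ j, b.π j ≫ b.ι j) ≫ ψ' := by
        rw [Preadditive.sum_comp]
        exact Finset.sum_congr rfl fun j _ => (Category.assoc _ _ _).symm
    _ = ψ' := by rw [ht, Category.id_comp]

/-- the morphism out of a finite free module with prescribed values on the basis -/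
noncomputable def bdesc {N : Mod O} (x : ι → N.val.obj (op T)) : b.pt ⟶ N :=
  ∑ j, b.π j ≫ (unitHomAddEquiv N hT).symm (x j)

lemma bdesc_bbas {N : Mod O} (x : ι → N.val.obj (op T)) (j : ι) :
    ((bdesc b hT x).val.app (op T)).hom (bbas b T j) = x j := by
  have h1 : b.ι j ≫ bdesc b hT x = (unitHomAddEquiv N hT).symm (x j) := by
    unfold bdesc
    rw [Preadditive.comp_sum]
    rw [Finset.sum_eq_single j]
    · rw [← Category.assoc, b.ι_π, dif_pos rfl]
      simp
    · intro j' _ hj'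
      rw [← Category.assoc, b.ι_π, dif_neg (Ne.symm hj'), zero_comp]
    · intro h
      exact absurd (Finset.mem_univ j) h
  have h2 := congrArg (unitHomAddEquiv N hT) h1
  rw [AddEquiv.apply_symm_apply] at h2
  exact h2

end Bicone

section TheoremA

variable {O}
variable {ιn ιm κ : Type*} [Fintype ιn] [DecidableEq ιn] [Fintype ιm] [DecidableEq ιm]
  [Fintype κ] [DecidableEq κ]
  (bn : Bicone (fun _ : ιn => ModSite.unit O)) (htn : ∑ j, bn.π j ≫ bn.ι j = 𝟙 bn.pt)
  (bm : Bicone (fun _ : ιm => ModSite.unit O)) (htm : ∑ j, bm.π j ≫ bm.ι j = 𝟙 bm.pt)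
  (bl : Bicone (fun _ : κ => ModSite.unit O)) (htl : ∑ j, bl.π j ≫ bl.ι j = 𝟙 bl.pt)
  {T : C} (hT : IsTerminal T)

include htn htm hT in
/-- **Theorem A**: a finitely presented module `M = coker ρ` and a map `φ : M ⟶ H` whose values
on the generators are trivialised by `(t, a)` compatibly with the relations: `φ` factors through a
finite free module. -/
theorem exists_factor_of_data {M H : Mod O} (ρ : bm.pt ⟶ bn.pt) (π : bn.pt ⟶ M) (w : ρ ≫ π = 0)
    (hc : IsColimit (CokernelCofork.ofπ π w)) (φ : M ⟶ H)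
    (t : κ → H.val.obj (op T)) (a : ιn → κ → O.obj.obj (op T))
    (h1 : ∀ j, ((π ≫ φ).val.app (op T)).hom (bbas bn T j) = ∑ k, a j k • t k)
    (h2 : ∀ r k, ∑ j, a j k * bcoord bn T j ((ρ.val.app (op T)).hom (bbas bm T r)) = 0) :
    ∃ (a' : M ⟶ bl.pt) (b' : bl.pt ⟶ H), a' ≫ b' = φ := by
  classical
  let a'' : bn.pt ⟶ bl.pt := bdesc bn hT fun j => ∑ k, a j k • bbas bl T k
  let b' : bl.pt ⟶ H := bdesc bl hT t
  have e1 : a'' ≫ b' = π ≫ φ := by
    refine bhom_ext bn htn hT _ _ fun j => ?_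
    rw [h1 j]
    change (b'.val.app (op T)).hom ((a''.val.app (op T)).hom (bbas bn T j)) = _
    rw [bdesc_bbas, map_sum]
    refine Finset.sum_congr rfl fun k _ => ?_
    rw [map_smul, bdesc_bbas]
  have e2 : ρ ≫ a'' = 0 := by
    refine bhom_ext bm htm hT _ _ fun r => ?_
    change (a''.val.app (op T)).hom ((ρ.val.app (op T)).hom (bbas bm T r)) =
      ((0 : bm.pt ⟶ bl.pt).val.app (op T)).hom (bbas bm T r)
    rw [hom_apply_eq bn htn a'' T]
    have hz : ((0 : bm.pt ⟶ bl.pt).val.app (op T)).hom (bbas bm T r) = 0 := rfl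
    rw [hz]
    simp only [a'', bdesc_bbas]
    simp only [Finset.smul_sum, smul_smul]
    rw [Finset.sum_comm]
    refine Finset.sum_eq_zero fun k _ => ?_
    rw [← Finset.sum_smul]
    have := h2 r k
    rw [Finset.sum_congr rfl fun j _ => mul_comm (a j k) _] at this
    rw [this, zero_smul]
  let a' : M ⟶ bl.pt := hc.desc (CokernelCofork.ofπ a'' e2)
  have e3 : π ≫ a' = a'' := hc.fac (CokernelCofork.ofπ a'' e2) WalkingParallelPair.one
  refine ⟨a', b', ?_⟩
  have : Epi π := epi_of_isColimit_cofork hc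
  rw [← cancel_epi π, ← Category.assoc, e3, e1]

end TheoremA

end Groth.Agent.Lib.Helper94.FlatFactor
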