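import Groth.Agent.Lib.Helper94.FlatFactor
import Groth.Agent.Lib.Helper94.JShriekExt

universe u

open CategoryTheory CategoryTheory.Limits MonoidalCategory Opposite TensorProduct

namespace Groth.Agent.Lib.Helper94.FlatFactor

open ModSite Groth.Agent.Lib.Helper94.ModTensorW Groth.Agent.Lib.Helper94.ModTensor
  Groth.Agent.Lib.Helper94.ModFlat Groth.Agent.Lib.Helper94.JShriek Groth.Agent.Lib.Helper94.FlatEq

variable {C : Type u} [SmallCategory C] {J : GrothendieckTopology C} (O : Sheaf J CommRingCat.{u})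

section OverMap

variable {V Y : C} (g : V ⟶ Y)

/-- restriction from `C/Y` to `C/V` along `g : V ⟶ Y` -/
noncomputable abbrev OM : Mod (O.over Y) ⥤ Mod (O.over V) :=
  SheafOfModules.overMap (ringSh O) g

instance : (OM O g).Additive where

instance : PreservesColimitsOfSize.{u, u} (OM O g) := by
  have h1 : PreservesColimitsOfSize.{u, u}
      (OM O g ⋙ SheafOfModules.toSheaf (ringSh (O.over V))) := by
    have e : OM O g ⋙ SheafOfModules.toSheaf (ringSh (O.over V)) =
        SheafOfModules.toSheaf (ringSh (O.over Y)) ⋙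
          (Over.map g).sheafPushforwardContinuous AddCommGrpCat.{u} (J.over V) (J.over Y) := rfl
    rw [e]
    have := Groth.Agent.Lib.Helper94.ModSiteBasic.toSheaf_preservesColimitsOfSize (ringSh (O.over Y))
    have : PreservesColimitsOfSize.{u, u}
        ((Over.map g).sheafPushforwardContinuous AddCommGrpCat.{u} (J.over V) (J.over Y)) :=
      ((Over.map g).sheafAdjunctionCocontinuous AddCommGrpCat.{u} (J.over V)
        (J.over Y)).leftAdjoint_preservesColimits
    infer_instance
  have := Groth.Agent.Lib.Helper94.ModSiteBasic.toSheaf_preservesColimitsOfSize (ringSh (O.over V))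
  have : ReflectsColimitsOfSize.{u, u} (SheafOfModules.toSheaf (ringSh (O.over V))) :=
    reflectsColimits_of_reflectsIsomorphisms
  exact preservesColimits_of_reflects_of_preserves _ (SheafOfModules.toSheaf (ringSh (O.over V)))

variable {ι : Type*} [Fintype ι] [DecidableEq ι]

/-- restriction of a bicone of structure sheaves -/
noncomputable def mapB (b : Bicone (fun _ : ι => ModSite.unit (O.over Y))) :
    Bicone (fun _ : ι => ModSite.unit (O.over V)) where
  pt := (OM O g).obj b.pt
  π j := (OM O g).map (b.π j)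
  ι j := (OM O g).map (b.ι j)
  ι_π j j' := by
    have h := congrArg (fun φ => (OM O g).map φ) (b.ι_π j j')
    refine ((OM O g).map_comp _ _).symm.trans (h.trans ?_)
    split_ifs with hj
    · subst hj
      exact (OM O g).map_id _
    · exact (OM O g).map_zero _ _

lemma mapB_total (b : Bicone (fun _ : ι => ModSite.unit (O.over Y)))
    (ht : ∑ j, b.π j ≫ b.ι j = 𝟙 b.pt) :
    ∑ j, (mapB O g b).π j ≫ (mapB O g b).ι j = 𝟙 (mapB O g b).pt := by
  have h := congrArg (fun φ => (OM O g).map φ) ht
  refine Eq.trans ?_ (h.trans ((OM O g).map_id _))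
  change _ = (OM O g).map (∑ j, b.π j ≫ b.ι j)
  rw [Functor.map_sum]
  exact Finset.sum_congr rfl fun j _ => ((OM O g).map_comp _ _).symm

lemma bbas_mapB (b : Bicone (fun _ : ι => ModSite.unit (O.over Y))) (W : Over V) (j : ι) :
    bbas (mapB O g b) W j = bbas b ((Over.map g).obj W) j := rfl

lemma bcoord_mapB (b : Bicone (fun _ : ι => ModSite.unit (O.over Y))) (W : Over V) (j : ι)
    (ℓ : (mapB O g b).pt.val.obj (op W)) :
    bcoord (mapB O g b) W j ℓ = bcoord b ((Over.map g).obj W) j ℓ := rfl

end OverMap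

section TheoremC

variable {V Y : C} (g : V ⟶ Y)
variable {ιn ιm : Type*} [Fintype ιn] [DecidableEq ιn] [Fintype ιm] [DecidableEq ιm]
  (bn : Bicone (fun _ : ιn => ModSite.unit (O.over Y))) (htn : ∑ j, bn.π j ≫ bn.ι j = 𝟙 bn.pt)
  (bm : Bicone (fun _ : ιm => ModSite.unit (O.over Y))) (htm : ∑ j, bm.π j ≫ bm.ι j = 𝟙 bm.pt)

/-- the free module of rank `l` on `C/V` as a bicone -/
noncomputable def freeB (l : ℕ) : Bicone (fun _ : ULift.{u} (Fin l) => ModSite.unit (O.over V)) :=
  Bicone.ofColimitCocone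
    (SheafOfModules.isColimitFreeCofan (R := ringSh (O.over V)) (ULift.{u} (Fin l)))

lemma freeB_total (l : ℕ) :
    ∑ j, (freeB O (V := V) l).π j ≫ (freeB O (V := V) l).ι j = 𝟙 (freeB O (V := V) l).pt :=
  CategoryTheory.Limits.IsBilimit.total (biconeIsBilimitOfColimitCoconeOfIsColimit _)

include htn htm in
/-- **Theorem C**: trivialisation data over `g : V ⟶ Y` for a module presented on `C/Y` give a
factorisation over `C/V`. -/
theorem exists_factor_over {M : Mod (O.over Y)} (ρ : bm.pt ⟶ bn.pt) (π : bn.pt ⟶ M)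
    (w : ρ ≫ π = 0) (hc : IsColimit (CokernelCofork.ofπ π w)) (H : Mod O)
    (φY : M ⟶ (restr O Y).obj H) (l : ℕ) (t : Fin l → sect H V)
    (a : ιn → Fin l → O.obj.obj (op V))
    (h1 : ∀ j, (H.val.map g.op).hom
        (((π ≫ φY).val.app (op (Over.mk (𝟙 Y)))).hom (bbas bn (Over.mk (𝟙 Y)) j)) =
      ∑ k, a j k • t k)
    (h2 : ∀ r k, ∑ j, a j k * (O.obj.map g.op).hom
        (bcoord bn (Over.mk (𝟙 Y)) j
          ((ρ.val.app (op (Over.mk (𝟙 Y)))).hom (bbas bm (Over.mk (𝟙 Y)) r))) = 0) :
    ∃ (a' : (OM O g).obj M ⟶ SheafOfModules.free (ULift.{u} (Fin l)))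
      (b' : SheafOfModules.free (ULift.{u} (Fin l)) ⟶ (OM O g).obj ((restr O Y).obj H)),
      a' ≫ b' = (OM O g).map φY := by
  classical
  have w' : (OM O g).map ρ ≫ (OM O g).map π = 0 := by
    rw [← Functor.map_comp, w, Functor.map_zero]
  have hc' : IsColimit (CokernelCofork.ofπ ((OM O g).map π) w') :=
    CokernelCofork.mapIsColimit _ hc (OM O g)
  let TY : Over Y := Over.mk (𝟙 Y)
  let TV : Over V := Over.mk (𝟙 V)
  let W₁ : Over Y := (Over.map g).obj TV
  let u : W₁ ⟶ TY := Over.homMk g (by simp [W₁, TV, TY])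
  refine exists_factor_of_data (mapB O g bn) (mapB_total O g bn htn) (mapB O g bm)
    (mapB_total O g bm htm) (freeB O (V := V) l) (Over.mkIdTerminal (X := V))
    ((OM O g).map ρ) ((OM O g).map π) w' hc' ((OM O g).map φY)
    (fun k => t k.down) (fun j k => a j k.down) ?_ ?_
  · intro j
    have e1 : (((OM O g).map π ≫ (OM O g).map φY).val.app (op TV)).hom
        (bbas (mapB O g bn) TV j) =
        ((π ≫ φY).val.app (op W₁)).hom (bbas bn W₁ j) := rfl
    have e2 : bbas bn W₁ j = (bn.pt.val.map u.op).hom (bbas bn TY j) := (bbas_map bn u j).symm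
    have e3 := PresheafOfModules.naturality_apply (π ≫ φY).val u.op (bbas bn TY j)
    refine e1.trans ?_
    rw [e2]
    refine e3.trans ?_
    refine (h1 j).trans ?_
    exact (Equiv.sum_comp Equiv.ulift (fun k => a j k • t k)).symm
  · intro r k
    have e1 : bcoord (mapB O g bn) TV = bcoord bn W₁ := rfl
    have e2 : (((OM O g).map ρ).val.app (op TV)).hom (bbas (mapB O g bm) TV r) =
        (ρ.val.app (op W₁)).hom (bbas bm W₁ r) := rfl
    have e3 : bbas bm W₁ r = (bm.pt.val.map u.op).hom (bbas bm TY r) := (bbas_map bm u r).symm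
    have e4 := PresheafOfModules.naturality_apply ρ.val u.op (bbas bm TY r)
    have e5 : ∀ (j : ιn) (x : bn.pt.val.obj (op TY)),
        bcoord bn W₁ j ((bn.pt.val.map u.op).hom x) = (O.obj.map g.op).hom (bcoord bn TY j x) :=
      fun j x => PresheafOfModules.naturality_apply (bn.π j).val u.op x
    have key : ∀ j, bcoord (mapB O g bn) TV j
        ((((OM O g).map ρ).val.app (op TV)).hom (bbas (mapB O g bm) TV r)) =
        (O.obj.map g.op).hom (bcoord bn TY j ((ρ.val.app (op TY)).hom (bbas bm TY r))) := by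
      intro j
      change bcoord bn W₁ j ((ρ.val.app (op W₁)).hom (bbas bm W₁ r)) = _
      rw [e3]
      exact (congrArg (bcoord bn W₁ j) e4).trans (e5 j _)
    exact (Finset.sum_congr rfl fun j _ =>
      congrArg (fun c : O.obj.obj (op V) => a j k.down * c) (key j)).trans (h2 r k.down)

end TheoremC

end Groth.Agent.Lib.Helper94.FlatFactor
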