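import Groth.Agent.Lib.Helper94.FlatFactor2

universe u

open CategoryTheory CategoryTheory.Limits MonoidalCategory Opposite TensorProduct

namespace Groth.Agent.Lib.Helper94.FlatFactor

open ModSite Groth.Agent.Lib.Helper94.ModTensorW Groth.Agent.Lib.Helper94.ModTensor
  Groth.Agent.Lib.Helper94.ModFlat Groth.Agent.Lib.Helper94.JShriek Groth.Agent.Lib.Helper94.FlatEq

variable {C : Type u} [SmallCategory C] {J : GrothendieckTopology C} (O : Sheaf J CommRingCat.{u})

/-- the free module on a finite type as a bicone -/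
noncomputable def freeBI (Y : C) (I : Type u) [Fintype I] :
    Bicone (fun _ : I => ModSite.unit (O.over Y)) :=
  Bicone.ofColimitCocone (SheafOfModules.isColimitFreeCofan (R := ringSh (O.over Y)) I)

lemma freeBI_total (Y : C) (I : Type u) [Fintype I] :
    ∑ j, (freeBI O Y I).π j ≫ (freeBI O Y I).ι j = 𝟙 (freeBI O Y I).pt :=
  CategoryTheory.Limits.IsBilimit.total (biconeIsBilimitOfColimitCoconeOfIsColimit _)

/-- **Lemma D**: if `F|_Y` has a finite presentation (as a module on `C/Y`), `H` is flat and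
`φ : F ⟶ H`, then `φ` factors through a finite free module locally on `Y`. -/
theorem exists_factor_of_presentation (F H : Mod O) (hH : IsFlat H) (φ : F ⟶ H) (Y : C)
    (P : ((restr O Y).obj F).Presentation) [P.IsFinite] :
    ∃ S ∈ J Y, ∀ ⦃V : C⦄ (g : V ⟶ Y), S g →
      ∃ (l : ℕ) (a : (restr O V).obj F ⟶ SheafOfModules.free (ULift.{u} (Fin l)))
        (b : SheafOfModules.free (ULift.{u} (Fin l)) ⟶ (restr O V).obj H),
        a ≫ b = (restr O V).map φ := by
  classical
  have : Finite P.generators.I := SheafOfModules.GeneratingSections.IsFiniteType.finite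
  have : Finite P.relations.I := SheafOfModules.GeneratingSections.IsFiniteType.finite
  let _ : Fintype P.generators.I := Fintype.ofFinite _
  let _ : Fintype P.relations.I := Fintype.ofFinite _
  let bn := freeBI O Y P.generators.I
  let bm := freeBI O Y P.relations.I
  have htn := freeBI_total O Y P.generators.I
  have htm := freeBI_total O Y P.relations.I
  let ρ : bm.pt ⟶ bn.pt := (SheafOfModules.freeHomEquiv _).symm P.relations.s ≫ kernel.ι _
  let π : bn.pt ⟶ (restr O Y).obj F := P.generators.π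
  have w : ρ ≫ π = 0 := by
    change (_ ≫ kernel.ι _) ≫ P.generators.π = 0
    rw [Category.assoc, kernel.condition, comp_zero]
  have hc : IsColimit (CokernelCofork.ofπ π w) := P.isColimit
  let TY : Over Y := Over.mk (𝟙 Y)
  let φY : (restr O Y).obj F ⟶ (restr O Y).obj H := (restr O Y).map φ
  let n := Fintype.card P.generators.I
  let m := Fintype.card P.relations.I
  let en : P.generators.I ≃ Fin n := Fintype.equivFin _
  let em : P.relations.I ≃ Fin m := Fintype.equivFin _
  let s₀ : P.generators.I → sect H Y := fun j =>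
    ((π ≫ φY).val.app (op TY)).hom (bbas bn TY j)
  let f₀ : P.relations.I → P.generators.I → O.obj.obj (op Y) := fun r j =>
    bcoord bn TY j ((ρ.val.app (op TY)).hom (bbas bm TY r))
  have hrel₀ : ∀ r, ∑ j, f₀ r j • s₀ j = 0 := by
    intro r
    have h0 := hom_apply_eq bn htn (π ≫ φY) TY ((ρ.val.app (op TY)).hom (bbas bm TY r))
    have h1 : ((π ≫ φY).val.app (op TY)).hom ((ρ.val.app (op TY)).hom (bbas bm TY r)) = 0 := by
      have h2 : ρ ≫ π ≫ φY = 0 := by rw [← Category.assoc, w, zero_comp]
      exact congrArg (fun ψ : bm.pt ⟶ (restr O Y).obj H =>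
        (ψ.val.app (op TY)).hom (bbas bm TY r)) h2
    exact h0.symm.trans h1
  have hrel : ∀ k', ∑ j', f₀ (em.symm k') (en.symm j') • s₀ (en.symm j') = 0 := by
    intro k'
    exact (Equiv.sum_comp en.symm (fun j => f₀ (em.symm k') j • s₀ j)).trans (hrel₀ _)
  obtain ⟨S, hS, h⟩ := exists_trivialisation_over O n m H hH Y
    (fun k' j' => f₀ (em.symm k') (en.symm j')) (fun j' => s₀ (en.symm j')) hrel
  refine ⟨S, hS, ?_⟩
  intro V g hg
  obtain ⟨l, t, a, h1, h2⟩ := h g hg
  obtain ⟨a', b', hab⟩ := exists_factor_over O g bn htn bm htm ρ π w hc H φY l t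
    (fun j => a (en j))
    (fun j => by
      have := h1 (en j)
      rw [Equiv.symm_apply_apply] at this
      exact this)
    (fun r k => by
      have := h2 (em r) k
      rw [Equiv.symm_apply_apply] at this
      refine Eq.trans ?_ this
      exact (Equiv.sum_comp en.symm (fun j => a (en j) k *
        (O.obj.map g.op).hom (f₀ r j))).symm.trans
        (Finset.sum_congr rfl fun j' _ => by rw [Equiv.apply_symm_apply]))
  let e := SheafOfModules.overFunctorMap (ringSh O) g
  refine ⟨l, e.inv.app F ≫ a', b' ≫ e.hom.app H, ?_⟩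
  have hnat : (OM O g).map φY ≫ e.hom.app H = e.hom.app F ≫ (restr O V).map φ :=
    e.hom.naturality φ
  have e1 : (e.inv.app F ≫ a') ≫ b' ≫ e.hom.app H =
      e.inv.app F ≫ (a' ≫ b') ≫ e.hom.app H :=
    (Category.assoc _ _ _).trans
      (congrArg (fun t => e.inv.app F ≫ t) (Category.assoc _ _ _).symm)
  have e2 : e.inv.app F ≫ (a' ≫ b') ≫ e.hom.app H =
      e.inv.app F ≫ (OM O g).map φY ≫ e.hom.app H :=
    congrArg (fun t => e.inv.app F ≫ t ≫ e.hom.app H) hab
  have e3 : e.inv.app F ≫ (OM O g).map φY ≫ e.hom.app H =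
      e.inv.app F ≫ e.hom.app F ≫ (restr O V).map φ :=
    congrArg (fun t => e.inv.app F ≫ t) hnat
  have e4 : e.inv.app F ≫ e.hom.app F ≫ (restr O V).map φ = (restr O V).map φ :=
    (Category.assoc _ _ _).symm.trans
      ((congrArg (fun t => t ≫ (restr O V).map φ) (e.inv_hom_id_app F)).trans
        (Category.id_comp _))
  exact e1.trans (e2.trans (e3.trans e4))

/-- **S6167**: a morphism from a finitely presented module to a flat module factors locally
through a finite free module. -/
theorem exists_local_factor (F H : Mod O) [F.IsFinitePresentation] (hH : IsFlat H)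
    (φ : F ⟶ H) (X : C) :
    ∃ (ι : Type u) (Y : ι → C) (g : ∀ i, Y i ⟶ X), Sieve.ofArrows Y g ∈ J X ∧
      ∀ i, ∃ (n : ℕ) (a : (restr O (Y i)).obj F ⟶ SheafOfModules.free (ULift.{u} (Fin n)))
        (b : SheafOfModules.free (ULift.{u} (Fin n)) ⟶ (restr O (Y i)).obj H),
        a ≫ b = (restr O (Y i)).map φ := by
  obtain ⟨σ, hσ⟩ := SheafOfModules.IsFinitePresentation.exists_quasicoherentData.{u} F
  let Q : ∀ V : C, (V ⟶ X) → Prop := fun V _ =>
    ∃ (n : ℕ) (a : (restr O V).obj F ⟶ SheafOfModules.free (ULift.{u} (Fin n)))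
      (b : SheafOfModules.free (ULift.{u} (Fin n)) ⟶ (restr O V).obj H),
      a ≫ b = (restr O V).map φ
  let ι : Type u := Σ V : C, { g : V ⟶ X // Q V g }
  refine ⟨ι, fun i => i.1, fun i => i.2.1, ?_, fun i => i.2.2⟩
  refine J.transitive (σ.coversTop X) _ ?_
  rintro Y₁ g₁ ⟨i, ⟨h⟩⟩
  have : (σ.presentation i).IsFinite := hσ.isFinite_presentation i
  obtain ⟨S, hS, hfac⟩ := @exists_factor_of_presentation C _ J O F H hH φ (σ.X i)
    (σ.presentation i) this
  refine J.superset_covering ?_ (J.pullback_stable h hS)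
  intro V v hv
  have hq : Q V (v ≫ g₁) := hfac (v ≫ h) hv
  exact Sieve.ofArrows_mk (fun i : ι => i.1) (fun i : ι => i.2.1) ⟨V, ⟨v ≫ g₁, hq⟩⟩

end Groth.Agent.Lib.Helper94.FlatFactor
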