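import Groth.Agent.Lib.Helper94.CellRes
import Mathlib.Algebra.Homology.Functor
import Mathlib.Algebra.Homology.HomologicalComplexAbelian
import Mathlib.CategoryTheory.Abelian.GrothendieckAxioms.FunctorCategory

/-!
# Functorial cellular resolutions (helper94)

Namespace `Groth.Agent.Lib.Helper94.FunctorialRes`.

The (non functorial) cellular factorization theorem `CellRes.exists_cell_factorization` is applied
in the abelian category of functors `CochainComplex A ℤ ⥤ A` to the tautological complex of functors;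
this produces a *functorial* resolution `P ⟶ 𝟭` on `CochainComplex A ℤ` as soon as there is a
functorial cover `Fl ⟶ 𝟭` of the objects of `A` by "cells".
-/

universe v u

open CategoryTheory CategoryTheory.Limits HomologicalComplex CochainComplex ZeroObject

namespace Groth.Agent.Lib.Helper94.FunctorialRes

variable {A : Type u} [Category.{v} A] [Abelian A]

/-- the tautological complex of functors -/
def taut : CochainComplex (CochainComplex A ℤ ⥤ A) ℤ where
  X n := eval A (ComplexShape.up ℤ) n
  d i j := { app := fun K => K.d i j, naturality := fun K L f => f.comm i j }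
  shape i j h := by ext K; exact K.shape i j h
  d_comp_d' i j k _ _ := by ext K; exact K.d_comp_d i j k

/-- complex with zero differentials -/
def zeroCx {B : Type*} [Category B] [Preadditive B] (Y : ℤ → B) : CochainComplex B ℤ where
  X := Y
  d _ _ := 0
  shape _ _ _ := rfl
  d_comp_d' _ _ _ _ _ := zero_comp

/-- evaluation of a complex of functors -/
abbrev evd (d : CochainComplex A ℤ) :
    CochainComplex (CochainComplex A ℤ ⥤ A) ℤ ⥤ CochainComplex A ℤ :=
  ((evaluation (CochainComplex A ℤ) A).obj d).mapHomologicalComplex (ComplexShape.up ℤ)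

/-- the tautological complex of functors is the identity functor -/
def tautIso : (taut (A := A)).asFunctor ≅ 𝟭 (CochainComplex A ℤ) :=
  NatIso.ofComponents (fun K => Hom.isoOfComponents (fun _ => Iso.refl _)
    (by intro i j _; exact (Category.id_comp _).trans (Category.comp_id _).symm))
    (by intro K L f; ext i; exact (Category.comp_id _).trans (Category.id_comp _).symm)

instance (d : CochainComplex A ℤ) :
    PreservesFiniteLimits ((evaluation (CochainComplex A ℤ) A).obj d) :=
  ⟨fun J _ _ => inferInstance⟩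

instance (d : CochainComplex A ℤ) :
    PreservesFiniteColimits ((evaluation (CochainComplex A ℤ) A).obj d) :=
  ⟨fun J _ _ => inferInstance⟩

/-- **functorial cellular resolutions** -/
theorem exists_functorial_resolution
    [HasColimitsOfShape ℕ A] [HasExactColimitsOfShape ℕ A]
    (IsC Pr : CochainComplex A ℤ → Prop)
    (hiso : ∀ K L : CochainComplex A ℤ, (K ≅ L) → Pr K → Pr L)
    (hcone : ∀ (V K : CochainComplex A ℤ) (φ : V ⟶ K), IsC V → Pr K → Pr (mappingCone φ))
    (hcolim : ∀ (F : ℕ ⥤ CochainComplex A ℤ) (c : Cocone F), IsColimit c →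
      (∀ i, Pr (F.obj i)) → Pr c.pt)
    (h0 : ∀ K : CochainComplex A ℤ, IsZero K → Pr K)
    (Fl : A ⥤ A) (ε : Fl ⟶ 𝟭 A) (hε : ∀ M, Epi (ε.app M))
    (hcell : ∀ W : CochainComplex A ℤ, (∀ i j, W.d i j = 0) →
      (∀ n, ∃ M, Nonempty (W.X n ≅ Fl.obj M)) → IsC W) :
    ∃ (P : CochainComplex A ℤ ⥤ CochainComplex A ℤ) (ψ : P ⟶ 𝟭 _),
      ∀ G, Pr (P.obj G) ∧ QuasiIso (ψ.app G) := by
  let 𝒱 : CochainComplex (CochainComplex A ℤ ⥤ A) ℤ → Prop :=
    fun V => ∀ d : CochainComplex A ℤ, IsC ((evd d).obj V)
  have hcover : ∀ Z : ℤ → (CochainComplex A ℤ ⥤ A),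
      ∃ V : CochainComplex (CochainComplex A ℤ ⥤ A) ℤ, 𝒱 V ∧ (∀ i j : ℤ, V.d i j = 0) ∧
        ∃ e : ∀ n : ℤ, V.X n ⟶ Z n, ∀ n : ℤ, Epi (e n) := by
    intro Z
    refine ⟨zeroCx (fun n => Z n ⋙ Fl), fun d => ?_, fun _ _ => rfl,
      fun n => Functor.whiskerLeft (Z n) ε ≫ (Functor.rightUnitor _).hom, fun n => ?_⟩
    · refine hcell _ (fun i j => ?_) (fun n => ⟨(Z n).obj d, ⟨Iso.refl _⟩⟩)
      exact ((evaluation (CochainComplex A ℤ) A).obj d).map_zero _ _
    · show Epi (Functor.whiskerLeft (Z n) ε ≫ (Functor.rightUnitor _).hom)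
      haveI : ∀ d, Epi ((Functor.whiskerLeft (Z n) ε ≫ (Functor.rightUnitor _).hom).app d) :=
        fun d => by
          have : (Functor.whiskerLeft (Z n) ε ≫ (Functor.rightUnitor _).hom).app d =
              ε.app ((Z n).obj d) := by simp
          rw [this]
          exact hε _
      exact NatTrans.epi_of_epi_app _
  obtain ⟨K', b, c, -, hc, hP⟩ :=
    CellRes.exists_cell_factorization hcover (0 : 0 ⟶ taut (A := A))
  have hK' : ∀ d : CochainComplex A ℤ, Pr ((evd d).obj K') := by
    refine hP (fun K => ∀ d : CochainComplex A ℤ, Pr ((evd d).obj K)) ?_ ?_ ?_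
    · intro V K φ hV hK d
      exact hiso _ _ (mappingCone.mapHomologicalComplexIso φ
        ((evaluation (CochainComplex A ℤ) A).obj d)).symm (hcone _ _ _ (hV d) (hK d))
    · intro F c hc h d
      exact hcolim (F ⋙ evd d) ((evd d).mapCocone c) (isColimitOfPreserves (evd d) hc)
        (fun i => h i d)
    · intro d
      exact h0 _ ((evd d).map_isZero (isZero_zero _))
  refine ⟨(complexOfFunctorsToFunctorToComplex (c := ComplexShape.up ℤ)).obj K',
    (complexOfFunctorsToFunctorToComplex (c := ComplexShape.up ℤ)).map c ≫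
    tautIso.hom, fun G => ⟨hK' G, ?_⟩⟩
  haveI : QuasiIso ((evd G).map c) := inferInstance
  let e : (evd G).obj (taut (A := A)) ≅ G := (tautIso (A := A)).app G
  show QuasiIso ((evd G).map c ≫ e.hom)
  infer_instance

end Groth.Agent.Lib.Helper94.FunctorialRes
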