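import Groth.Agent.Lib.Helper94.FunctorialRes
import Groth.Agent.Lib.Helper94.KFlatResInst

/-!
# Functorial K-flat resolutions on ringed sites (helper94)

Namespace `Groth.Agent.Lib.Helper94.FunctorialResSite`.
-/

universe v₁ v₂ v₃ u₁ u₂ u₃ u

open CategoryTheory CategoryTheory.Limits HomologicalComplex CochainComplex

namespace Groth.Agent.Lib.Helper94.FunctorialResSite

open Groth.Agent.Lib.Helper94.KFlatBi Groth.Agent.Lib.Helper94.KFlatAbs
  Groth.Agent.Lib.Helper94.KFlatTrunc Groth.Agent.Lib.Helper94.CellRes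
  Groth.Agent.Lib.Helper94.KFlatRes

section Bi

variable {C₁ : Type u₁} [Category.{v₁} C₁] [Abelian C₁] {C₂ : Type u₂} [Category.{v₂} C₂] [Abelian C₂]
  {D : Type u₃} [Category.{v₃} D] [Abelian D]
  (T : C₁ ⥤ C₂ ⥤ D) [T.Additive] [∀ X, (T.obj X).Additive]
  [∀ (K₁ : CochainComplex C₁ ℤ) (K₂ : CochainComplex C₂ ℤ),
    HasMapBifunctor K₁ K₂ T (ComplexShape.up ℤ)]
  [HasColimitsOfShape (Discrete ℤ) C₂] [∀ X : C₁, PreservesColimitsOfShape (Discrete ℤ) (T.obj X)]
  [HasColimitsOfShape (Discrete ℤ) D] [HasExactColimitsOfShape (Discrete ℤ) D]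

/-- a complex with zero differentials and flat terms is a cell -/
theorem isCell_of_d_eq_zero (W : CochainComplex C₂ ℤ) (hd : ∀ i j : ℤ, W.d i j = 0)
    (hW : ∀ n : ℤ, IsFlatObj T (W.X n)) : IsCell T W := by
  let Sg : ℤ → CochainComplex C₂ ℤ := fun n => (single C₂ (ComplexShape.up ℤ) n).obj (W.X n)
  let ι : ∀ n : ℤ, Sg n ⟶ W := fun n =>
    mkHomFromSingle (𝟙 (W.X n)) (fun k _ => by rw [hd, comp_zero])
  let cof : Cocone (Discrete.functor Sg) := Cofan.mk W ι
  have hι : ∀ n : ℤ, (ι n).f n = (singleObjXSelf (ComplexShape.up ℤ) n (W.X n)).hom := fun n => by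
    simp only [ι, mkHomFromSingle_f, Category.comp_id]
  have hev : ∀ m : ℤ, IsColimit ((eval C₂ (ComplexShape.up ℤ) m).mapCocone cof) := fun m =>
    { desc := fun s => (singleObjXSelf (ComplexShape.up ℤ) m (W.X m)).inv ≫ s.ι.app ⟨m⟩
      fac := fun s ⟨n⟩ => by
        by_cases h : n = m
        · subst h
          change (ι n).f n ≫ _ = _
          rw [hι]
          exact Iso.hom_inv_id_assoc (singleObjXSelf (ComplexShape.up ℤ) n (W.X n)) _
        · exact (isZero_single_obj_X (ComplexShape.up ℤ) n (W.X n) m (Ne.symm h)).eq_of_src _ _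
      uniq := fun s g hg => by
        have h1 := hg ⟨m⟩
        change (ι m).f m ≫ g = _ at h1
        rw [hι] at h1
        rw [← h1]
        exact (Iso.inv_hom_id_assoc (singleObjXSelf (ComplexShape.up ℤ) m (W.X m)) _).symm }
  have hcof : IsColimit cof := isColimitOfEval _ cof hev
  refine ⟨?_, hW⟩
  refine isKFlat₂_of_isColimit T cof hcof (fun ⟨n⟩ => ?_)
  exact isKFlat₂_of_concentrated T (Sg n) n
    (fun q hq => isZero_single_obj_X (ComplexShape.up ℤ) n (W.X n) q hq)
    ((hW n).of_iso (singleObjXSelf (ComplexShape.up ℤ) n (W.X n)).symm)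

end Bi

section Site

open ModSite Groth.Agent.Lib.Helper94.ModTensorW Groth.Agent.Lib.Helper94.ModTensor
  Groth.Agent.Lib.Helper94.ModFlat Groth.Agent.Lib.Helper94.KFlatResInst
  Groth.Agent.Lib.Helper94.KFlatSite

variable {C : Type u} [SmallCategory C] {J : GrothendieckTopology C} (O : Sheaf J CommRingCat.{u})

/-- the forgetful functor from presheaves of modules to presheaves of sets -/
noncomputable abbrev und : PMod O ⥤ (Cᵒᵖ ⥤ Type u) :=
  PresheafOfModules.toPresheaf _ ⋙ (Functor.whiskeringRight _ _ _).obj (forget Ab)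

/-- the functorial flat cover of a module: the sheafification of the free presheaf of modules on
the underlying presheaf of sets -/
noncomputable def Fl : Mod O ⥤ Mod O :=
  fgt O ⋙ und O ⋙ PresheafOfModules.free _ ⋙ shf O

/-- the natural epimorphism from the functorial flat cover -/
noncomputable def flε : Fl O ⟶ 𝟭 (Mod O) where
  app M := (shf O).map ((PresheafOfModules.freeAdjunction _).counit.app ((fgt O).obj M)) ≫
    (shfAdj O).counit.app M
  naturality M N f := by
    have h1 := (PresheafOfModules.freeAdjunction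
      (O.obj ⋙ forget₂ CommRingCat.{u} RingCat.{u})).counit.naturality ((fgt O).map f)
    have h2 := (shfAdj O).counit.naturality f
    have h3 : (shf O).map ((PresheafOfModules.free _).map ((und O).map ((fgt O).map f))) ≫
        (shf O).map ((PresheafOfModules.freeAdjunction _).counit.app ((fgt O).obj N)) =
        (shf O).map ((PresheafOfModules.freeAdjunction _).counit.app ((fgt O).obj M)) ≫
          (shf O).map ((fgt O).map f) := by
      rw [← Functor.map_comp, ← Functor.map_comp]
      exact congrArg _ h1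
    exact (Category.assoc _ _ _).symm.trans
      ((congrArg (· ≫ (shfAdj O).counit.app N) h3).trans
        ((Category.assoc _ _ _).trans
          ((congrArg ((shf O).map ((PresheafOfModules.freeAdjunction _).counit.app
            ((fgt O).obj M)) ≫ ·) h2).trans (Category.assoc _ _ _).symm)))

lemma counit_eq (P : PMod O) :
    (PresheafOfModules.freeAdjunction (O.obj ⋙ forget₂ CommRingCat.{u} RingCat.{u})).counit.app P =
      PresheafOfModules.freeObjDesc (𝟙 _) := by
  rw [← Adjunction.homEquiv_symm_id, PresheafOfModules.freeAdjunction_homEquiv]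
  rfl

instance epi_counit (P : PMod O) :
    Epi ((PresheafOfModules.freeAdjunction
      (O.obj ⋙ forget₂ CommRingCat.{u} RingCat.{u})).counit.app P) := by
  rw [counit_eq]
  exact PresheafOfModules.epi_of_surjective (fun X m =>
    ⟨ModuleCat.freeMk m, (ModuleCat.freeDesc_apply _ _).trans rfl⟩)

instance epi_flε (M : Mod O) : Epi ((flε O).app M) := by
  haveI := epi_counit O ((fgt O).obj M)
  have : Epi ((shf O).map ((PresheafOfModules.freeAdjunction
      (O.obj ⋙ forget₂ CommRingCat.{u} RingCat.{u})).counit.app ((fgt O).obj M))) :=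
    @Functor.map_epi _ _ _ _ (shf O) _ _ _ _ (epi_counit O ((fgt O).obj M))
  have h2 : Epi ((shfAdj O).counit.app M) := inferInstance
  exact @epi_comp _ _ _ _ _ _ this _ h2

theorem isFlat_Fl (M : Mod O) : ModSite.IsFlat ((Fl O).obj M) := by
  refine isFlat_shf O (PresheafOfModules.freeObj ((und O).obj ((fgt O).obj M))) (fun X => ?_)
  change Module.Flat (O.obj.obj X) (((und O).obj ((fgt O).obj M)).obj X →₀ O.obj.obj X)
  infer_instance

/-- **functorial K-flat resolutions** on a ringed site -/
theorem exists_functorial_isKFlat_resolution :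
    ∃ (P : CochainComplex (Mod O) ℤ ⥤ CochainComplex (Mod O) ℤ)
      (ψ : P ⟶ 𝟭 (CochainComplex (Mod O) ℤ)),
      ∀ G : CochainComplex (Mod O) ℤ, ModSite.IsKFlat (P.obj G) ∧ QuasiIso (ψ.app G) := by
  obtain ⟨P, ψ, h⟩ := Groth.Agent.Lib.Helper94.FunctorialRes.exists_functorial_resolution
    (A := Mod O) (IsCell (ModSite.tensorBi O)) (IsKFlat₂ (ModSite.tensorBi O))
    (fun K L e hK => isKFlat₂_of_iso (ModSite.tensorBi O) e hK)
    (fun V K φ hV hK => isKFlat₂_cone (ModSite.tensorBi O) φ hV.1 hK)
    (fun F c hc h => isKFlat₂_of_isColimit (ModSite.tensorBi O) c hc h)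
    (fun K hK => isKFlat₂_of_isZero_X (ModSite.tensorBi O) K
      (fun n => (eval (Mod O) (ComplexShape.up ℤ) n).map_isZero hK))
    (Fl O) (flε O) (fun M => epi_flε O M)
    (fun W hd hW => isCell_of_d_eq_zero (ModSite.tensorBi O) W hd (fun n => by
      obtain ⟨M, ⟨e⟩⟩ := hW n
      exact (Groth.Agent.Lib.Helper94.KFlatBdd.isFlatObj_of_isFlat _ (isFlat_Fl O M)).of_iso e.symm))
  exact ⟨P, ψ, fun G => ⟨(isKFlat_iff _).2 (h G).1, (h G).2⟩⟩

end Site

end Groth.Agent.Lib.Helper94.FunctorialResSite
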