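import Mathlib
import Groth.Prelude.Def_DDual2
import Groth.Agent.Lib.Helper6.PushComp

/-!
# Units of right derived functors of functors on `O_Y`-modules at weakly K-injective complexes
(helper94; generalisation of the `Unit` section of helper6's `PushComp`)

`G : Mod(O_Y) ⥤ B` is an additive functor to an abelian category which sends sectionwise acyclic
complexes to acyclic complexes (`SendsZ G`); `RG` is a right derived functor of
`K(O_Y) ⥤ K(B) ⥤ D(B)` with unit `β`.

* `isIso_βCh_app`: the unit `Q (G M) ⟶ RG (Q M)` is an isomorphism for `M` weakly K-injective;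
* `nonempty_push_comp_iso`: `Rf_* ⋙ H ≅ H'` as soon as `H`, `H'` receive natural transformations
  from functors on complexes `R`, `R'` with `f_* ⋙ R ≅ R'`, invertible on weakly K-injective resp.
  K-injective complexes.
-/

set_option autoImplicit false
universe w u
open CategoryTheory CategoryTheory.Limits AlgebraicGeometry TopologicalSpace HomotopyCategory
  CochainComplex

attribute [local instance] HasDerivedCategory.standard

namespace Groth.Agent.Lib.Helper94.GenUnit

open Groth.Agent.Lib.Helper6.CellOrth Groth.Agent.Lib.Helper6.PullDer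
  Groth.Agent.Lib.Helper6.PullComp Groth.Agent.Lib.Helper6.CellDer
  Groth.Agent.Lib.Helper6.PushComp Groth.Agent.Lib.Helper6
  Groth.Agent.Lib.Helper99.RestrKInj

section Unit

variable {Y : Scheme.{u}} {B : Type*} [Category B] [Abelian B] [HasDerivedCategory.{w} B]
  (G : Y.Modules ⥤ B) [G.Additive]

/-- `G` on complexes -/
noncomputable abbrev GCh : CochainComplex Y.Modules ℤ ⥤ CochainComplex B ℤ :=
  G.mapHomologicalComplex (ComplexShape.up ℤ)

/-- `G` on the homotopy category followed by localization -/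
noncomputable abbrev GKh : HomotopyCategory Y.Modules (ComplexShape.up ℤ) ⥤ DerivedCategory B :=
  G.mapHomotopyCategory (ComplexShape.up ℤ) ⋙ DerivedCategory.Qh

/-- `G` sends sectionwise acyclic complexes to acyclic complexes -/
def SendsZ : Prop := ∀ K : CochainComplex Y.Modules ℤ, 𝒵 Y K → ((GCh G).obj K).Acyclic

variable {G} in
/-- `G` preserves K-injective resolutions of weakly K-injective complexes -/
lemma quasiIso_GCh_map (hG : SendsZ G) {M J : CochainComplex Y.Modules ℤ} (j : M ⟶ J)
    [J.IsKInjective] (hj : QuasiIso j) (hM : WKc M) : QuasiIso ((GCh G).map j) := by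
  rw [Groth.Agent.Lib.Helper94.KFlatAbs.quasiIso_iff_acyclic_mappingCone]
  have h2 := hG _ (𝒵_cone j hj hM)
  intro n
  exact (h2 n).of_iso (mappingCone.mapHomologicalComplexIso j G)

/-- `quotient ⋙ GKh G ≅ GCh G ⋙ Q` -/
noncomputable def e₂ : HomotopyCategory.quotient Y.Modules (ComplexShape.up ℤ) ⋙ GKh G ≅
    GCh G ⋙ DerivedCategory.Q :=
  (Functor.associator _ _ _).symm ≪≫
    Functor.isoWhiskerRight (G.mapHomotopyCategoryFactors (ComplexShape.up ℤ))
      DerivedCategory.Qh ≪≫ Functor.associator _ _ _ ≪≫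
    Functor.isoWhiskerLeft _ (DerivedCategory.quotientCompQhIso B)

variable (RG : DerivedCategory Y.Modules ⥤ DerivedCategory B)
  (β : GKh G ⟶ DerivedCategory.Qh ⋙ RG)
  [RG.IsRightDerivedFunctor β (HomotopyCategory.quasiIso Y.Modules (ComplexShape.up ℤ))]

lemma isIso_β_app_of_isKInjective (J : CochainComplex Y.Modules ℤ) [hJ : J.IsKInjective] :
    IsIso (β.app ((HomotopyCategory.quotient Y.Modules (ComplexShape.up ℤ)).obj J)) :=
  Groth.Agent.Lib.Helper99.KInj.isIso_app_of_kInjK (GKh G) RG β _ hJ

variable {G} in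
/-- the unit `Q (G M) ⟶ RG (Q M)` is an isomorphism for `M` weakly K-injective -/
lemma isIso_β_app (hG : SendsZ G) (M : CochainComplex Y.Modules ℤ) (hM : WKc M) :
    IsIso (β.app ((HomotopyCategory.quotient Y.Modules (ComplexShape.up ℤ)).obj M)) := by
  obtain ⟨J, j, hj, hJ⟩ := hresR M
  have nat := β.naturality ((HomotopyCategory.quotient Y.Modules (ComplexShape.up ℤ)).map j)
  haveI i2 := isIso_β_app_of_isKInjective G RG β J
  haveI i1 : IsIso ((GKh G).map
      ((HomotopyCategory.quotient Y.Modules (ComplexShape.up ℤ)).map j)) := by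
    change IsIso (DerivedCategory.Qh.map
      ((G.mapHomotopyCategory (ComplexShape.up ℤ)).map
        ((HomotopyCategory.quotient Y.Modules (ComplexShape.up ℤ)).map j)))
    rw [DerivedCategory.isIso_Qh_map_iff, Functor.mapHomotopyCategory_map]
    exact (quotient_map_mem_quasiIso_iff _).2
      ((HomologicalComplex.mem_quasiIso_iff _).2 (quasiIso_GCh_map hG j hj hM))
  haveI i3 : IsIso ((DerivedCategory.Qh ⋙ RG).map
      ((HomotopyCategory.quotient Y.Modules (ComplexShape.up ℤ)).map j)) := by
    haveI : IsIso (DerivedCategory.Qh.map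
        ((HomotopyCategory.quotient Y.Modules (ComplexShape.up ℤ)).map j)) := by
      rw [DerivedCategory.isIso_Qh_map_iff, quotient_map_mem_quasiIso_iff,
        HomologicalComplex.mem_quasiIso_iff]
      exact hj
    rw [Functor.comp_map]
    infer_instance
  have e : β.app ((HomotopyCategory.quotient Y.Modules (ComplexShape.up ℤ)).obj M) =
      ((GKh G).map ((HomotopyCategory.quotient Y.Modules (ComplexShape.up ℤ)).map j) ≫
        β.app ((HomotopyCategory.quotient Y.Modules (ComplexShape.up ℤ)).obj J)) ≫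
      inv ((DerivedCategory.Qh ⋙ RG).map
        ((HomotopyCategory.quotient Y.Modules (ComplexShape.up ℤ)).map j)) := by
    rw [IsIso.eq_comp_inv]
    exact nat.symm
  rw [e]
  infer_instance

/-- the unit of `RG` at the level of complexes -/
noncomputable def βCh : GCh G ⋙ DerivedCategory.Q ⟶ DerivedCategory.Q ⋙ RG :=
  (e₂ G).inv ≫ Functor.whiskerLeft (HomotopyCategory.quotient Y.Modules (ComplexShape.up ℤ))
    β ≫ (Functor.associator _ _ _).inv ≫
    Functor.whiskerRight (DerivedCategory.quotientCompQhIso Y.Modules).hom RG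

lemma βCh_app (M : CochainComplex Y.Modules ℤ) :
    (βCh G RG β).app M = (e₂ G).inv.app M ≫
      β.app ((HomotopyCategory.quotient Y.Modules (ComplexShape.up ℤ)).obj M) ≫
      RG.map ((DerivedCategory.quotientCompQhIso Y.Modules).hom.app M) := by
  simp [βCh]

variable {G} in
lemma isIso_βCh_app (hG : SendsZ G) (M : CochainComplex Y.Modules ℤ) (hM : WKc M) :
    IsIso ((βCh G RG β).app M) := by
  haveI := isIso_β_app RG β hG M hM
  rw [βCh_app]
  infer_instance

lemma isIso_βCh_app_of_isKInjective (J : CochainComplex Y.Modules ℤ) [J.IsKInjective] :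
    IsIso ((βCh G RG β).app J) := by
  haveI := isIso_β_app_of_isKInjective G RG β J
  rw [βCh_app]
  infer_instance

end Unit

section Comp

variable {X Y : Scheme.{u}} (f : X ⟶ Y) [DCoh.HasRpush f]
  {E : Type*} [Category E]
  (R : CochainComplex Y.Modules ℤ ⥤ E) (H : DerivedCategory Y.Modules ⥤ E)
  (T : R ⟶ DerivedCategory.Q ⋙ H)
  (R' : CochainComplex X.Modules ℤ ⥤ E) (H' : DerivedCategory X.Modules ⥤ E)
  (T' : R' ⟶ DerivedCategory.Q ⋙ H')
  (θ : pushCh f ⋙ R ≅ R')

/-- the comparison `R' ⟶ Q ⋙ (Rf_* ⋙ H)` -/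
noncomputable def T₁ : R' ⟶ DerivedCategory.Q ⋙ (DCoh.Rpush f ⋙ H) :=
  θ.inv ≫ Functor.whiskerLeft (pushCh f) T ≫ (Functor.associator _ _ _).inv ≫
    Functor.whiskerRight (PushComp.βCh f) H ≫ (Functor.associator _ _ _).hom

lemma T₁_app (I : CochainComplex X.Modules ℤ) :
    (T₁ f R H T R' θ).app I = θ.inv.app I ≫ T.app ((pushCh f).obj I) ≫
      H.map ((PushComp.βCh f).app I) := by
  simp [T₁]

include θ in
/-- `Rf_* ⋙ H ≅ H'` -/
theorem nonempty_push_comp_iso
    (hT : ∀ M : CochainComplex Y.Modules ℤ, WKc M → IsIso (T.app M))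
    (hT' : ∀ I : CochainComplex X.Modules ℤ, I.IsKInjective → IsIso (T'.app I)) :
    Nonempty (DCoh.Rpush f ⋙ H ≅ H') := by
  refine ExtNatIsoR.nonempty_natIso_of_natTrans _ _ (fun I => I.IsKInjective) hresR
    R' (T₁ f R H T R' θ) T' ?_ hT'
  intro I hI
  haveI : I.IsKInjective := hI
  haveI := PushComp.isIso_βCh_app f I (wkc_of_isKInjective I)
  haveI := hT _ (wkc_pushforward f I)
  rw [T₁_app]
  infer_instance

end Comp

end Groth.Agent.Lib.Helper94.GenUnit
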