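import Mathlib
import Groth.Prelude.Def_DDual2
import Groth.Agent.Lib.Helper94.GenUnit
import Groth.Agent.Lib.Helper68.KInj

/-!
# `RΓ(Y, Rf_* E) ≅ RΓ(X, E)` and its local version (helper94)
-/

set_option autoImplicit false
universe u
open CategoryTheory CategoryTheory.Limits AlgebraicGeometry TopologicalSpace HomotopyCategory
  CochainComplex Opposite

attribute [local instance] HasDerivedCategory.standard

namespace Groth.Agent.Lib.Helper94.GammaPush

open Groth.Agent.Lib.Helper6.CellOrth Groth.Agent.Lib.Helper6.PullDer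
  Groth.Agent.Lib.Helper6.PullComp Groth.Agent.Lib.Helper6.CellDer
  Groth.Agent.Lib.Helper6.PushComp Groth.Agent.Lib.Helper6
  Groth.Agent.Lib.Helper99.RestrKInj Groth.Agent.Lib.Helper94.GenUnit

variable {X Y : Scheme.{u}}

/-- `Γ(Y, -)` on complexes -/
noncomputable abbrev gammaCh (Y : Scheme.{u}) :
    CochainComplex Y.Modules ℤ ⥤ CochainComplex AddCommGrpCat.{u} ℤ :=
  (DCoh.gammaAb Y).mapHomologicalComplex (ComplexShape.up ℤ)

/-- global sections send sectionwise acyclic complexes to acyclic complexes -/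
lemma sendsZ_gammaAb (Y : Scheme.{u}) : SendsZ (DCoh.gammaAb Y) := by
  intro K hK
  have hK' := (SectAcyc.sectAcyclic_iff (J := Opens.grothendieckTopology Y) (O := Y.sheaf) K).1 hK
  intro q
  rw [HomologicalComplex.exactAt_iff' _ (q - 1) q (q + 1) (by simp) (by simp),
    ShortComplex.ab_exact_iff]
  intro s hs
  obtain ⟨t, ht⟩ := hK' ⊤ (q - 1) q (by lia) s hs
  exact ⟨t, ht⟩


/-- the unit of `RΓ(Y, -)` at the level of complexes -/
noncomputable abbrev γCh (Y : Scheme.{u}) [DCoh.HasRΓ Y] :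
    gammaCh Y ⋙ DerivedCategory.Q ⟶ DerivedCategory.Q ⋙ DCoh.RΓ Y :=
  βCh (DCoh.gammaAb Y) (DCoh.RΓ Y)
    ((DCoh.gammaKh Y).totalRightDerivedUnit DerivedCategory.Qh
      (HomotopyCategory.quasiIso Y.Modules (ComplexShape.up ℤ)))

lemma isIso_γCh_app (Y : Scheme.{u}) [DCoh.HasRΓ Y] (M : CochainComplex Y.Modules ℤ)
    (hM : WKc M) : IsIso ((γCh Y).app M) :=
  isIso_βCh_app _ _ (sendsZ_gammaAb Y) M hM

variable (f : X ⟶ Y)

/-- `Γ(Y, f_* M) = Γ(X, M)` -/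
noncomputable def gammaPush : Scheme.Modules.pushforward f ⋙ DCoh.gammaAb Y ≅ DCoh.gammaAb X :=
  NatIso.ofComponents (fun N => Iso.refl _) (by intros; rfl)

/-- `f_*` then `Γ(Y, -)` on complexes is `Γ(X, -)` -/
noncomputable def θ₁ : pushCh f ⋙ (gammaCh Y ⋙ DerivedCategory.Q) ≅
    gammaCh X ⋙ DerivedCategory.Q :=
  (Functor.associator _ _ _).symm ≪≫ Functor.isoWhiskerRight
    (Functor.mapHomologicalComplexCompIso (gammaPush f) (ComplexShape.up ℤ)) DerivedCategory.Q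

/-- `RΓ(Y, Rf_* -) ≅ RΓ(X, -)` -/
theorem nonempty_RΓ_Rpush_iso [DCoh.HasRpush f] [DCoh.HasRΓ X] [DCoh.HasRΓ Y] :
    Nonempty (DCoh.Rpush f ⋙ DCoh.RΓ Y ≅ DCoh.RΓ X) :=
  nonempty_push_comp_iso f (gammaCh Y ⋙ DerivedCategory.Q) (DCoh.RΓ Y) (γCh Y)
    (gammaCh X ⋙ DerivedCategory.Q) (DCoh.RΓ X) (γCh X) (θ₁ f)
    (fun M hM => isIso_γCh_app Y M hM)
    (fun I hI => by
      haveI : I.IsKInjective := hI
      exact isIso_γCh_app X I (wkc_of_isKInjective I))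


section Local

/-- restriction to an open on complexes -/
noncomputable abbrev restrCh (V : Y.Opens) :
    CochainComplex Y.Modules ℤ ⥤ CochainComplex (V : Scheme.{u}).Modules ℤ :=
  (Scheme.Modules.restrictFunctor V.ι).mapHomologicalComplex (ComplexShape.up ℤ)

/-- restriction to an open preserves sectionwise acyclic complexes -/
lemma 𝒵_restrict (V : Y.Opens) (K : CochainComplex Y.Modules ℤ) (hK : 𝒵 Y K) :
    𝒵 (V : Scheme.{u}) ((restrCh V).obj K) := by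
  have hK' := (SectAcyc.sectAcyclic_iff (J := Opens.grothendieckTopology Y) (O := Y.sheaf) K).1 hK
  refine (SectAcyc.sectAcyclic_iff (J := Opens.grothendieckTopology (V : Scheme.{u}))
    (O := (V : Scheme.{u}).sheaf) _).2 ?_
  intro W q' q hq s hs
  exact hK' (V.ι ''ᵁ W) q' q hq s hs

/-- restriction to an open preserves weakly K-injective complexes -/
lemma wkc_restrict (V : Y.Opens) (M : CochainComplex Y.Modules ℤ) (hM : WKc M) :
    WKc ((restrCh V).obj M) := by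
  have h := WeakKInj.wk_map (extZeroAdj V) (𝒵A := 𝒵 (V : Scheme.{u})) (𝒵B := 𝒵 Y)
    (fun P hP hPa => ⟨AdjOrth.leftOrth_map (extZeroAdj V) P (𝒵_restrict V) hP,
      Groth.Agent.Lib.Helper68.KInj.acyclic_map hPa⟩)
    ((HomotopyCategory.quotient Y.Modules (ComplexShape.up ℤ)).obj M) hM
  exact (WeakKInj.WK (𝒵 (V : Scheme.{u}))).prop_of_iso
    (((Scheme.Modules.restrictFunctor V.ι).mapHomotopyCategoryFactors (ComplexShape.up ℤ)).app M) h


/-- sections over an open, as an abelian group -/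
noncomputable def sectFun (Y : Scheme.{u}) (W : Y.Opens) : Y.Modules ⥤ AddCommGrpCat.{u} :=
  Scheme.Modules.toPresheaf Y ⋙ (evaluation _ _).obj (op W)

instance (W : Y.Opens) : (sectFun Y W).Additive where
  map_add := by intros; rfl

/-- equal opens have isomorphic section functors -/
noncomputable def sectFunCongr {W W' : Y.Opens} (h : W = W') : sectFun Y W ≅ sectFun Y W' :=
  eqToIso (by rw [h])

/-- `M ↦ Γ(V, M|_V)` -/
noncomputable abbrev GV (V : Y.Opens) : Y.Modules ⥤ AddCommGrpCat.{u} :=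
  Scheme.Modules.restrictFunctor V.ι ⋙ DCoh.gammaAb (V : Scheme.{u})

/-- `Γ(V, M|_V) = M(ι(⊤))` -/
noncomputable def GVIsoSect (V : Y.Opens) : GV V ≅ sectFun Y (V.ι ''ᵁ ⊤) :=
  NatIso.ofComponents (fun _ => Iso.refl _) (by intros; rfl)

/-- `(f_* M)(W) = M(f⁻¹ W)` -/
noncomputable def pushSect (W : Y.Opens) :
    Scheme.Modules.pushforward f ⋙ sectFun Y W ≅ sectFun X (f ⁻¹ᵁ W) :=
  NatIso.ofComponents (fun _ => Iso.refl _) (by intros; rfl)

lemma preimage_image_top (V : Y.Opens) :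
    f ⁻¹ᵁ (V.ι ''ᵁ ⊤) = (f ⁻¹ᵁ V).ι ''ᵁ ⊤ := by
  rw [Scheme.Opens.ι_image_top, Scheme.Opens.ι_image_top]

/-- `Γ(V, (f_* M)|_V) ≅ Γ(f⁻¹V, M|_{f⁻¹V})` -/
noncomputable def θ₀ (V : Y.Opens) :
    Scheme.Modules.pushforward f ⋙ GV V ≅ GV (f ⁻¹ᵁ V) :=
  Functor.isoWhiskerLeft (Scheme.Modules.pushforward f) (GVIsoSect V) ≪≫ pushSect f _ ≪≫
    sectFunCongr (preimage_image_top f V) ≪≫ (GVIsoSect (f ⁻¹ᵁ V)).symm

/-- `restrCh V ⋙ gammaCh V` is `GV V` on complexes -/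
noncomputable def GVIso (V : Y.Opens) : restrCh V ⋙ gammaCh (V : Scheme.{u}) ≅
    (GV V).mapHomologicalComplex (ComplexShape.up ℤ) :=
  Functor.mapHomologicalComplexCompIso (Iso.refl _) _

/-- `M ↦ Q Γ(V, M|_V)` on complexes -/
noncomputable abbrev RV (V : Y.Opens) :
    CochainComplex Y.Modules ℤ ⥤ DerivedCategory AddCommGrpCat.{u} :=
  (GV V).mapHomologicalComplex (ComplexShape.up ℤ) ⋙ DerivedCategory.Q

/-- `pushCh f ⋙ RV V ≅ RV (f⁻¹V)` -/
noncomputable def θ₂ (V : Y.Opens) : pushCh f ⋙ RV V ≅ RV (f ⁻¹ᵁ V) :=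
  (Functor.associator _ _ _).symm ≪≫ Functor.isoWhiskerRight
    (Functor.mapHomologicalComplexCompIso (θ₀ f V) (ComplexShape.up ℤ)) DerivedCategory.Q

section

variable (V : Y.Opens) [PreservesFiniteLimits (Scheme.Modules.restrictFunctor V.ι)]
  [DCoh.HasRΓ (V : Scheme.{u})]

/-- `E ↦ RΓ(V, E|_V)` -/
noncomputable abbrev HV : DerivedCategory Y.Modules ⥤ DerivedCategory AddCommGrpCat.{u} :=
  DCoh.restrictD V.ι ⋙ DCoh.RΓ (V : Scheme.{u})

/-- the comparison `Q Γ(V, M|_V) ⟶ RΓ(V, (Q M)|_V)` -/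
noncomputable def TV : RV V ⟶ DerivedCategory.Q ⋙ HV V :=
  Functor.whiskerRight (GVIso V).inv DerivedCategory.Q ≫ (Functor.associator _ _ _).hom ≫
    Functor.whiskerLeft (restrCh V) (γCh (V : Scheme.{u})) ≫ (Functor.associator _ _ _).inv ≫
    Functor.whiskerRight (Scheme.Modules.restrictFunctor V.ι).mapDerivedCategoryFactors.inv
      (DCoh.RΓ (V : Scheme.{u})) ≫ (Functor.associator _ _ _).hom

lemma TV_app (M : CochainComplex Y.Modules ℤ) :
    (TV V).app M = DerivedCategory.Q.map ((GVIso V).inv.app M) ≫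
      (γCh (V : Scheme.{u})).app ((restrCh V).obj M) ≫
      (DCoh.RΓ (V : Scheme.{u})).map
        ((Scheme.Modules.restrictFunctor V.ι).mapDerivedCategoryFactors.inv.app M) := by
  simp [TV]

lemma isIso_TV_app (M : CochainComplex Y.Modules ℤ) (hM : WKc M) : IsIso ((TV V).app M) := by
  haveI := isIso_γCh_app (V : Scheme.{u}) _ (wkc_restrict V M hM)
  rw [TV_app]
  infer_instance

end

/-- `RΓ(f⁻¹V, E|_{f⁻¹V}) ≅ RΓ(V, (Rf_* E)|_V)` -/
theorem nonempty_RΓ_restrict_Rpush_iso (V : Y.Opens) [DCoh.HasRpush f]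
    [DCoh.HasRΓ (V : Scheme.{u})] [DCoh.HasRΓ (f ⁻¹ᵁ V : Scheme.{u})]
    [PreservesFiniteLimits (Scheme.Modules.restrictFunctor V.ι)]
    [PreservesFiniteLimits (Scheme.Modules.restrictFunctor (f ⁻¹ᵁ V).ι)] :
    Nonempty (DCoh.restrictD (f ⁻¹ᵁ V).ι ⋙ DCoh.RΓ (f ⁻¹ᵁ V : Scheme.{u}) ≅
      DCoh.Rpush f ⋙ DCoh.restrictD V.ι ⋙ DCoh.RΓ (V : Scheme.{u})) := by
  obtain ⟨e⟩ := nonempty_push_comp_iso f (RV V) (HV V) (TV V)
    (RV (f ⁻¹ᵁ V)) (HV (f ⁻¹ᵁ V)) (TV (f ⁻¹ᵁ V)) (θ₂ f V)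
    (fun M hM => isIso_TV_app V M hM)
    (fun I hI => by
      haveI : I.IsKInjective := hI
      exact isIso_TV_app (f ⁻¹ᵁ V) I (wkc_of_isKInjective I))
  exact ⟨e.symm⟩

end Local

end Groth.Agent.Lib.Helper94.GammaPush
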