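import Mathlib
import Groth.Agent.Lib.Helper99.MVSch

/-!
# Exactness of complexes of `O_Y`-modules is local (helper94)

* `exact_of_local_sections`: a short complex of `O_Y`-modules is exact if every section of the
  middle term killed by `g` is locally in the image of `f`;
* `acyclic_of_basis`: a complex of `O_Y`-modules whose complexes of sections over the members of
  a basis are exact is acyclic.
-/

set_option autoImplicit false
universe u
open CategoryTheory Limits AlgebraicGeometry Opposite TopologicalSpace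

namespace Groth.Agent.Lib.Helper94.LocalExact

open Groth.Agent.Lib.Cohomology

theorem epi_of_locally_surjective {Y : TopCat.{u}} {F G : CohTop.Ab Y} (g : F ⟶ G)
    (h : ∀ (W : Opens Y) (t : G.obj.obj (op W)) (x : Y), x ∈ W →
      ∃ (U : Opens Y) (hU : U ≤ W), x ∈ U ∧
        ∃ s : F.obj.obj (op U), g.hom.app (op U) s = G.obj.map (homOfLE hU).op t) : Epi g := by
  refine (TopCat.Sheaf.isLocallySurjective_iff_epi (X := Y) (C := AddCommGrpCat.{u}) g).1 ?_
  rw [TopCat.Presheaf.isLocallySurjective_iff]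
  intro V t x hx
  obtain ⟨U, hU, hxU, s, hs⟩ := h V t x hx
  refine ⟨U, hU, ⟨s, ?_⟩, hxU⟩
  refine hs.trans ?_
  simp [TopCat.Presheaf.restrictOpen, TopCat.Presheaf.restrict]

theorem exact_of_local_sections_top {Y : TopCat.{u}} (S : ShortComplex (CohTop.Ab Y))
    (h : ∀ (W : Opens Y) (x : S.X₂.obj.obj (op W)), S.g.hom.app (op W) x = 0 → ∀ y : Y, y ∈ W →
      ∃ (U : Opens Y) (hU : U ≤ W), y ∈ U ∧
        ∃ t : S.X₁.obj.obj (op U), S.f.hom.app (op U) t = S.X₂.obj.map (homOfLE hU).op x) :
    S.Exact := by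
  rw [ShortComplex.exact_iff_epi_kernel_lift]
  refine epi_of_locally_surjective _ (fun W t y hy => ?_)
  have hι : ∀ U : Opens Y, Function.Injective ((kernel.ι S.g).hom.app (op U)) :=
    fun U => sections_injective_of_mono (kernel.ι S.g) U
  have hz : S.g.hom.app (op W) ((kernel.ι S.g).hom.app (op W) t) = 0 := by
    have : kernel.ι S.g ≫ S.g = 0 := kernel.condition _
    have h' := congrArg (fun φ => φ.hom.app (op W) t) this
    exact h'
  obtain ⟨U, hU, hyU, s, hs⟩ := h W _ hz y hy
  refine ⟨U, hU, hyU, s, hι U ?_⟩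
  have h1 : kernel.lift S.g S.f S.zero ≫ kernel.ι S.g = S.f := kernel.lift_ι _ _ _
  have h2 := congrArg (fun φ => φ.hom.app (op U) s) h1
  have h3 := ConcreteCategory.congr_hom ((kernel.ι S.g).hom.naturality (homOfLE hU).op) t
  exact h2.trans (hs.trans h3.symm)

open Groth.Agent.Lib.Cohomology.HHLES in
theorem exact_of_local_sections {Y : Scheme.{u}} (S : ShortComplex Y.Modules)
    (h : ∀ (W : Y.Opens) (x : Γ(S.X₂, W)), S.g.app W x = 0 → ∀ y : Y, y ∈ W →
      ∃ (U : Y.Opens) (hU : U ≤ W), y ∈ U ∧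
        ∃ t : Γ(S.X₁, U), S.f.app U t = S.X₂.presheaf.map (homOfLE hU).op x) : S.Exact := by
  haveI : (toAbF Y).Faithful := inferInstanceAs (SheafOfModules.toSheaf.{u} (RR Y)).Faithful
  exact (toAbF Y).reflects_exact_of_faithful S
    (exact_of_local_sections_top (S.map (toAbF Y)) h)

theorem acyclic_of_basis {Y : Scheme.{u}} (C : CochainComplex Y.Modules ℤ) (B : Set Y.Opens)
    (hB : Opens.IsBasis B)
    (h : ∀ U ∈ B, ∀ (q : ℤ) (s : Γ(C.X q, U)), (C.d q (q + 1)).app U s = 0 →
      ∃ t : Γ(C.X (q - 1), U), (C.d (q - 1) q).app U t = s) : C.Acyclic := by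
  intro q
  rw [HomologicalComplex.exactAt_iff' C (q - 1) q (q + 1) (by simp) (by simp)]
  apply exact_of_local_sections
  intro W x hx y hy
  obtain ⟨U, hUB, hyU, hUW⟩ := Opens.isBasis_iff_nbhd.1 hB hy
  have hx' : (C.d q (q + 1)).app U ((C.X q).presheaf.map (homOfLE hUW).op x) = 0 := by
    have := ConcreteCategory.congr_hom
      ((Scheme.Modules.toPresheaf Y).map (C.d q (q + 1)) |>.naturality (homOfLE hUW).op) x
    refine this.trans ?_
    have hx2 : ((Scheme.Modules.toPresheaf Y).map (C.d q (q + 1))).app (op W) x = 0 := hx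
    rw [ConcreteCategory.comp_apply, hx2, map_zero]
    rfl
  obtain ⟨t, ht⟩ := h U hUB q _ hx'
  exact ⟨U, hUW, hyU, t, ht⟩

end Groth.Agent.Lib.Helper94.LocalExact
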