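import Mathlib
import Groth.Prelude.Def_DDual2
import Groth.Agent.Lib.Helper94.GammaPush
import Groth.Agent.Lib.Helper94.LocalExact

/-!
# Isomorphisms in `D(O_Y)` are detected by `RΓ(U, -|_U)` for `U` in a basis (helper94)
-/

set_option autoImplicit false
universe u
open CategoryTheory CategoryTheory.Limits AlgebraicGeometry TopologicalSpace HomotopyCategory
  CochainComplex Opposite

attribute [local instance] HasDerivedCategory.standard

namespace Groth.Agent.Lib.Helper94.GammaIso

open Groth.Agent.Lib.Helper6.PushComp Groth.Agent.Lib.Helper6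
  Groth.Agent.Lib.Helper99.RestrKInj Groth.Agent.Lib.Helper94.GenUnit
  Groth.Agent.Lib.Helper94.GammaPush

section QMap

variable {A : Type*} [Category A] [Abelian A] [HasDerivedCategory A] {X L : CochainComplex A ℤ}

lemma Q_map_eq (f : X ⟶ L) : DerivedCategory.Q.map f =
    (DerivedCategory.quotientCompQhIso A).inv.app X ≫
      DerivedCategory.Qh.map ((HomotopyCategory.quotient _ _).map f) ≫
      (DerivedCategory.quotientCompQhIso A).hom.app L := by
  have := (DerivedCategory.quotientCompQhIso A).hom.naturality f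
  rw [Functor.comp_map] at this
  rw [this, Iso.inv_hom_id_app_assoc]

lemma Q_map_surjective [L.IsKInjective] (φ : DerivedCategory.Q.obj X ⟶ DerivedCategory.Q.obj L) :
    ∃ f : X ⟶ L, DerivedCategory.Q.map f = φ := by
  obtain ⟨ψ, hψ⟩ := (CochainComplex.IsKInjective.Qh_map_bijective
    ((HomotopyCategory.quotient _ _).obj X) L).2
      ((DerivedCategory.quotientCompQhIso A).hom.app X ≫ φ ≫
        (DerivedCategory.quotientCompQhIso A).inv.app L)
  obtain ⟨f, rfl⟩ := (HomotopyCategory.quotient _ _).map_surjective ψ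
  refine ⟨f, ?_⟩
  rw [Q_map_eq, hψ]
  simp

end QMap

variable {Y : Scheme.{u}}

/-- if `Γ(U, f|_U)` is a quasi-isomorphism for all `U` in a basis, `f` is a quasi-isomorphism -/
theorem quasiIso_of_basis {I₁ I₂ : CochainComplex Y.Modules ℤ} (f : I₁ ⟶ I₂)
    (B : Set Y.Opens) (hB : Opens.IsBasis B)
    (h : ∀ U ∈ B, QuasiIso (((GV U).mapHomologicalComplex (ComplexShape.up ℤ)).map f)) :
    QuasiIso f := by
  rw [Groth.Agent.Lib.Helper94.KFlatAbs.quasiIso_iff_acyclic_mappingCone]
  refine LocalExact.acyclic_of_basis _ B hB ?_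
  intro U hU
  have h1 := (Groth.Agent.Lib.Helper94.KFlatAbs.quasiIso_iff_acyclic_mappingCone _).1 (h U hU)
  have h2 : (((GV U).mapHomologicalComplex (ComplexShape.up ℤ)).obj (mappingCone f)).Acyclic :=
    fun n => (h1 n).of_iso (mappingCone.mapHomologicalComplexIso f (GV U)).symm
  have key : ∀ (W : Y.Opens), W = U.ι ''ᵁ ⊤ → ∀ (q : ℤ) (s : Γ((mappingCone f).X q, W)),
      ((mappingCone f).d q (q + 1)).app W s = 0 →
      ∃ t : Γ((mappingCone f).X (q - 1), W), ((mappingCone f).d (q - 1) q).app W t = s := by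
    intro W hW
    subst hW
    intro q s hs
    have h3 := h2 q
    rw [HomologicalComplex.exactAt_iff' _ (q - 1) q (q + 1) (by simp) (by simp),
      ShortComplex.ab_exact_iff] at h3
    obtain ⟨t, ht⟩ := h3 s hs
    exact ⟨t, ht⟩
  exact key U (Scheme.Opens.ι_image_top U).symm

/-- isomorphisms in `D(O_Y)` are detected by `RΓ(U, -|_U)` for `U` in a basis -/
theorem isIso_of_isIso_HV (B : Set Y.Opens) (hB : Opens.IsBasis B)
    [∀ U : Y.Opens, DCoh.HasRΓ (U : Scheme.{u})]
    [∀ U : Y.Opens, PreservesFiniteLimits (Scheme.Modules.restrictFunctor U.ι)]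
    {G₁ G₂ : DerivedCategory Y.Modules} (φ : G₁ ⟶ G₂)
    (h : ∀ U ∈ B, IsIso ((HV U).map φ)) : IsIso φ := by
  obtain ⟨I₁, j₁, hj₁, hI₁⟩ := hresR (DerivedCategory.Q.objPreimage G₁)
  obtain ⟨I₂, j₂, hj₂, hI₂⟩ := hresR (DerivedCategory.Q.objPreimage G₂)
  haveI : IsIso (DerivedCategory.Q.map j₁) := by
    rw [DerivedCategory.isIso_Q_map_iff_quasiIso]; exact hj₁
  haveI : IsIso (DerivedCategory.Q.map j₂) := by
    rw [DerivedCategory.isIso_Q_map_iff_quasiIso]; exact hj₂
  let e₁ : DerivedCategory.Q.obj I₁ ≅ G₁ :=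
    (asIso (DerivedCategory.Q.map j₁)).symm ≪≫ DerivedCategory.Q.objObjPreimageIso G₁
  let e₂ : DerivedCategory.Q.obj I₂ ≅ G₂ :=
    (asIso (DerivedCategory.Q.map j₂)).symm ≪≫ DerivedCategory.Q.objObjPreimageIso G₂
  obtain ⟨f, hf⟩ := Q_map_surjective (e₁.hom ≫ φ ≫ e₂.inv)
  have hφ : φ = e₁.inv ≫ DerivedCategory.Q.map f ≫ e₂.hom := by
    rw [hf]; simp
  suffices hq : QuasiIso f by
    haveI : IsIso (DerivedCategory.Q.map f) := by
      rw [DerivedCategory.isIso_Q_map_iff_quasiIso]; exact hq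
    rw [hφ]
    infer_instance
  refine quasiIso_of_basis f B hB (fun U hU => ?_)
  haveI := h U hU
  haveI : IsIso ((HV U).map (DerivedCategory.Q.map f)) := by
    rw [hf, Functor.map_comp, Functor.map_comp]
    infer_instance
  haveI := isIso_TV_app U I₁ (wkc_of_isKInjective I₁)
  haveI := isIso_TV_app U I₂ (wkc_of_isKInjective I₂)
  have nat := (TV U).naturality f
  have e : (RV U).map f = ((TV U).app I₁ ≫ (DerivedCategory.Q ⋙ HV U).map f) ≫
      inv ((TV U).app I₂) := by
    rw [IsIso.eq_comp_inv]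
    exact nat
  haveI : IsIso ((RV U).map f) := by
    rw [e]
    haveI : IsIso ((DerivedCategory.Q ⋙ HV U).map f) := by
      rw [Functor.comp_map]; infer_instance
    infer_instance
  exact (DerivedCategory.isIso_Q_map_iff_quasiIso _
    (((GV U).mapHomologicalComplex (ComplexShape.up ℤ)).map f)).1 ‹IsIso ((RV U).map f)›

end Groth.Agent.Lib.Helper94.GammaIso
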