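import Groth.Agent.Lib.Helper94.JShriekFlat

/-!
# Naturality in the second variable of the projection formula (helper94)

Namespace `Groth.Agent.Lib.Helper94.JShriek`.
-/

universe u
open CategoryTheory CategoryTheory.Limits Opposite MonoidalCategory

namespace Groth.Agent.Lib.Helper94.JShriek

open ModSite Groth.Agent.Lib.Helper94.ModTensorW Groth.Agent.Lib.Helper94.ModTensor
  Groth.Agent.Lib.Helper94.ModOver Groth.Agent.Lib.Helper94.ModFlat

variable {C : Type u} [SmallCategory C] {J : GrothendieckTopology C} (O : Sheaf J CommRingCat.{u}) (U : C)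

lemma paste6 {D : Type*} [Category D] {X0 X1 X2 X3 X4 X5 X6 Y0 Y1 Y2 Y3 Y4 Y5 Y6 : D}
    {a1 : X0 ⟶ X1} {a2 : X1 ⟶ X2} {a3 : X2 ⟶ X3} {a4 : X3 ⟶ X4} {a5 : X4 ⟶ X5} {a6 : X5 ⟶ X6}
    {b1 : Y0 ⟶ Y1} {b2 : Y1 ⟶ Y2} {b3 : Y2 ⟶ Y3} {b4 : Y3 ⟶ Y4} {b5 : Y4 ⟶ Y5} {b6 : Y5 ⟶ Y6}
    {m0 : X0 ⟶ Y0} {m1 : X1 ⟶ Y1} {m2 : X2 ⟶ Y2} {m3 : X3 ⟶ Y3} {m4 : X4 ⟶ Y4} {m5 : X5 ⟶ Y5}
    {m6 : X6 ⟶ Y6}
    (s1 : m0 ≫ b1 = a1 ≫ m1) (s2 : m1 ≫ b2 = a2 ≫ m2) (s3 : m2 ≫ b3 = a3 ≫ m3)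
    (s4 : m3 ≫ b4 = a4 ≫ m4) (s5 : m4 ≫ b5 = a5 ≫ m5) (s6 : m5 ≫ b6 = a6 ≫ m6) :
    m0 ≫ b1 ≫ b2 ≫ b3 ≫ b4 ≫ b5 ≫ b6 = (a1 ≫ a2 ≫ a3 ≫ a4 ≫ a5 ≫ a6) ≫ m6 := by
  simp only [Category.assoc]
  rw [reassoc_of% s1, reassoc_of% s2, reassoc_of% s3, reassoc_of% s4, reassoc_of% s5, s6]

/-- the six-step factorisation of the projection isomorphism -/
lemma extZeroTensRIso_hom_app (N : Mod O) (G : Mod (O.over U)) :
    (extZeroTensRIso O U N).hom.app G =
      (extZeroIso O U).hom.app (((tensorBi (O.over U)).obj G).obj ((restr O U).obj N)) ≫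
      (jS O U).map ((tensRIso (O.over U) ((restr O U).obj N)).hom.app G) ≫
      (shfJIso O U).inv.app ((fgt (O.over U)).obj G ⊗ (restrP O U).obj ((fgt O).obj N)) ≫
      (shf O).map (projIsoP O U ((fgt (O.over U)).obj G) ((fgt O).obj N)).hom ≫
      (shfCompTensRIso O N).hom.app ((jP O U).obj ((fgt (O.over U)).obj G)) ≫
      ((tensorBi O).map ((extZeroIso O U).inv.app G)).app N := rfl

lemma sq2 (G : Mod (O.over U)) {N N' : Mod O} (f : N ⟶ N') :
    (jS O U).map (((tensorBi (O.over U)).obj G).map ((restr O U).map f)) ≫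
        (jS O U).map ((tensRIso (O.over U) ((restr O U).obj N')).hom.app G) =
      (jS O U).map ((tensRIso (O.over U) ((restr O U).obj N)).hom.app G) ≫
        (jS O U).map ((shf (O.over U)).map
          ((fgt (O.over U)).obj G ◁ (restrP O U).map ((fgt O).map f))) := by
  rw [← Functor.map_comp, ← Functor.map_comp]
  congr 1

lemma sq5 (P : PMod O) {N N' : Mod O} (f : N ⟶ N') :
    (shf O).map (P ◁ (fgt O).map f) ≫ (shfCompTensRIso O N').hom.app P =
      (shfCompTensRIso O N).hom.app P ≫ ((tensorBi O).obj ((shf O).obj P)).map f := by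
  have h1 : (shfCompTensRIso O N).hom.app P =
      (shf O).map ((shfAdj O).unit.app P ▷ (fgt O).obj N) := Category.comp_id _
  have h2 : (shfCompTensRIso O N').hom.app P =
      (shf O).map ((shfAdj O).unit.app P ▷ (fgt O).obj N') := Category.comp_id _
  rw [h1, h2]
  have h3 := congrArg (shf O).map (whisker_exchange ((shfAdj O).unit.app P) ((fgt O).map f))
  rw [Functor.map_comp, Functor.map_comp] at h3
  exact h3

theorem extZeroTensRIso_naturality (G : Mod (O.over U)) {N N' : Mod O} (f : N ⟶ N') :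
    (extZero O U).map (((tensorBi (O.over U)).obj G).map ((restr O U).map f)) ≫
        (extZeroTensRIso O U N').hom.app G =
      (extZeroTensRIso O U N).hom.app G ≫ ((tensorBi O).obj ((extZero O U).obj G)).map f := by
  rw [extZeroTensRIso_hom_app, extZeroTensRIso_hom_app]
  have s1 := (extZeroIso O U).hom.naturality
    (((tensorBi (O.over U)).obj G).map ((restr O U).map f))
  have s2 := sq2 O U G f
  have s3 := (shfJIso O U).inv.naturality
    ((fgt (O.over U)).obj G ◁ (restrP O U).map ((fgt O).map f))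
  have s4 := congrArg (shf O).map
    (projHom_naturality (R := O.obj) (U := U) ((fgt (O.over U)).obj G) ((fgt O).map f))
  have s5 := sq5 O ((jP O U).obj ((fgt (O.over U)).obj G)) f
  have s6 := ((tensorBi O).map ((extZeroIso O U).inv.app G)).naturality f
  rw [Functor.map_comp, Functor.map_comp] at s4
  exact paste6 s1 s2 s3 s4 s5 s6

end Groth.Agent.Lib.Helper94.JShriek
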