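import Groth.Agent.Lib.Helper94.JShriekFree

/-!
# Subobjects of `j_! G` are supported on `U` (helper94)

Namespace `Groth.Agent.Lib.Helper94.JShriek`.
* `eq_zero_of_vanish_over`: a morphism `d : K ⟶ F` out of a subobject `K ↪ j_! G` which vanishes on
  sections over all objects admitting a map to `U` is zero.
-/

universe u
open CategoryTheory CategoryTheory.Limits Opposite DirectSum

namespace Groth.Agent.Lib.Helper94.JShriek

open ModSite Groth.Agent.Lib.Helper94.ModTensorW Groth.Agent.Lib.Helper94.ModTensor
  Groth.Agent.Lib.Helper94.ModOver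

variable {C : Type u} [SmallCategory C] {J : GrothendieckTopology C} {O : Sheaf J CommRingCat.{u}} {U : C}

theorem subsingleton_jPre_obj {R : Cᵒᵖ ⥤ RingCat.{u}} (P : PresheafOfModules.{u} (RU R U)) (W : C)
    [IsEmpty (W ⟶ U)] :
    Subsingleton (((jPre R U).obj P).obj (op W)) := by
  change Subsingleton (⨁ (φ : W ⟶ U), Comp P φ)
  infer_instance

theorem subsingleton_jP_obj (P : PMod (O.over U)) (W : C) [IsEmpty (W ⟶ U)] :
    Subsingleton (((jP O U).obj P).obj (op W)) :=
  subsingleton_jPre_obj (R := O.obj ⋙ forget₂ CommRingCat.{u} RingCat.{u}) (U := U) P W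

/-- injectivity on sections of a monomorphism of sheaves of modules -/
theorem injective_app_of_mono {K K' : Mod O} (i : K ⟶ K') [Mono i] (Z : C) :
    Function.Injective (i.val.app (op Z)) := by
  have h1 : Mono ((fgt O).map i) := inferInstance
  have h2 : Mono (((fgt O).map i).app (op Z)) := inferInstance
  exact (ModuleCat.mono_iff_injective _).1 h2

theorem eq_zero_of_vanish_over_jS {G : Mod (O.over U)} {K F : Mod O} (i : K ⟶ (jS O U).obj G) [Mono i]
    (d : K ⟶ F)
    (h : ∀ (W : C) (_ : W ⟶ U) (s : sect K W), d.val.app (op W) s = 0) : d = 0 := by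
  apply (SheafOfModules.forget _).map_injective
  apply PresheafOfModules.hom_ext
  intro Z
  apply ModuleCat.hom_ext
  apply LinearMap.ext
  intro s
  change d.val.app Z s = 0
  obtain ⟨Z⟩ := Z
  set P0 := (jP O U).obj ((fgt (O.over U)).obj G) with hP0
  have hu := wMod_unit P0
  rw [wMod_iff, J.W_iff_isLocallyBijective] at hu
  obtain ⟨_, hsurj⟩ := hu
  let y := i.val.app (op Z) s
  have hS := hsurj.imageSieve_mem y
  refine sect_ext_of_mem O F _ hS _ _ ?_
  intro W g hg
  obtain ⟨t, ht⟩ := hg
  have n1 := PresheafOfModules.naturality_apply d.val g.op s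
  rw [map_zero]
  refine n1.symm.trans ?_
  by_cases hW : Nonempty (W ⟶ U)
  · obtain ⟨φ⟩ := hW
    exact h W φ _
  · rw [not_nonempty_iff] at hW
    have ht0 : t = 0 := (subsingleton_jP_obj ((fgt (O.over U)).obj G) W).elim _ _
    have hy : ((jS O U).obj G).val.map g.op y = 0 := by
      refine Eq.trans (Eq.symm ?_) (map_zero
        (((PresheafOfModules.toPresheaf _).map (unitMap O P0)).app (op W)).hom)
      rw [← ht0]
      exact ht
    have n2 := PresheafOfModules.naturality_apply i.val g.op s
    have hz : i.val.app (op W) (K.val.map g.op s) = 0 := n2.trans hy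
    have : K.val.map g.op s = 0 := injective_app_of_mono i W (hz.trans (map_zero _).symm)
    rw [this]
    exact map_zero _

theorem eq_zero_of_vanish_over {G : Mod (O.over U)} {K F : Mod O} (i : K ⟶ (extZero O U).obj G) [Mono i]
    (d : K ⟶ F)
    (h : ∀ (W : C) (_ : W ⟶ U) (s : sect K W), d.val.app (op W) s = 0) : d = 0 :=
  eq_zero_of_vanish_over_jS (i ≫ (extZeroIso O U).hom.app G) d h

end Groth.Agent.Lib.Helper94.JShriek
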