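import Groth.Agent.Lib.Helper94.JShriek
import Mathlib.LinearAlgebra.DirectSum.TensorProduct

/-!
# Projection formula for extension by zero on a small ringed site (helper94)

Namespace `Groth.Agent.Lib.Helper94.JShriek`.
* `isIso_of_bijective_app` (a morphism of presheaves of modules which is sectionwise bijective is iso).
* `projHom`, `bijective_projHom_app`, `projIsoP` : presheaf-level `j_!(G ⊗ F|_U) ≅ j_! G ⊗ F`.
* `shfJIso : jP ⋙ shf ≅ shf_U ⋙ jS`; `projIso : j_!(P ⊗ N|_U) ≅ j_! P ⊗ N` on sheaves of modules.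
-/


universe u
open CategoryTheory CategoryTheory.Limits Opposite DirectSum MonoidalCategory TensorProduct

namespace Groth.Agent.Lib.Helper94.JShriek

section
variable {C : Type*} [Category C] {R : Cᵒᵖ ⥤ RingCat.{u}} {M₁ M₂ : PresheafOfModules.{u} R}

theorem isIso_of_bijective_app (f : M₁ ⟶ M₂) (h : ∀ X, Function.Bijective (f.app X)) :
    IsIso f := by
  let e : M₁ ≅ M₂ := PresheafOfModules.isoMk
    (fun X => (LinearEquiv.ofBijective (f.app X).hom (h X)).toModuleIso)
    (fun X Y g => by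
      ext x
      exact PresheafOfModules.naturality_apply f g x)
  have : e.hom = f := by
    ext X x
    rfl
  rw [← this]
  infer_instance

end

section Comm

variable {C : Type u} [SmallCategory C] {R : Cᵒᵖ ⥤ CommRingCat.{u}} {U : C}

/-- presheaves of modules on `C/U` over the restricted (commutative) ring -/
abbrev PU (R : Cᵒᵖ ⥤ CommRingCat.{u}) (U : C) : Type (u + 1) :=
  PresheafOfModules.{u} (((Over.forget U).op ⋙ R) ⋙ forget₂ CommRingCat.{u} RingCat.{u})

/-- presheaves of modules on `C` -/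
abbrev PC (R : Cᵒᵖ ⥤ CommRingCat.{u}) : Type (u + 1) :=
  PresheafOfModules.{u} (R ⋙ forget₂ CommRingCat.{u} RingCat.{u})

/-- identity coercion -/
abbrev toRU (G : PU R U) :
    PresheafOfModules.{u} (RU (R ⋙ forget₂ CommRingCat.{u} RingCat.{u}) U) := G

instance (G : PresheafOfModules.{u} (RU (R ⋙ forget₂ CommRingCat.{u} RingCat.{u}) U))
    {V : C} (φ : V ⟶ U) : Module (R.obj (op V)) (Comp G φ) :=
  inferInstanceAs (Module ((R ⋙ forget₂ CommRingCat.{u} RingCat.{u}).obj (op V)) (Comp G φ))

variable (R U) in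
/-- restriction -/
noncomputable abbrev rC : PC R ⥤ PU R U :=
  PresheafOfModules.pushforward₀OfCommRingCat.{u} (Over.forget U) R

variable (R U) in
/-- extension by zero -/
noncomputable def jC : PU R U ⥤ PC R := jPre (R ⋙ forget₂ CommRingCat.{u} RingCat.{u}) U

variable (R U) in
/-- the adjunction -/
noncomputable def adjC : jC R U ⊣ rC R U := adjPre (R ⋙ forget₂ CommRingCat.{u} RingCat.{u}) U

/-- the comparison map of the projection formula, presheaf level -/
noncomputable def projHom (G : PU R U) (F : PC R) :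
    (jC R U).obj (G ⊗ (rC R U).obj F) ⟶ (jC R U).obj G ⊗ F :=
  ((adjC R U).homEquiv _ _).symm
    (((adjC R U).unit.app G ▷ (rC R U).obj F) ≫
      (Functor.Monoidal.μIso (rC R U) ((jC R U).obj G) F).hom)

lemma adjC_homEquiv_symm (G : PU R U) (F : PC R) (α : G ⟶ (rC R U).obj F) :
    ((adjC R U).homEquiv G F).symm α =
      fromRestr (R := R ⋙ forget₂ CommRingCat.{u} RingCat.{u}) (U := U) α :=
  adjPre_homEquiv_symm_apply (R := R ⋙ forget₂ CommRingCat.{u} RingCat.{u}) (U := U) G F α

open Classical in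
theorem bijective_projHom_app (G : PU R U) (F : PC R) (X : Cᵒᵖ) :
    Function.Bijective ((projHom G F).app X) := by
  let A : CommRingCat.{u} := R.obj (op X.unop)
  let e : (⨁ (φ : X.unop ⟶ U), (Comp (toRU G) φ ⊗[A] F.obj (op X.unop))) ≃ₗ[A]
      (⨁ (φ : X.unop ⟶ U), Comp (toRU G) φ) ⊗[A] F.obj (op X.unop) :=
    (TensorProduct.directSumLeft A A (fun φ : X.unop ⟶ U => Comp (toRU G) φ)
      (F.obj (op X.unop))).symm
  let L : (⨁ (φ : X.unop ⟶ U), (Comp (toRU G) φ ⊗[A] F.obj (op X.unop))) →ₗ[A]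
      (⨁ (φ : X.unop ⟶ U), Comp (toRU G) φ) ⊗[A] F.obj (op X.unop) :=
    { toFun := fun m => ((projHom G F).app X).hom m
      map_add' := fun a b => map_add ((projHom G F).app X).hom a b
      map_smul' := fun r m => ((projHom G F).app X).hom.map_smul r m }
  have hL : L = e.toLinearMap := by
    refine DirectSum.linearMap_ext A (fun φ => ?_)
    refine TensorProduct.ext' (fun x y => ?_)
    have h1 : e (DirectSum.lof A (X.unop ⟶ U)
        (fun φ : X.unop ⟶ U => Comp (toRU G) φ ⊗[A] F.obj (op X.unop)) φ (x ⊗ₜ[A] y)) =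
        (DirectSum.lof A (X.unop ⟶ U) (fun φ : X.unop ⟶ U => Comp (toRU G) φ) φ x) ⊗ₜ[A] y :=
      TensorProduct.directSumLeft_symm_lof_tmul A A φ x y
    refine Eq.trans ?_ h1.symm
    change ((projHom G F).app X).hom (DirectSum.of
        (fun φ : X.unop ⟶ U => Comp (toRU G) φ ⊗[A] F.obj (op X.unop)) φ (x ⊗ₜ[A] y)) = _
    unfold projHom
    rw [adjC_homEquiv_symm]
    refine (fromRestr_app_of (R := R ⋙ forget₂ CommRingCat.{u} RingCat.{u}) (U := U)
      _ X φ _).trans ?_
    rfl
  have key : ∀ m : ⨁ (φ : X.unop ⟶ U), (Comp (toRU G) φ ⊗[A] F.obj (op X.unop)),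
      ((projHom G F).app X).hom m = e m := fun m => LinearMap.congr_fun hL m
  constructor
  · intro a b hab
    exact e.injective ((key a).symm.trans (hab.trans (key b)))
  · intro z
    obtain ⟨m, hm⟩ := e.surjective z
    exact ⟨m, (key m).trans hm⟩

theorem isIso_projHom (G : PU R U) (F : PC R) : IsIso (projHom G F) :=
  isIso_of_bijective_app _ (bijective_projHom_app G F)

end Comm

section Sheaf

open ModSite Groth.Agent.Lib.Helper94.ModTensorW Groth.Agent.Lib.Helper94.ModTensor
  Groth.Agent.Lib.Helper94.ModOver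

variable {C : Type u} [SmallCategory C] {J : GrothendieckTopology C} (O : Sheaf J CommRingCat.{u}) (U : C)

/-- presheaf-level projection formula `j_!(G ⊗ F|_U) ≅ j_! G ⊗ F` -/
noncomputable def projIsoP (G : PMod (O.over U)) (F : PMod O) :
    (jP O U).obj (G ⊗ (restrP O U).obj F) ≅ (jP O U).obj G ⊗ F :=
  @asIso _ _ _ _ (projHom (R := O.obj) (U := U) G F) (isIso_projHom (R := O.obj) (U := U) G F)

/-- sheafification commutes with extension by zero -/
noncomputable def shfJIso : jP O U ⋙ shf O ≅ shf (O.over U) ⋙ jS O U :=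
  (((adjP O U).comp (shfAdj O)).ofNatIsoRight (fgtRestrIso O U)).leftAdjointUniq
    ((shfAdj (O.over U)).comp (adjS O U))

/-- the projection formula `j_!(P ⊗ N|_U) ≅ j_! P ⊗ N` -/
noncomputable def projIso (P : Mod (O.over U)) (N : Mod O) :
    (extZero O U).obj (((tensorBi (O.over U)).obj P).obj ((restr O U).obj N)) ≅
      ((tensorBi O).obj ((extZero O U).obj P)).obj N :=
  (extZeroIso O U).app _ ≪≫
    ((shfJIso O U).app ((fgt (O.over U)).obj P ⊗ (restrP O U).obj ((fgt O).obj N))).symm ≪≫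
    (shf O).mapIso (projIsoP O U ((fgt (O.over U)).obj P) ((fgt O).obj N)) ≪≫
    (@asIso _ _ _ _ ((shf O).map ((shfAdj O).unit.app ((jP O U).obj ((fgt (O.over U)).obj P)) ▷
        (fgt O).obj N))
      (isIso_shf_map_of_wMod _ (wMod_whiskerRight J _ (wMod_unit _) _))) ≪≫
    ((tensorBi O).mapIso ((extZeroIso O U).app P).symm).app N

end Sheaf

end Groth.Agent.Lib.Helper94.JShriek
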