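import Groth.Agent.Lib.Helper94.KFlatAbs

/-!
# K-flatness for a biadditive bifunctor (helper94)

Namespace `Groth.Agent.Lib.Helper94.KFlatBi`.
`T : C₁ ⥤ C₂ ⥤ D` biadditive between abelian categories, with all total complexes.
`Ψ₂ T F = Tot(T(F,-))`, `Ψ₁ T K = Tot(T(-,K))` are additive, commute with shifts (Mathlib),
preserve homotopies (Mathlib) and degreewise split short exact sequences (here).
-/

universe v₁ v₂ v₃ u₁ u₂ u₃

open CategoryTheory CategoryTheory.Limits HomologicalComplex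

namespace Groth.Agent.Lib.Helper94.KFlatBi

open Groth.Agent.Lib.Helper94.KFlatAbs

variable {C₁ : Type u₁} [Category.{v₁} C₁] [Abelian C₁] {C₂ : Type u₂} [Category.{v₂} C₂] [Abelian C₂]
  {D : Type u₃} [Category.{v₃} D] [Abelian D]
  (T : C₁ ⥤ C₂ ⥤ D) [T.Additive] [∀ X, (T.obj X).Additive]
  [∀ (K₁ : CochainComplex C₁ ℤ) (K₂ : CochainComplex C₂ ℤ),
    HasMapBifunctor K₁ K₂ T (ComplexShape.up ℤ)]

/-- `K ↦ Tot(T(F, K))` -/
noncomputable abbrev Ψ₂ (F : CochainComplex C₁ ℤ) : CochainComplex C₂ ℤ ⥤ CochainComplex D ℤ :=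
  T.map₂CochainComplex.obj F

/-- `F ↦ Tot(T(F, K))` -/
noncomputable abbrev Ψ₁ (K : CochainComplex C₂ ℤ) : CochainComplex C₁ ℤ ⥤ CochainComplex D ℤ :=
  T.map₂CochainComplex.flip.obj K

lemma mapBifunctorMap_add_right (F : CochainComplex C₁ ℤ) {K L : CochainComplex C₂ ℤ} (f g : K ⟶ L) :
    mapBifunctorMap (𝟙 F) (f + g) T (ComplexShape.up ℤ) =
      mapBifunctorMap (𝟙 F) f T (ComplexShape.up ℤ) + mapBifunctorMap (𝟙 F) g T (ComplexShape.up ℤ) := by
  ext n p q h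
  rw [HomologicalComplex.add_f_apply, Preadditive.comp_add]
  simp

lemma mapBifunctorMap_add_left (K : CochainComplex C₂ ℤ) {F G : CochainComplex C₁ ℤ} (f g : F ⟶ G) :
    mapBifunctorMap (f + g) (𝟙 K) T (ComplexShape.up ℤ) =
      mapBifunctorMap f (𝟙 K) T (ComplexShape.up ℤ) + mapBifunctorMap g (𝟙 K) T (ComplexShape.up ℤ) := by
  ext n p q h
  rw [HomologicalComplex.add_f_apply, Preadditive.comp_add]
  simp

instance additive_Ψ₂ (F : CochainComplex C₁ ℤ) : (Ψ₂ T F).Additive where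
  map_add {_ _ f g} := mapBifunctorMap_add_right T F f g

instance additive_Ψ₁ (K : CochainComplex C₂ ℤ) : (Ψ₁ T K).Additive where
  map_add {_ _ f g} := mapBifunctorMap_add_left T K f g

theorem preservesHomotopy_Ψ₂ (F : CochainComplex C₁ ℤ) : PreservesHomotopy (Ψ₂ T F) :=
  fun _ _ _ _ h => ⟨mapBifunctorMapHomotopy₂ (𝟙 F) h T (ComplexShape.up ℤ)⟩

theorem preservesHomotopy_Ψ₁ (K : CochainComplex C₂ ℤ) : PreservesHomotopy (Ψ₁ T K) :=
  fun _ _ _ _ h => ⟨mapBifunctorMapHomotopy₁ h (𝟙 K) T (ComplexShape.up ℤ)⟩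

section Split

section Second

variable (F : CochainComplex C₁ ℤ) {X Y Z : CochainComplex C₂ ℤ}

/-- map induced on total complexes in degree `n` by a degreewise (non chain) map -/
noncomputable def gr₂ (r : ∀ q : ℤ, X.X q ⟶ Y.X q) (n : ℤ) :
    (mapBifunctor F X T (ComplexShape.up ℤ)).X n ⟶ (mapBifunctor F Y T (ComplexShape.up ℤ)).X n :=
  mapBifunctorDesc (K₁ := F) (K₂ := X) (F := T) (c := ComplexShape.up ℤ) (j := n)
    (fun p q h => (T.obj (F.X p)).map (r q) ≫ ιMapBifunctor F Y T (ComplexShape.up ℤ) p q n h)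

@[reassoc (attr := simp)]
lemma ι_gr₂ (r : ∀ q : ℤ, X.X q ⟶ Y.X q) (n p q : ℤ)
    (h : ComplexShape.π (ComplexShape.up ℤ) (ComplexShape.up ℤ) (ComplexShape.up ℤ) (p, q) = n) :
    ιMapBifunctor F X T (ComplexShape.up ℤ) p q n h ≫ gr₂ T F r n =
      (T.obj (F.X p)).map (r q) ≫ ιMapBifunctor F Y T (ComplexShape.up ℤ) p q n h :=
  ι_mapBifunctorDesc _ _ _ _

lemma gr₂_comp (r : ∀ q : ℤ, X.X q ⟶ Y.X q) (r' : ∀ q : ℤ, Y.X q ⟶ Z.X q) (n : ℤ) :
    gr₂ T F r n ≫ gr₂ T F r' n = gr₂ T F (fun q => r q ≫ r' q) n := by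
  ext p q h
  simp

lemma gr₂_id (n : ℤ) : gr₂ T F (fun q => 𝟙 (X.X q)) n = 𝟙 _ := by
  ext p q h
  simp

lemma gr₂_add (r r' : ∀ q : ℤ, X.X q ⟶ Y.X q) (n : ℤ) :
    gr₂ T F r n + gr₂ T F r' n = gr₂ T F (fun q => r q + r' q) n := by
  ext p q h
  rw [Preadditive.comp_add]
  simp

lemma gr₂_hom (f : X ⟶ Y) (n : ℤ) :
    (mapBifunctorMap (𝟙 F) f T (ComplexShape.up ℤ)).f n = gr₂ T F (fun q => f.f q) n := by
  ext p q h
  simp

end Second

/-- degreewise splittings are preserved by `Tot(T(F,-))` -/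
noncomputable def splitting₂ (F : CochainComplex C₁ ℤ) (S : ShortComplex (CochainComplex C₂ ℤ))
    (rr : ∀ q : ℤ, S.X₂.X q ⟶ S.X₁.X q) (ss : ∀ q : ℤ, S.X₃.X q ⟶ S.X₂.X q)
    (hfr : ∀ q, S.f.f q ≫ rr q = 𝟙 _) (hsg : ∀ q, ss q ≫ S.g.f q = 𝟙 _)
    (hid : ∀ q, rr q ≫ S.f.f q + S.g.f q ≫ ss q = 𝟙 _) (n : ℤ) :
    ((S.map (Ψ₂ T F)).map (eval D (ComplexShape.up ℤ) n)).Splitting where
  r := gr₂ T F rr n
  s := gr₂ T F ss n
  f_r := by
    change (mapBifunctorMap (𝟙 F) S.f T _).f n ≫ gr₂ T F rr n = 𝟙 _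
    rw [gr₂_hom, gr₂_comp]
    simp only [hfr]
    exact gr₂_id T F n
  s_g := by
    change gr₂ T F ss n ≫ (mapBifunctorMap (𝟙 F) S.g T _).f n = 𝟙 _
    rw [gr₂_hom, gr₂_comp]
    simp only [hsg]
    exact gr₂_id T F n
  id := by
    change gr₂ T F rr n ≫ (mapBifunctorMap (𝟙 F) S.f T _).f n +
      (mapBifunctorMap (𝟙 F) S.g T _).f n ≫ gr₂ T F ss n = 𝟙 _
    rw [gr₂_hom, gr₂_hom, gr₂_comp, gr₂_comp, gr₂_add]
    simp only [hid]
    exact gr₂_id T F n

theorem preservesSplit_Ψ₂ (F : CochainComplex C₁ ℤ) : PreservesSplit (Ψ₂ T F) := by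
  intro S hS
  refine shortExact_of_degreewise_shortExact _ (fun n => ?_)
  exact (splitting₂ T F S (fun q => (hS q).some.r) (fun q => (hS q).some.s)
    (fun q => (hS q).some.f_r) (fun q => (hS q).some.s_g) (fun q => (hS q).some.id) n).shortExact

section First

variable (K : CochainComplex C₂ ℤ) {X Y Z : CochainComplex C₁ ℤ}

/-- map induced on total complexes in degree `n` by a degreewise (non chain) map -/
noncomputable def gr₁ (r : ∀ p : ℤ, X.X p ⟶ Y.X p) (n : ℤ) :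
    (mapBifunctor X K T (ComplexShape.up ℤ)).X n ⟶ (mapBifunctor Y K T (ComplexShape.up ℤ)).X n :=
  mapBifunctorDesc (K₁ := X) (K₂ := K) (F := T) (c := ComplexShape.up ℤ) (j := n)
    (fun p q h => (T.map (r p)).app (K.X q) ≫ ιMapBifunctor Y K T (ComplexShape.up ℤ) p q n h)

@[reassoc (attr := simp)]
lemma ι_gr₁ (r : ∀ p : ℤ, X.X p ⟶ Y.X p) (n p q : ℤ)
    (h : ComplexShape.π (ComplexShape.up ℤ) (ComplexShape.up ℤ) (ComplexShape.up ℤ) (p, q) = n) :
    ιMapBifunctor X K T (ComplexShape.up ℤ) p q n h ≫ gr₁ T K r n =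
      (T.map (r p)).app (K.X q) ≫ ιMapBifunctor Y K T (ComplexShape.up ℤ) p q n h :=
  ι_mapBifunctorDesc _ _ _ _

lemma gr₁_comp (r : ∀ p : ℤ, X.X p ⟶ Y.X p) (r' : ∀ p : ℤ, Y.X p ⟶ Z.X p) (n : ℤ) :
    gr₁ T K r n ≫ gr₁ T K r' n = gr₁ T K (fun p => r p ≫ r' p) n := by
  ext p q h
  simp

lemma gr₁_id (n : ℤ) : gr₁ T K (fun p => 𝟙 (X.X p)) n = 𝟙 _ := by
  ext p q h
  simp

lemma gr₁_add (r r' : ∀ p : ℤ, X.X p ⟶ Y.X p) (n : ℤ) :
    gr₁ T K r n + gr₁ T K r' n = gr₁ T K (fun p => r p + r' p) n := by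
  ext p q h
  rw [Preadditive.comp_add]
  simp

lemma gr₁_hom (f : X ⟶ Y) (n : ℤ) :
    (mapBifunctorMap f (𝟙 K) T (ComplexShape.up ℤ)).f n = gr₁ T K (fun p => f.f p) n := by
  ext p q h
  simp

end First

/-- degreewise splittings are preserved by `Tot(T(-,K))` -/
noncomputable def splitting₁ (K : CochainComplex C₂ ℤ) (S : ShortComplex (CochainComplex C₁ ℤ))
    (rr : ∀ p : ℤ, S.X₂.X p ⟶ S.X₁.X p) (ss : ∀ p : ℤ, S.X₃.X p ⟶ S.X₂.X p)
    (hfr : ∀ p, S.f.f p ≫ rr p = 𝟙 _) (hsg : ∀ p, ss p ≫ S.g.f p = 𝟙 _)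
    (hid : ∀ p, rr p ≫ S.f.f p + S.g.f p ≫ ss p = 𝟙 _) (n : ℤ) :
    ((S.map (Ψ₁ T K)).map (eval D (ComplexShape.up ℤ) n)).Splitting where
  r := gr₁ T K rr n
  s := gr₁ T K ss n
  f_r := by
    change (mapBifunctorMap S.f (𝟙 K) T _).f n ≫ gr₁ T K rr n = 𝟙 _
    rw [gr₁_hom, gr₁_comp]
    simp only [hfr]
    exact gr₁_id T K n
  s_g := by
    change gr₁ T K ss n ≫ (mapBifunctorMap S.g (𝟙 K) T _).f n = 𝟙 _
    rw [gr₁_hom, gr₁_comp]
    simp only [hsg]
    exact gr₁_id T K n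
  id := by
    change gr₁ T K rr n ≫ (mapBifunctorMap S.f (𝟙 K) T _).f n +
      (mapBifunctorMap S.g (𝟙 K) T _).f n ≫ gr₁ T K ss n = 𝟙 _
    rw [gr₁_hom, gr₁_hom, gr₁_comp, gr₁_comp, gr₁_add]
    simp only [hid]
    exact gr₁_id T K n

theorem preservesSplit_Ψ₁ (K : CochainComplex C₂ ℤ) : PreservesSplit (Ψ₁ T K) := by
  intro S hS
  refine shortExact_of_degreewise_shortExact _ (fun n => ?_)
  exact (splitting₁ T K S (fun q => (hS q).some.r) (fun q => (hS q).some.s)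
    (fun q => (hS q).some.f_r) (fun q => (hS q).some.s_g) (fun q => (hS q).some.id) n).shortExact

end Split

section KFlat

open CochainComplex

/-- `K` is K-flat with respect to `T` (in the second variable): `Tot(T(F,K))` is acyclic for every
acyclic `F`. -/
def IsKFlat₂ (K : CochainComplex C₂ ℤ) : Prop :=
  ∀ F : CochainComplex C₁ ℤ, F.Acyclic → (mapBifunctor F K T (ComplexShape.up ℤ)).Acyclic

/-- tensoring a quasi-isomorphism with a K-flat complex gives a quasi-isomorphism -/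
theorem quasiIso_mapBifunctorMap_left (K : CochainComplex C₂ ℤ) (hK : IsKFlat₂ T K)
    {F G : CochainComplex C₁ ℤ} (φ : F ⟶ G) [hφ : QuasiIso φ] :
    QuasiIso (mapBifunctorMap φ (𝟙 K) T (ComplexShape.up ℤ)) :=
  quasiIso_map_of_acyclic_cone (Ψ := Ψ₁ T K) φ (preservesSplit_Ψ₁ T K) (preservesHomotopy_Ψ₁ T K)
    (hK _ ((quasiIso_iff_acyclic_mappingCone φ).1 hφ))

variable {K L : CochainComplex C₂ ℤ} (φ : K ⟶ L)

theorem isKFlat₂_cone (hK : IsKFlat₂ T K) (hL : IsKFlat₂ T L) : IsKFlat₂ T (mappingCone φ) :=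
  fun F hF => acyclic_cone (Ψ := Ψ₂ T F) φ (preservesSplit_Ψ₂ T F) (hK F hF) (hL F hF)

theorem isKFlat₂_tgt_of_cone (hK : IsKFlat₂ T K) (hC : IsKFlat₂ T (mappingCone φ)) :
    IsKFlat₂ T L :=
  fun F hF => acyclic_tgt_of_cone (Ψ := Ψ₂ T F) φ (preservesSplit_Ψ₂ T F) (hK F hF) (hC F hF)

theorem isKFlat₂_src_of_cone (hL : IsKFlat₂ T L) (hC : IsKFlat₂ T (mappingCone φ)) :
    IsKFlat₂ T K :=
  fun F hF => acyclic_src_of_cone (Ψ := Ψ₂ T F) φ (preservesSplit_Ψ₂ T F) (hL F hF) (hC F hF)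

theorem isKFlat₂_of_iso (e : K ≅ L) (hK : IsKFlat₂ T K) : IsKFlat₂ T L :=
  fun F hF => acyclic_of_iso ((Ψ₂ T F).mapIso e) (hK F hF)

theorem isKFlat₂_shift (n : ℤ) (hK : IsKFlat₂ T K) : IsKFlat₂ T (K⟦n⟧) :=
  fun F hF => (acyclic_obj_shift_iff (Ψ := Ψ₂ T F) K n).2 (hK F hF)

theorem isKFlat₂_of_homotopyEquiv (e : HomotopyEquiv K L) (hK : IsKFlat₂ T K) : IsKFlat₂ T L := by
  intro F hF
  have h1 : QuasiIso ((Ψ₂ T F).map e.hom) :=
    quasiIso_map_of_homotopyEquiv (preservesHomotopy_Ψ₂ T F) e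
  have h2 := hK F hF
  rw [acyclic_iff] at h2 ⊢
  intro i
  have h3 := h2 i
  rw [exactAt_iff_isZero_homology] at h3 ⊢
  exact h3.of_iso (asIso (homologyMap ((Ψ₂ T F).map e.hom) i)).symm

end KFlat

section SES

universe v u w

lemma exact_of_pointwise_mono {J : Type*} [Category J] {D : Type u} [Category.{v} D] [Abelian D]
    (S : ShortComplex (J ⥤ D))
    (h : ∀ j, (S.map ((evaluation J D).obj j)).Exact) (hm : ∀ j, Mono (S.f.app j)) : S.Exact := by
  have : Mono S.f := NatTrans.mono_of_mono_app _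
  apply ShortComplex.exact_of_f_is_kernel
  apply evaluationJointlyReflectsLimits
  intro j
  haveI : Mono ((S.map ((evaluation J D).obj j)).f) := hm j
  exact (KernelFork.isLimitMapConeEquiv _ _).symm (h j).fIsKernel

lemma shortExact_of_cofans {D : Type u} [Category.{v} D] [Abelian D] {ι : Type w}
    [HasColimitsOfShape (Discrete ι) D] [HasExactColimitsOfShape (Discrete ι) D]
    {X₁ X₂ X₃ : ι → D} (f : ∀ i, X₁ i ⟶ X₂ i) (g : ∀ i, X₂ i ⟶ X₃ i) (w : ∀ i, f i ≫ g i = 0)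
    (hfg : ∀ i, (ShortComplex.mk (f i) (g i) (w i)).ShortExact)
    {c₁ : Cofan X₁} (hc₁ : IsColimit c₁) {c₂ : Cofan X₂} (hc₂ : IsColimit c₂)
    {c₃ : Cofan X₃} (hc₃ : IsColimit c₃)
    (F : c₁.pt ⟶ c₂.pt) (G : c₂.pt ⟶ c₃.pt)
    (hF : ∀ i, c₁.inj i ≫ F = f i ≫ c₂.inj i) (hG : ∀ i, c₂.inj i ≫ G = g i ≫ c₃.inj i)
    (zero : F ≫ G = 0) :
    (ShortComplex.mk F G zero).ShortExact := by
  let SJ : ShortComplex (Discrete ι ⥤ D) :=
    ShortComplex.mk (Discrete.natTrans (F := Discrete.functor X₁) (G := Discrete.functor X₂)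
        (fun ⟨i⟩ => f i))
      (Discrete.natTrans (F := Discrete.functor X₂) (G := Discrete.functor X₃) (fun ⟨i⟩ => g i))
      (by ext ⟨i⟩; exact w i)
  have hm : ∀ j, Mono (SJ.f.app j) := fun ⟨i⟩ => (hfg i).mono_f
  have he : ∀ j, Epi (SJ.g.app j) := fun ⟨i⟩ => (hfg i).epi_g
  have hSJ : SJ.Exact := exact_of_pointwise_mono SJ (fun ⟨i⟩ => (hfg i).exact) hm
  have : Mono SJ.f := NatTrans.mono_of_mono_app _
  have hmono : Mono F := colim.map_mono' SJ.f hc₁ hc₂ F (fun ⟨i⟩ => hF i)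
  have hepi : Epi G := colim.map_epi' SJ.g c₂ hc₃ G (fun ⟨i⟩ => hG i)
  have hex := colim.exact_mapShortComplex (S := SJ) hSJ hc₁ hc₂ hc₃ F G
    (fun ⟨i⟩ => hF i) (fun ⟨i⟩ => hG i)
  exact { exact := hex, mono_f := hmono, epi_g := hepi }


variable [HasCoproducts.{0} D] [AB4OfSize.{0} D]

theorem shortExact_map_Ψ₂_of_pointwise (F : CochainComplex C₁ ℤ)
    (S : ShortComplex (CochainComplex C₂ ℤ))
    (h : ∀ p q : ℤ, ((S.map (eval C₂ (ComplexShape.up ℤ) q)).map (T.obj (F.X p))).ShortExact) :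
    (S.map (Ψ₂ T F)).ShortExact := by
  refine shortExact_of_degreewise_shortExact _ (fun n => ?_)
  let G₁ := (((T.mapBifunctorHomologicalComplex (ComplexShape.up ℤ) (ComplexShape.up ℤ)).obj F).obj
    S.X₁).toGradedObject
  let G₂ := (((T.mapBifunctorHomologicalComplex (ComplexShape.up ℤ) (ComplexShape.up ℤ)).obj F).obj
    S.X₂).toGradedObject
  let G₃ := (((T.mapBifunctorHomologicalComplex (ComplexShape.up ℤ) (ComplexShape.up ℤ)).obj F).obj
    S.X₃).toGradedObject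
  let π := ComplexShape.π (ComplexShape.up ℤ) (ComplexShape.up ℤ) (ComplexShape.up ℤ)
  exact shortExact_of_cofans
    (X₁ := G₁.mapObjFun π n) (X₂ := G₂.mapObjFun π n) (X₃ := G₃.mapObjFun π n)
    (fun i => (T.obj (F.X i.1.1)).map (S.f.f i.1.2))
    (fun i => (T.obj (F.X i.1.1)).map (S.g.f i.1.2))
    (fun i => ((S.map (eval C₂ (ComplexShape.up ℤ) i.1.2)).map (T.obj (F.X i.1.1))).zero) (fun i => h i.1.1 i.1.2)
    (G₁.isColimitCofanMapObj π n) (G₂.isColimitCofanMapObj π n) (G₃.isColimitCofanMapObj π n)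
    ((mapBifunctorMap (𝟙 F) S.f T (ComplexShape.up ℤ)).f n)
    ((mapBifunctorMap (𝟙 F) S.g T (ComplexShape.up ℤ)).f n)
    (fun ⟨⟨p, q⟩, hpq⟩ => by
      refine (ι_mapBifunctorMap (𝟙 F) S.f T (ComplexShape.up ℤ) p q n hpq).trans ?_
      simp
      rfl)
    (fun ⟨⟨p, q⟩, hpq⟩ => by
      refine (ι_mapBifunctorMap (𝟙 F) S.g T (ComplexShape.up ℤ) p q n hpq).trans ?_
      simp
      rfl)
    _


/-- two out of three for K-flatness in a short exact sequence of complexes which stays exact after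
applying `T(F^p, -)` degreewise -/
theorem isKFlat₂_two_of_three (S : ShortComplex (CochainComplex C₂ ℤ))
    (h : ∀ (X : C₁) (q : ℤ), ((S.map (eval C₂ (ComplexShape.up ℤ) q)).map (T.obj X)).ShortExact) :
    (IsKFlat₂ T S.X₁ → IsKFlat₂ T S.X₂ → IsKFlat₂ T S.X₃) ∧
    (IsKFlat₂ T S.X₁ → IsKFlat₂ T S.X₃ → IsKFlat₂ T S.X₂) ∧
    (IsKFlat₂ T S.X₂ → IsKFlat₂ T S.X₃ → IsKFlat₂ T S.X₁) := by
  have key : ∀ F : CochainComplex C₁ ℤ, (S.map (Ψ₂ T F)).ShortExact :=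
    fun F => shortExact_map_Ψ₂_of_pointwise T F S (fun p q => h (F.X p) q)
  refine ⟨fun h1 h2 F hF => ?_, fun h1 h3 F hF => ?_, fun h2 h3 F hF => ?_⟩
  · exact acyclic_X₃_of (key F) (h1 F hF) (h2 F hF)
  · exact (key F).acyclic_X₂ (h1 F hF) (h3 F hF)
  · exact acyclic_X₁_of (key F) (h2 F hF) (h3 F hF)

end SES

universe w w'

section Colim

@[reassoc]
lemma ι_Ψ₂_map (F : CochainComplex C₁ ℤ) {K L : CochainComplex C₂ ℤ} (f : K ⟶ L) (p q n : ℤ)
    (h : ComplexShape.π (ComplexShape.up ℤ) (ComplexShape.up ℤ) (ComplexShape.up ℤ) (p, q) = n) :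
    ιMapBifunctor F K T (ComplexShape.up ℤ) p q n h ≫
        (mapBifunctorMap (𝟙 F) f T (ComplexShape.up ℤ)).f n =
      (T.obj (F.X p)).map (f.f q) ≫ ιMapBifunctor F L T (ComplexShape.up ℤ) p q n h := by
  refine (ι_mapBifunctorMap (𝟙 F) f T (ComplexShape.up ℤ) p q n h).trans ?_
  simp

variable {J : Type w} [Category.{w'} J] [HasColimitsOfShape J C₂]
  [∀ X : C₁, PreservesColimitsOfShape J (T.obj X)]

/-- `Tot(T(F,-))` preserves colimits of shape `J` in degree `n` -/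
noncomputable def isColimitMapCoconeΨ₂Eval (F : CochainComplex C₁ ℤ) (n : ℤ)
    {G : J ⥤ CochainComplex C₂ ℤ} (c : Cocone G) (hc : IsColimit c) :
    IsColimit ((Ψ₂ T F ⋙ eval D (ComplexShape.up ℤ) n).mapCocone c) := by
  -- the colimit cocones `T(F^p, c^q)`
  have hpq : ∀ p q : ℤ, IsColimit ((T.obj (F.X p)).mapCocone
      ((eval C₂ (ComplexShape.up ℤ) q).mapCocone c)) := fun p q =>
    isColimitOfPreserves (T.obj (F.X p)) (isColimitOfPreserves (eval C₂ (ComplexShape.up ℤ) q) hc)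
  let cc : ∀ (s : Cocone (G ⋙ Ψ₂ T F ⋙ eval D (ComplexShape.up ℤ) n)) (p q : ℤ)
      (h : ComplexShape.π (ComplexShape.up ℤ) (ComplexShape.up ℤ) (ComplexShape.up ℤ) (p, q) = n),
      Cocone ((G ⋙ eval C₂ (ComplexShape.up ℤ) q) ⋙ T.obj (F.X p)) := fun s p q h =>
    { pt := s.pt
      ι :=
        { app := fun j => ιMapBifunctor F (G.obj j) T (ComplexShape.up ℤ) p q n h ≫ s.ι.app j
          naturality := fun j j' φ => by
            let a : (mapBifunctor F (G.obj j') T (ComplexShape.up ℤ)).X n ⟶ s.pt := s.ι.app j'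
            let b : (mapBifunctor F (G.obj j) T (ComplexShape.up ℤ)).X n ⟶ s.pt := s.ι.app j
            have h1 : (mapBifunctorMap (𝟙 F) (G.map φ) T (ComplexShape.up ℤ)).f n ≫ a = b := s.w φ
            change (T.obj (F.X p)).map ((G.map φ).f q) ≫
              ιMapBifunctor F (G.obj j') T (ComplexShape.up ℤ) p q n h ≫ a =
              (ιMapBifunctor F (G.obj j) T (ComplexShape.up ℤ) p q n h ≫ b) ≫ 𝟙 _
            rw [Category.comp_id, ← h1, ι_Ψ₂_map_assoc] } }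
  exact
    { desc := fun s => mapBifunctorDesc (K₁ := F) (K₂ := c.pt) (F := T)
        (c := ComplexShape.up ℤ) (j := n) (fun p q h => (hpq p q).desc (cc s p q h))
      fac := fun s j => by
        refine mapBifunctor.hom_ext (K₁ := F) (K₂ := G.obj j) (F := T) (c := ComplexShape.up ℤ)
          (fun p q h => ?_)
        let d : (mapBifunctor F c.pt T (ComplexShape.up ℤ)).X n ⟶ s.pt :=
          mapBifunctorDesc (K₁ := F) (K₂ := c.pt) (F := T)
            (c := ComplexShape.up ℤ) (j := n) (fun p q h => (hpq p q).desc (cc s p q h))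
        have hd : ιMapBifunctor F c.pt T (ComplexShape.up ℤ) p q n h ≫ d =
            (hpq p q).desc (cc s p q h) := ι_mapBifunctorDesc _ _ _ _
        let b : (mapBifunctor F (G.obj j) T (ComplexShape.up ℤ)).X n ⟶ s.pt := s.ι.app j
        let ιj : G.obj j ⟶ c.pt := c.ι.app j
        change ιMapBifunctor F (G.obj j) T (ComplexShape.up ℤ) p q n h ≫
          (mapBifunctorMap (𝟙 F) ιj T (ComplexShape.up ℤ)).f n ≫ d =
          ιMapBifunctor F (G.obj j) T (ComplexShape.up ℤ) p q n h ≫ b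
        rw [ι_Ψ₂_map_assoc, hd]
        exact (hpq p q).fac (cc s p q h) j
      uniq := fun s m hm => by
        refine mapBifunctor.hom_ext (K₁ := F) (K₂ := c.pt) (F := T) (c := ComplexShape.up ℤ)
          (fun p q h => ?_)
        refine Eq.trans ?_ (ι_mapBifunctorDesc _ _ _ _).symm
        refine (hpq p q).uniq (cc s p q h) _ (fun j => ?_)
        let m' : (mapBifunctor F c.pt T (ComplexShape.up ℤ)).X n ⟶ s.pt := m
        let b : (mapBifunctor F (G.obj j) T (ComplexShape.up ℤ)).X n ⟶ s.pt := s.ι.app j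
        let ιj : G.obj j ⟶ c.pt := c.ι.app j
        have h2 : (mapBifunctorMap (𝟙 F) ιj T (ComplexShape.up ℤ)).f n ≫ m' = b := hm j
        change (T.obj (F.X p)).map (ιj.f q) ≫
          ιMapBifunctor F c.pt T (ComplexShape.up ℤ) p q n h ≫ m' =
          ιMapBifunctor F (G.obj j) T (ComplexShape.up ℤ) p q n h ≫ b
        rw [← h2, ι_Ψ₂_map_assoc] }

/-- `Tot(T(F,-))` preserves colimits of shape `J` when each `T(X,-)` does -/
theorem preservesColimitsOfShape_Ψ₂ (F : CochainComplex C₁ ℤ) :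
    PreservesColimitsOfShape J (Ψ₂ T F) :=
  preservesColimitsOfShape_of_eval _
    (fun n => ⟨fun {_} => ⟨fun {c} hc => ⟨isColimitMapCoconeΨ₂Eval T F n c hc⟩⟩⟩)

/-- a colimit (of exact shape, e.g. filtered in an AB5 category) of K-flat complexes is K-flat -/
theorem isKFlat₂_of_isColimit [HasColimitsOfShape J D] [HasExactColimitsOfShape J D]
    {G : J ⥤ CochainComplex C₂ ℤ} (c : Cocone G) (hc : IsColimit c)
    (h : ∀ j, IsKFlat₂ T (G.obj j)) : IsKFlat₂ T c.pt := by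
  intro F hF
  have := preservesColimitsOfShape_Ψ₂ T (J := J) F
  exact acyclic_of_isColimit ((Ψ₂ T F).mapCocone c) (isColimitOfPreserves _ hc)
    (fun j => h j F hF)

end Colim

end Groth.Agent.Lib.Helper94.KFlatBi
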