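import Groth.Agent.Lib.Helper94.ResolvingCx
import Groth.Agent.Lib.Helper94.KFlatCycles

/-!
# K-flat complexes compute derived tensor products on ringed sites (helper94)

Namespace `Groth.Agent.Lib.Helper94.KFlatDerSite`.
-/

universe u

open CategoryTheory CategoryTheory.Limits HomologicalComplex CochainComplex

namespace Groth.Agent.Lib.Helper94.KFlatDerSite

open Groth.Agent.Lib.Helper94.KFlatBi Groth.Agent.Lib.Helper94.KFlatAbs
  Groth.Agent.Lib.Helper94.KFlatTrunc Groth.Agent.Lib.Helper94.KFlatRes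
  Groth.Agent.Lib.Helper94.KFlatSymm Groth.Agent.Lib.Helper94.KFlatSite
  Groth.Agent.Lib.Helper94.KFlatResInst Groth.Agent.Lib.Helper94.KFlatCycles
  Groth.Agent.Lib.Helper94.ModFlat Groth.Agent.Lib.Helper94.ModTensor
  Groth.Agent.Lib.Helper94.ResolvingCx

section Functor

variable {A : Type*} [Category A] [Abelian A] {B : Type*} [Category B] [Abelian B]
  (G : A ⥤ B) [G.Additive]

lemma preservesHomotopy_mapHomologicalComplex :
    PreservesHomotopy (G.mapHomologicalComplex (ComplexShape.up ℤ)) :=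
  fun _ _ _ _ h => ⟨G.mapHomotopy h⟩

lemma preservesSplit_mapHomologicalComplex :
    PreservesSplit (G.mapHomologicalComplex (ComplexShape.up ℤ)) := by
  intro S hS
  refine HomologicalComplex.shortExact_of_degreewise_shortExact _ (fun n => ?_)
  exact ((hS n).some.map G).shortExact

end Functor

section Site

variable {C : Type u} [SmallCategory C] {J : GrothendieckTopology C} (O : Sheaf J CommRingCat.{u})

/-- K-flat complexes of `O`-modules form a resolving class -/
theorem isResolving_isKFlat₂ :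
    IsResolving (fun K : CochainComplex (ModSite.Mod O) ℤ => IsKFlat₂ (ModSite.tensorBi O) K) where
  of_homotopyEquiv e h := isKFlat₂_of_homotopyEquiv _ e h
  zero := by
    obtain ⟨Z, hZ⟩ : ∃ Z : CochainComplex (ModSite.Mod O) ℤ, IsZero Z :=
      HasZeroObject.zero
    exact ⟨Z, hZ, isKFlat₂_of_isZero_X _ _ (fun n =>
      (HomologicalComplex.eval _ _ n).map_isZero hZ)⟩
  shift K n h := isKFlat₂_shift _ n h
  cone φ hK hL := isKFlat₂_cone _ φ hK hL
  res K := by
    obtain ⟨P, q, h1, -, h3, -⟩ := exists_isKFlat_resolution (O := O) K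
    exact ⟨P, q, (isKFlat_iff P).1 h1, h3⟩

/-- a functor isomorphic to `- ⊗ M` preserves quasi-isomorphisms between K-flat complexes -/
theorem quasiIso_map_of_isKFlat₂ (G : ModSite.Mod O ⥤ ModSite.Mod O) [G.Additive] (M : ModSite.Mod O)
    (e : G ≅ tensL O M) {P P' : CochainComplex (ModSite.Mod O) ℤ} (φ : P ⟶ P')
    (hP : IsKFlat₂ (ModSite.tensorBi O) P) (hP' : IsKFlat₂ (ModSite.tensorBi O) P')
    (hφ : QuasiIso φ) : QuasiIso ((G.mapHomologicalComplex (ComplexShape.up ℤ)).map φ) := by
  refine quasiIso_map_of_acyclic_cone (Ψ := G.mapHomologicalComplex (ComplexShape.up ℤ)) φ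
    (preservesSplit_mapHomologicalComplex G) (preservesHomotopy_mapHomologicalComplex G) ?_
  have hC : IsKFlat₂ (ModSite.tensorBi O) (mappingCone φ) := isKFlat₂_cone _ φ hP hP'
  have hac : (mappingCone φ).Acyclic := (quasiIso_iff_acyclic_mappingCone φ).1 hφ
  intro p
  rw [exactAt_iff' _ (p - 1) p (p + 1) (by simp) (by simp)]
  have h1 := exact_map_tensL_of_kflat_acyclic O (mappingCone φ) hC hac M p
  exact (ShortComplex.exact_iff_of_iso
    (((mappingCone φ).sc' (p - 1) p (p + 1)).mapNatIso e)).2 h1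

variable [HasDerivedCategory (ModSite.Mod O)]

/-- the counit of a left derived functor of `- ⊗ M` is an isomorphism on K-flat complexes -/
theorem isIso_counit_app_tensor (G : ModSite.Mod O ⥤ ModSite.Mod O) [G.Additive]
    (M : ModSite.Mod O) (e : G ≅ tensL O M)
    (LF : DerivedCategory (ModSite.Mod O) ⥤ DerivedCategory (ModSite.Mod O))
    (α : DerivedCategory.Qh ⋙ LF ⟶
      G.mapHomotopyCategory (ComplexShape.up ℤ) ⋙ DerivedCategory.Qh)
    [LF.IsLeftDerivedFunctor α (HomotopyCategory.quasiIso (ModSite.Mod O) (ComplexShape.up ℤ))]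
    (P : CochainComplex (ModSite.Mod O) ℤ) (hP : IsKFlat₂ (ModSite.tensorBi O) P) :
    IsIso (α.app ((HomotopyCategory.quotient (ModSite.Mod O) (ComplexShape.up ℤ)).obj P)) := by
  refine isIso_counit_app (isResolving_isKFlat₂ O)
    (G.mapHomotopyCategory (ComplexShape.up ℤ) ⋙ DerivedCategory.Qh) ?_ DerivedCategory.Qh
    (HomotopyCategory.quasiIso (ModSite.Mod O) (ComplexShape.up ℤ)) rfl LF α P hP
  intro P P' φ hP hP' hφ
  have h1 : QuasiIso ((G.mapHomologicalComplex (ComplexShape.up ℤ)).map φ) :=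
    quasiIso_map_of_isKFlat₂ O G M e φ hP hP' hφ
  have h2 : HomotopyCategory.quasiIso (ModSite.Mod O) (ComplexShape.up ℤ)
      ((HomotopyCategory.quotient (ModSite.Mod O) (ComplexShape.up ℤ)).map
        ((G.mapHomologicalComplex (ComplexShape.up ℤ)).map φ)) :=
    (HomotopyCategory.quotient_map_mem_quasiIso_iff _).2 h1
  exact Localization.inverts DerivedCategory.Qh
    (HomotopyCategory.quasiIso (ModSite.Mod O) (ComplexShape.up ℤ)) _ h2

/-- the value of a left derived functor of `- ⊗ M` on a K-flat complex -/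
noncomputable def derivedTensorObjIso (G : ModSite.Mod O ⥤ ModSite.Mod O) [G.Additive]
    (M : ModSite.Mod O) (e : G ≅ tensL O M)
    (LF : DerivedCategory (ModSite.Mod O) ⥤ DerivedCategory (ModSite.Mod O))
    (α : DerivedCategory.Qh ⋙ LF ⟶
      G.mapHomotopyCategory (ComplexShape.up ℤ) ⋙ DerivedCategory.Qh)
    [LF.IsLeftDerivedFunctor α (HomotopyCategory.quasiIso (ModSite.Mod O) (ComplexShape.up ℤ))]
    (P : CochainComplex (ModSite.Mod O) ℤ) (hP : IsKFlat₂ (ModSite.tensorBi O) P) :
    LF.obj (DerivedCategory.Q.obj P) ≅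
      DerivedCategory.Q.obj ((G.mapHomologicalComplex (ComplexShape.up ℤ)).obj P) :=
  haveI := isIso_counit_app_tensor O G M e LF α P hP
  LF.mapIso ((DerivedCategory.quotientCompQhIso (ModSite.Mod O)).symm.app P) ≪≫
    asIso (α.app ((HomotopyCategory.quotient (ModSite.Mod O) (ComplexShape.up ℤ)).obj P)) ≪≫
    (DerivedCategory.quotientCompQhIso (ModSite.Mod O)).app
      ((G.mapHomologicalComplex (ComplexShape.up ℤ)).obj P)

end Site

end Groth.Agent.Lib.Helper94.KFlatDerSite
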