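import Groth.Agent.Lib.Helper94.KFlatRes
import Mathlib.Algebra.Homology.BifunctorFlip

/-!
# Tensoring a quasi-isomorphism of K-flat complexes with an arbitrary complex (helper94)

Namespace `Groth.Agent.Lib.Helper94.KFlatSymm`.
-/

universe v₁ v₂ v₃ u₁ u₂ u₃

open CategoryTheory CategoryTheory.Limits HomologicalComplex CochainComplex

namespace Groth.Agent.Lib.Helper94.KFlatSymm

open Groth.Agent.Lib.Helper94.KFlatBi Groth.Agent.Lib.Helper94.KFlatAbs
  Groth.Agent.Lib.Helper94.KFlatTrunc Groth.Agent.Lib.Helper94.KFlatRes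

variable {C₁ : Type u₁} [Category.{v₁} C₁] [Abelian C₁] {C₂ : Type u₂} [Category.{v₂} C₂] [Abelian C₂]
  {D : Type u₃} [Category.{v₃} D] [Abelian D]
  (T : C₁ ⥤ C₂ ⥤ D) [T.Additive] [∀ X, (T.obj X).Additive]
  [∀ (K₁ : CochainComplex C₁ ℤ) (K₂ : CochainComplex C₂ ℤ),
    HasMapBifunctor K₁ K₂ T (ComplexShape.up ℤ)]

/-- `F` is K-flat with respect to `T` in the first variable -/
def IsKFlat₁ (F : CochainComplex C₁ ℤ) : Prop :=
  ∀ L : CochainComplex C₂ ℤ, L.Acyclic → (mapBifunctor F L T (ComplexShape.up ℤ)).Acyclic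

lemma acyclic_of_quasiIso {A : Type*} [Category A] [Abelian A] {K L : CochainComplex A ℤ}
    (f : K ⟶ L) [QuasiIso f] (hK : K.Acyclic) : L.Acyclic := by
  intro i
  have h3 := hK i
  rw [exactAt_iff_isZero_homology] at h3 ⊢
  exact h3.of_iso (asIso (homologyMap f i)).symm

/-- if every complex has a resolution by a complex which is K-flat in the first variable, then
tensoring with an acyclic K-flat complex gives an acyclic complex -/
theorem acyclic_of_isKFlat₂_of_acyclic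
    (hres : ∀ F : CochainComplex C₁ ℤ, ∃ (F' : CochainComplex C₁ ℤ) (r : F' ⟶ F),
      QuasiIso r ∧ IsKFlat₁ T F')
    (Cx : CochainComplex C₂ ℤ) (hC : IsKFlat₂ T Cx) (hCa : Cx.Acyclic) (F : CochainComplex C₁ ℤ) :
    (mapBifunctor F Cx T (ComplexShape.up ℤ)).Acyclic := by
  obtain ⟨F', r, hr, hF'⟩ := hres F
  have h1 : (mapBifunctor F' Cx T (ComplexShape.up ℤ)).Acyclic := hF' Cx hCa
  have h2 : QuasiIso (mapBifunctorMap r (𝟙 Cx) T (ComplexShape.up ℤ)) :=
    quasiIso_mapBifunctorMap_left T Cx hC r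
  exact acyclic_of_quasiIso (mapBifunctorMap r (𝟙 Cx) T (ComplexShape.up ℤ)) h1

/-- a quasi-isomorphism between K-flat complexes stays a quasi-isomorphism after tensoring with
any complex -/
theorem quasiIso_mapBifunctorMap_right
    (hres : ∀ F : CochainComplex C₁ ℤ, ∃ (F' : CochainComplex C₁ ℤ) (r : F' ⟶ F),
      QuasiIso r ∧ IsKFlat₁ T F')
    {P Q : CochainComplex C₂ ℤ} (α : P ⟶ Q) [hα : QuasiIso α] (hP : IsKFlat₂ T P)
    (hQ : IsKFlat₂ T Q) (F : CochainComplex C₁ ℤ) :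
    QuasiIso (mapBifunctorMap (𝟙 F) α T (ComplexShape.up ℤ)) :=
  quasiIso_map_of_acyclic_cone (Ψ := Ψ₂ T F) α (preservesSplit_Ψ₂ T F) (preservesHomotopy_Ψ₂ T F)
    (acyclic_of_isKFlat₂_of_acyclic T hres _ (isKFlat₂_cone T α hP hQ)
      ((quasiIso_iff_acyclic_mappingCone α).1 hα) F)

section Flip

instance : T.flip.Additive where
  map_add := by
    intro X Y f g
    ext Z
    simp

instance (Y : C₂) : (T.flip.obj Y).Additive where
  map_add := by
    intro X X' f g
    simp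

lemma isKFlat₁_of_isKFlat₂_flip (F : CochainComplex C₁ ℤ) (h : IsKFlat₂ T.flip F) :
    IsKFlat₁ T F := fun L hL =>
  acyclic_of_iso (mapBifunctorFlipIso F L T (ComplexShape.up ℤ)) (h L hL)

end Flip

end Groth.Agent.Lib.Helper94.KFlatSymm
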