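import Mathlib.CategoryTheory.Functor.KanExtension.Basic
import Mathlib.CategoryTheory.Functor.Derived.LeftDerived

/-!
# Transfer of right Kan extensions along a quotient functor (helper94)

Namespace `Groth.Agent.Lib.Helper94.KanTransfer`.
If `q : C ⥤ Hc` is surjective on objects, `Q ≅ q ⋙ Qh`, `F ≅ q ⋙ F_h` and `(LF, α)` is a right
Kan extension of `F` along `Q`, then `(LF, α_h)` is a right Kan extension of `F_h` along `Qh`
as soon as `α_h` restricts to `α` along `q`.
-/

open CategoryTheory CategoryTheory.Limits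

namespace Groth.Agent.Lib.Helper94.KanTransfer

universe v₁ v₂ v₃ v₄ u₁ u₂ u₃ u₄

variable {C : Type u₁} [Category.{v₁} C] {Hc : Type u₂} [Category.{v₂} Hc]
  {D : Type u₃} [Category.{v₃} D] {H : Type u₄} [Category.{v₄} H]

variable (q : C ⥤ Hc) (Qh : Hc ⥤ D) (Q : C ⥤ D) (e₁ : q ⋙ Qh ≅ Q) (F : C ⥤ H) (F_h : Hc ⥤ H)
  (e₂ : q ⋙ F_h ≅ F)

/-- the transported counit -/
def tr (G : D ⥤ H) (β : Qh ⋙ G ⟶ F_h) : Q ⋙ G ⟶ F where
  app K := G.map (e₁.inv.app K) ≫ β.app (q.obj K) ≫ e₂.hom.app K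
  naturality := by
    intro K K' f
    have h1 := e₁.inv.naturality f
    have h2 := β.naturality (q.map f)
    have h3 := e₂.hom.naturality f
    dsimp at h1 h2 h3 ⊢
    rw [← G.map_comp_assoc, h1, G.map_comp_assoc, reassoc_of% h2, h3]
    simp

variable {q Qh Q F F_h}

lemma tr_app (G : D ⥤ H) (β : Qh ⋙ G ⟶ F_h) (K : C) :
    (tr q Qh Q e₁ F F_h e₂ G β).app K = G.map (e₁.inv.app K) ≫ β.app (q.obj K) ≫ e₂.hom.app K :=
  rfl

theorem isRightKanExtension_of_quotient (hq : ∀ X : Hc, ∃ K : C, q.obj K = X)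
    (LF : D ⥤ H) (α : Q ⋙ LF ⟶ F) [LF.IsRightKanExtension α] (α_h : Qh ⋙ LF ⟶ F_h)
    (hα : ∀ K : C, α_h.app (q.obj K) = LF.map (e₁.hom.app K) ≫ α.app K ≫ e₂.inv.app K) :
    LF.IsRightKanExtension α_h := by
  have key : ∀ (G : D ⥤ H) (β : Qh ⋙ G ⟶ F_h) (γ : G ⟶ LF),
      Functor.whiskerLeft Qh γ ≫ α_h = β ↔
        Functor.whiskerLeft Q γ ≫ α = tr q Qh Q e₁ F F_h e₂ G β := by
    intro G β γ
    constructor
    · intro h
      ext K
      have h1 := congr_app h (q.obj K)
      have h2 := γ.naturality (e₁.hom.app K)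
      rw [NatTrans.comp_app, Functor.whiskerLeft_app, hα] at h1
      rw [NatTrans.comp_app, Functor.whiskerLeft_app, tr_app, ← h1]
      dsimp at h2 ⊢
      rw [← reassoc_of% h2]
      simp only [Category.assoc, Iso.inv_hom_id_app, Category.comp_id]
      rw [← G.map_comp_assoc, Iso.inv_hom_id_app, G.map_id, Category.id_comp]
    · intro h
      ext X
      obtain ⟨K, rfl⟩ := hq X
      have h1 := congr_app h K
      have h2 := γ.naturality (e₁.hom.app K)
      rw [NatTrans.comp_app, Functor.whiskerLeft_app, tr_app] at h1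
      rw [NatTrans.comp_app, Functor.whiskerLeft_app, hα]
      dsimp at h1 h2 ⊢
      rw [← reassoc_of% h2, reassoc_of% h1]
      simp only [Category.assoc, Iso.hom_inv_id_app, Category.comp_id]
      rw [← G.map_comp_assoc, Iso.hom_inv_id_app]
      erw [G.map_id, Category.id_comp, Category.comp_id]
  refine ⟨⟨IsTerminal.ofUniqueHom (fun E => ?_) (fun E m => ?_)⟩⟩
  · refine CostructuredArrow.homMk
      (LF.liftOfIsRightKanExtension α E.left (tr q Qh Q e₁ F F_h e₂ E.left E.hom)) ?_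
    exact (key E.left E.hom _).2 (LF.liftOfIsRightKanExtension_fac α E.left _)
  · ext1
    refine LF.hom_ext_of_isRightKanExtension α _ _ ?_
    have h1 : Functor.whiskerLeft Qh m.left ≫ α_h = E.hom := CostructuredArrow.w m
    rw [(key E.left E.hom m.left).1 h1]
    exact (LF.liftOfIsRightKanExtension_fac α E.left _).symm

end Groth.Agent.Lib.Helper94.KanTransfer
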