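import Groth.Agent.Lib.Helper94.LTensorAssocB

/-!
# `(- ⊗^L K) ⊗^L L ≅ - ⊗^L Tot(K ⊗ L)` for `L` K-flat (helper94)

Namespace `Groth.Agent.Lib.Helper94.LTensorAssoc`.
-/

universe u

open CategoryTheory CategoryTheory.Limits HomologicalComplex CochainComplex

attribute [local instance] HasDerivedCategory.standard

namespace Groth.Agent.Lib.Helper94.LTensorAssoc

open Groth.Agent.Lib.Helper94.KFlatBi Groth.Agent.Lib.Helper94.KFlatAbs
  Groth.Agent.Lib.Helper94.ResolvingCx Groth.Agent.Lib.Helper94.LTensorKFlat1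
  Groth.Agent.Lib.Helper94.LTensorKFlat1B Groth.Agent.Lib.Helper94.TotAssoc
  Groth.Agent.Lib.Helper94.LTensorCxSite

variable {C : Type u} [SmallCategory C] {J : GrothendieckTopology C} {O : Sheaf J CommRingCat.{u}}

variable (K L : CochainComplex (ModSite.Mod O) ℤ)

/-- `RHom(K, RHom(L, M)) ≅ RHom(Tot(K ⊗ L), M)` for `L` K-flat -/
theorem main (hL : ModSite.IsKFlat L)
    [ModSite.HasLTensorCx K] [hK' : (ModSite.LTensorCx K).IsLeftAdjoint]
    [ModSite.HasLTensorCx L] [hL' : (ModSite.LTensorCx L).IsLeftAdjoint]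
    [ModSite.HasLTensorCx (((ModSite.tensorCx O).obj K).obj L)]
    [hT' : (ModSite.LTensorCx (((ModSite.tensorCx O).obj K).obj L)).IsLeftAdjoint]
    (M : DerivedCategory (ModSite.Mod O)) :
    Nonempty ((ModSite.LTensorCx K).rightAdjoint.obj ((ModSite.LTensorCx L).rightAdjoint.obj M) ≅
      (ModSite.LTensorCx (((ModSite.tensorCx O).obj K).obj L)).rightAdjoint.obj M) := by
  have hL2 : IsKFlat₂ (ModSite.tensorBi O) L := by
    intro F hF
    exact (Groth.Agent.Lib.Helper94.KFlatSite.acyclic_iff_isZero_homology _).2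
      (hL F ((Groth.Agent.Lib.Helper94.KFlatSite.acyclic_iff_isZero_homology F).1 hF))
  let e : ModSite.LTensorCx K ⋙ ModSite.LTensorCx L ≅
      ModSite.LTensorCx (((ModSite.tensorCx O).obj K).obj L) :=
    compIso K L (ModSite.LTensorCx K) (ModSite.LTensorCx L)
      (ModSite.LTensorCx (((ModSite.tensorCx O).obj K).obj L))
      ((ModSite.tensorCxQ K).totalLeftDerivedCounit DerivedCategory.Q
        (HomologicalComplex.quasiIso (ModSite.Mod O) (ComplexShape.up ℤ)))
      ((ModSite.tensorCxQ L).totalLeftDerivedCounit DerivedCategory.Q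
        (HomologicalComplex.quasiIso (ModSite.Mod O) (ComplexShape.up ℤ)))
      ((ModSite.tensorCxQ (((ModSite.tensorCx O).obj K).obj L)).totalLeftDerivedCounit
        DerivedCategory.Q (HomologicalComplex.quasiIso (ModSite.Mod O) (ComplexShape.up ℤ))) hL2
  let adjK : ModSite.LTensorCx K ⊣ (ModSite.LTensorCx K).rightAdjoint :=
    Adjunction.ofIsLeftAdjoint _
  let adjL : ModSite.LTensorCx L ⊣ (ModSite.LTensorCx L).rightAdjoint :=
    Adjunction.ofIsLeftAdjoint _
  let adjT : ModSite.LTensorCx (((ModSite.tensorCx O).obj K).obj L) ⊣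
      (ModSite.LTensorCx (((ModSite.tensorCx O).obj K).obj L)).rightAdjoint :=
    Adjunction.ofIsLeftAdjoint _
  exact ⟨(((adjK.comp adjL).ofNatIsoLeft e).rightAdjointUniq adjT).app M⟩

/-- `RHom(Tot(K ⊗ L), -) ≅ RHom(L, -) ⋙ RHom(K, -)` for `L` K-flat -/
theorem mainNat (hL : ModSite.IsKFlat L)
    [ModSite.HasLTensorCx K] [hK' : (ModSite.LTensorCx K).IsLeftAdjoint]
    [ModSite.HasLTensorCx L] [hL' : (ModSite.LTensorCx L).IsLeftAdjoint]
    [ModSite.HasLTensorCx (((ModSite.tensorCx O).obj K).obj L)]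
    [hT' : (ModSite.LTensorCx (((ModSite.tensorCx O).obj K).obj L)).IsLeftAdjoint] :
    Nonempty ((ModSite.LTensorCx (((ModSite.tensorCx O).obj K).obj L)).rightAdjoint ≅
      (ModSite.LTensorCx L).rightAdjoint ⋙ (ModSite.LTensorCx K).rightAdjoint) := by
  have hL2 : IsKFlat₂ (ModSite.tensorBi O) L := by
    intro F hF
    exact (Groth.Agent.Lib.Helper94.KFlatSite.acyclic_iff_isZero_homology _).2
      (hL F ((Groth.Agent.Lib.Helper94.KFlatSite.acyclic_iff_isZero_homology F).1 hF))
  let e : ModSite.LTensorCx K ⋙ ModSite.LTensorCx L ≅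
      ModSite.LTensorCx (((ModSite.tensorCx O).obj K).obj L) :=
    compIso K L (ModSite.LTensorCx K) (ModSite.LTensorCx L)
      (ModSite.LTensorCx (((ModSite.tensorCx O).obj K).obj L))
      ((ModSite.tensorCxQ K).totalLeftDerivedCounit DerivedCategory.Q
        (HomologicalComplex.quasiIso (ModSite.Mod O) (ComplexShape.up ℤ)))
      ((ModSite.tensorCxQ L).totalLeftDerivedCounit DerivedCategory.Q
        (HomologicalComplex.quasiIso (ModSite.Mod O) (ComplexShape.up ℤ)))
      ((ModSite.tensorCxQ (((ModSite.tensorCx O).obj K).obj L)).totalLeftDerivedCounit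
        DerivedCategory.Q (HomologicalComplex.quasiIso (ModSite.Mod O) (ComplexShape.up ℤ))) hL2
  let adjK : ModSite.LTensorCx K ⊣ (ModSite.LTensorCx K).rightAdjoint :=
    Adjunction.ofIsLeftAdjoint _
  let adjL : ModSite.LTensorCx L ⊣ (ModSite.LTensorCx L).rightAdjoint :=
    Adjunction.ofIsLeftAdjoint _
  let adjT : ModSite.LTensorCx (((ModSite.tensorCx O).obj K).obj L) ⊣
      (ModSite.LTensorCx (((ModSite.tensorCx O).obj K).obj L)).rightAdjoint :=
    Adjunction.ofIsLeftAdjoint _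
  exact ⟨(((adjK.comp adjL).ofNatIsoLeft e).rightAdjointUniq adjT).symm⟩

end Groth.Agent.Lib.Helper94.LTensorAssoc
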