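import Groth.Agent.Lib.Helper94.LTensorKFlat1B

/-!
# `- ⊗^L E` only depends on the quasi-isomorphism class of `E` (helper94)

Namespace `Groth.Agent.Lib.Helper94.LTensorQis`.
-/

universe u

open CategoryTheory CategoryTheory.Limits HomologicalComplex CochainComplex

attribute [local instance] HasDerivedCategory.standard

namespace Groth.Agent.Lib.Helper94.LTensorQis

open Groth.Agent.Lib.Helper94.KFlatBi Groth.Agent.Lib.Helper94.KFlatAbs
  Groth.Agent.Lib.Helper94.ResolvingCx Groth.Agent.Lib.Helper94.LTensorKFlat1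
  Groth.Agent.Lib.Helper94.LTensorKFlat1B

variable {C : Type u} [SmallCategory C] {J : GrothendieckTopology C} {O : Sheaf J CommRingCat.{u}}

/-- tensoring a quasi-isomorphism with a first-variable K-flat complex on the left -/
theorem quasiIso_tensor_left_of_Pr (K : CochainComplex (ModSite.Mod O) ℤ) (hK : Pr K)
    {P E : CochainComplex (ModSite.Mod O) ℤ} (s : P ⟶ E) [QuasiIso s] :
    QuasiIso (mapBifunctorMap (𝟙 K) s (ModSite.tensorBi O) (ComplexShape.up ℤ)) := by
  have h1 : QuasiIso (mapBifunctorMap s (𝟙 K) (ModSite.tensorBi O).flip (ComplexShape.up ℤ)) :=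
    quasiIso_mapBifunctorMap_left (ModSite.tensorBi O).flip K hK s
  have h2 := mapBifunctorFlipIso_hom_naturality (𝟙 K) s (ModSite.tensorBi O) (ComplexShape.up ℤ)
  have h3 : mapBifunctorMap (𝟙 K) s (ModSite.tensorBi O) (ComplexShape.up ℤ) =
      (mapBifunctorFlipIso K P (ModSite.tensorBi O) (ComplexShape.up ℤ)).inv ≫
        mapBifunctorMap s (𝟙 K) (ModSite.tensorBi O).flip (ComplexShape.up ℤ) ≫
        (mapBifunctorFlipIso K E (ModSite.tensorBi O) (ComplexShape.up ℤ)).hom := by
    rw [h2, Iso.inv_hom_id_assoc]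
  rw [h3]
  infer_instance

/-- the natural transformation `- ⊗ P ⟶ - ⊗ E` induced by `s : P ⟶ E` -/
noncomputable def τ {P E : CochainComplex (ModSite.Mod O) ℤ} (s : P ⟶ E) :
    ModSite.tensorCxQ P ⟶ ModSite.tensorCxQ E :=
  Functor.whiskerRight ((ModSite.tensorCx O).flip.map s) DerivedCategory.Q

lemma τ_app {P E : CochainComplex (ModSite.Mod O) ℤ} (s : P ⟶ E)
    (K : CochainComplex (ModSite.Mod O) ℤ) :
    (τ s).app K = DerivedCategory.Q.map
      (mapBifunctorMap (𝟙 K) s (ModSite.tensorBi O) (ComplexShape.up ℤ)) := rfl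

section

variable {P E : CochainComplex (ModSite.Mod O) ℤ} (s : P ⟶ E) [QuasiIso s]
  (LF' LF : DerivedCategory (ModSite.Mod O) ⥤ DerivedCategory (ModSite.Mod O))
  (α' : DerivedCategory.Q ⋙ LF' ⟶ ModSite.tensorCxQ P)
  (α : DerivedCategory.Q ⋙ LF ⟶ ModSite.tensorCxQ E)
  [LF'.IsLeftDerivedFunctor α' (HomologicalComplex.quasiIso (ModSite.Mod O) (ComplexShape.up ℤ))]
  [LF.IsLeftDerivedFunctor α (HomologicalComplex.quasiIso (ModSite.Mod O) (ComplexShape.up ℤ))]

/-- the comparison between the derived tensor products is an isomorphism -/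
theorem isIso_leftDerivedNatTrans :
    IsIso (Functor.leftDerivedNatTrans LF' LF α' α
      (HomologicalComplex.quasiIso (ModSite.Mod O) (ComplexShape.up ℤ)) (τ s)) := by
  let c := Functor.leftDerivedNatTrans LF' LF α' α
      (HomologicalComplex.quasiIso (ModSite.Mod O) (ComplexShape.up ℤ)) (τ s)
  have hc : ∀ K : CochainComplex (ModSite.Mod O) ℤ, Pr K → IsIso (c.app (DerivedCategory.Q.obj K)) := by
    intro K hK
    have h1 : c.app (DerivedCategory.Q.obj K) ≫ α.app K = α'.app K ≫ (τ s).app K :=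
      Functor.leftDerivedNatTrans_app LF' LF α' α _ (τ s) K
    have h2 : IsIso (α.app K) := isIso_counit_app_of_Pr E LF α K hK
    have h3 : IsIso (α'.app K) := isIso_counit_app_of_Pr P LF' α' K hK
    have h4 : IsIso ((τ s).app K) := by
      change IsIso (DerivedCategory.Q.map
        (mapBifunctorMap (𝟙 K) s (ModSite.tensorBi O) (ComplexShape.up ℤ)))
      rw [DerivedCategory.isIso_Q_map_iff_quasiIso]
      exact quasiIso_tensor_left_of_Pr K hK s
    have h5 : c.app (DerivedCategory.Q.obj K) = (α'.app K ≫ (τ s).app K) ≫ inv (α.app K) := by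
      rw [← h1, Category.assoc, IsIso.hom_inv_id, Category.comp_id]
    rw [h5]
    infer_instance
  have : ∀ X, IsIso (c.app X) := by
    intro X
    let K := DerivedCategory.Q.objPreimage X
    let e : DerivedCategory.Q.obj K ≅ X := DerivedCategory.Q.objObjPreimageIso X
    obtain ⟨K', r, hK', hr⟩ := (isResolving_Pr (O := O)).res K
    have hr' : IsIso (DerivedCategory.Q.map r) := by
      rw [DerivedCategory.isIso_Q_map_iff_quasiIso]
      exact hr
    let e' : DerivedCategory.Q.obj K' ≅ X := asIso (DerivedCategory.Q.map r) ≪≫ e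
    have h1 := hc K' hK'
    have h2 := c.naturality e'.hom
    have h3 : c.app X = LF'.map e'.inv ≫ c.app (DerivedCategory.Q.obj K') ≫ LF.map e'.hom := by
      rw [← h2, ← LF'.map_comp_assoc, Iso.inv_hom_id, LF'.map_id, Category.id_comp]
    rw [h3]
    infer_instance
  exact NatIso.isIso_of_isIso_app c

end

end Groth.Agent.Lib.Helper94.LTensorQis
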