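import Mathlib.Algebra.Homology.BifunctorAssociator

/-!
# Naturality of the associator of total complexes in the first variable (helper94)

Namespace `Groth.Agent.Lib.Helper94.TotAssocNat`.
-/

open CategoryTheory Category Limits HomologicalComplex

namespace Groth.Agent.Lib.Helper94.TotAssocNat

variable {C₁ C₂ C₁₂ C₂₃ C₃ C₄ : Type*}
  [Category C₁] [Category C₂] [Category C₃] [Category C₄] [Category C₁₂] [Category C₂₃]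
  [HasZeroMorphisms C₁] [HasZeroMorphisms C₂] [HasZeroMorphisms C₃]
  [Preadditive C₁₂] [Preadditive C₂₃] [Preadditive C₄]
  {F₁₂ : C₁ ⥤ C₂ ⥤ C₁₂} {G : C₁₂ ⥤ C₃ ⥤ C₄}
  {F : C₁ ⥤ C₂₃ ⥤ C₄} {G₂₃ : C₂ ⥤ C₃ ⥤ C₂₃}
  [F₁₂.PreservesZeroMorphisms] [∀ (X₁ : C₁), (F₁₂.obj X₁).PreservesZeroMorphisms]
  [G.Additive] [∀ (X₁₂ : C₁₂), (G.obj X₁₂).PreservesZeroMorphisms]
  [G₂₃.PreservesZeroMorphisms] [∀ (X₂ : C₂), (G₂₃.obj X₂).PreservesZeroMorphisms]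
  [F.PreservesZeroMorphisms] [∀ (X₁ : C₁), (F.obj X₁).Additive]
  (associator : bifunctorComp₁₂ F₁₂ G ≅ bifunctorComp₂₃ F G₂₃)
  {ι₁ ι₂ ι₃ ι₁₂ ι₂₃ ι₄ : Type*} [DecidableEq ι₄]
  {c₁ : ComplexShape ι₁} {c₂ : ComplexShape ι₂} {c₃ : ComplexShape ι₃}
  {K₁ K₁' : HomologicalComplex C₁ c₁} (f : K₁ ⟶ K₁') (K₂ : HomologicalComplex C₂ c₂)
  (K₃ : HomologicalComplex C₃ c₃)
  (c₁₂ : ComplexShape ι₁₂) (c₂₃ : ComplexShape ι₂₃) (c₄ : ComplexShape ι₄)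
  [TotalComplexShape c₁ c₂ c₁₂] [TotalComplexShape c₁₂ c₃ c₄]
  [TotalComplexShape c₂ c₃ c₂₃] [TotalComplexShape c₁ c₂₃ c₄]
  [HasMapBifunctor K₁ K₂ F₁₂ c₁₂] [HasMapBifunctor K₁' K₂ F₁₂ c₁₂]
  [HasMapBifunctor K₂ K₃ G₂₃ c₂₃]
  [ComplexShape.Associative c₁ c₂ c₃ c₁₂ c₂₃ c₄]
  [DecidableEq ι₁₂] [DecidableEq ι₂₃]
  [HasMapBifunctor (mapBifunctor K₁ K₂ F₁₂ c₁₂) K₃ G c₄]
  [HasMapBifunctor (mapBifunctor K₁' K₂ F₁₂ c₁₂) K₃ G c₄]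
  [HasMapBifunctor K₁ (mapBifunctor K₂ K₃ G₂₃ c₂₃) F c₄]
  [HasMapBifunctor K₁' (mapBifunctor K₂ K₃ G₂₃ c₂₃) F c₄]
  [HasGoodTrifunctor₁₂Obj F₁₂ G K₁ K₂ K₃ c₁₂ c₄]
  [HasGoodTrifunctor₁₂Obj F₁₂ G K₁' K₂ K₃ c₁₂ c₄]
  [HasGoodTrifunctor₂₃Obj F G₂₃ K₁ K₂ K₃ c₁₂ c₂₃ c₄]
  [HasGoodTrifunctor₂₃Obj F G₂₃ K₁' K₂ K₃ c₁₂ c₂₃ c₄]

omit [HasGoodTrifunctor₁₂Obj F₁₂ G K₁ K₂ K₃ c₁₂ c₄]
  [HasGoodTrifunctor₁₂Obj F₁₂ G K₁' K₂ K₃ c₁₂ c₄] in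
lemma ι₁₂_map (i₁ : ι₁) (i₂ : ι₂) (i₃ : ι₃) (j : ι₄)
    (h : ComplexShape.r c₁ c₂ c₃ c₁₂ c₄ (i₁, i₂, i₃) = j) :
    mapBifunctor₁₂.ι F₁₂ G K₁ K₂ K₃ c₁₂ c₄ i₁ i₂ i₃ j h ≫
      (mapBifunctorMap (mapBifunctorMap f (𝟙 K₂) F₁₂ c₁₂) (𝟙 K₃) G c₄).f j =
    (G.map ((F₁₂.map (f.f i₁)).app (K₂.X i₂))).app (K₃.X i₃) ≫
      mapBifunctor₁₂.ι F₁₂ G K₁' K₂ K₃ c₁₂ c₄ i₁ i₂ i₃ j h := by
  rw [mapBifunctor₁₂.ι_eq F₁₂ G K₁ K₂ K₃ c₁₂ c₄ i₁ i₂ i₃ _ j rfl h,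
    mapBifunctor₁₂.ι_eq F₁₂ G K₁' K₂ K₃ c₁₂ c₄ i₁ i₂ i₃ _ j rfl h,
    Category.assoc, ι_mapBifunctorMap, HomologicalComplex.id_f, CategoryTheory.Functor.map_id,
    Category.id_comp, ← NatTrans.comp_app_assoc, ← G.map_comp, ι_mapBifunctorMap,
    HomologicalComplex.id_f, CategoryTheory.Functor.map_id, Category.id_comp, G.map_comp,
    NatTrans.comp_app, Category.assoc]

omit [HasGoodTrifunctor₂₃Obj F G₂₃ K₁ K₂ K₃ c₁₂ c₂₃ c₄]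
  [HasGoodTrifunctor₂₃Obj F G₂₃ K₁' K₂ K₃ c₁₂ c₂₃ c₄] in
lemma ι₂₃_map (i₁ : ι₁) (i₂ : ι₂) (i₃ : ι₃) (j : ι₄)
    (h : ComplexShape.r c₁ c₂ c₃ c₁₂ c₄ (i₁, i₂, i₃) = j) :
    mapBifunctor₂₃.ι F G₂₃ K₁ K₂ K₃ c₁₂ c₂₃ c₄ i₁ i₂ i₃ j h ≫
      (mapBifunctorMap f (𝟙 (mapBifunctor K₂ K₃ G₂₃ c₂₃)) F c₄).f j =
    (F.map (f.f i₁)).app ((G₂₃.obj (K₂.X i₂)).obj (K₃.X i₃)) ≫
      mapBifunctor₂₃.ι F G₂₃ K₁' K₂ K₃ c₁₂ c₂₃ c₄ i₁ i₂ i₃ j h := by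
  have h' : ComplexShape.π c₁ c₂₃ c₄ (i₁, ComplexShape.π c₂ c₃ c₂₃ (i₂, i₃)) = j := by
    rw [← h, ← ComplexShape.assoc c₁ c₂ c₃ c₁₂ c₂₃ c₄]
    rfl
  rw [mapBifunctor₂₃.ι_eq F G₂₃ K₁ K₂ K₃ c₁₂ c₂₃ c₄ i₁ i₂ i₃ _ j rfl h',
    mapBifunctor₂₃.ι_eq F G₂₃ K₁' K₂ K₃ c₁₂ c₂₃ c₄ i₁ i₂ i₃ _ j rfl h',
    Category.assoc, ι_mapBifunctorMap, HomologicalComplex.id_f, CategoryTheory.Functor.map_id,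
    Category.id_comp, NatTrans.naturality_assoc]

/-- naturality of the associator of total complexes in the first variable -/
lemma associator_naturality₁ :
    mapBifunctorMap (mapBifunctorMap f (𝟙 K₂) F₁₂ c₁₂) (𝟙 K₃) G c₄ ≫
      (mapBifunctorAssociator associator K₁' K₂ K₃ c₁₂ c₂₃ c₄).hom =
    (mapBifunctorAssociator associator K₁ K₂ K₃ c₁₂ c₂₃ c₄).hom ≫
      mapBifunctorMap f (𝟙 (mapBifunctor K₂ K₃ G₂₃ c₂₃)) F c₄ := by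
  ext j : 1
  refine mapBifunctor₁₂.hom_ext (fun i₁ i₂ i₃ h => ?_)
  have hn : (G.map ((F₁₂.map (f.f i₁)).app (K₂.X i₂))).app (K₃.X i₃) ≫
      ((associator.hom.app (K₁'.X i₁)).app (K₂.X i₂)).app (K₃.X i₃) =
      ((associator.hom.app (K₁.X i₁)).app (K₂.X i₂)).app (K₃.X i₃) ≫
        (F.map (f.f i₁)).app ((G₂₃.obj (K₂.X i₂)).obj (K₃.X i₃)) :=
    congrArg (fun t => (t.app (K₂.X i₂)).app (K₃.X i₃))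
      (associator.hom.naturality (f.f i₁))
  change _ ≫ (_ ≫ (mapBifunctorAssociatorX associator K₁' K₂ K₃ c₁₂ c₂₃ c₄ j).hom) =
    _ ≫ ((mapBifunctorAssociatorX associator K₁ K₂ K₃ c₁₂ c₂₃ c₄ j).hom ≫ _)
  rw [← Category.assoc, ι₁₂_map, Category.assoc, ι_mapBifunctorAssociatorX_hom]
  refine Eq.trans ?_ ((Category.assoc _ _ _).symm.trans
    ((congrArg (· ≫ (mapBifunctorMap f (𝟙 (mapBifunctor K₂ K₃ G₂₃ c₂₃)) F c₄).f j)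
      (ι_mapBifunctorAssociatorX_hom associator K₁ K₂ K₃ c₁₂ c₂₃ c₄ i₁ i₂ i₃ j h)).trans
    ((Category.assoc _ _ _).trans
      (congrArg (((associator.hom.app (K₁.X i₁)).app (K₂.X i₂)).app (K₃.X i₃) ≫ ·)
        (ι₂₃_map f K₂ K₃ c₁₂ c₂₃ c₄ i₁ i₂ i₃ j h))))).symm
  exact (Category.assoc _ _ _).symm.trans
    ((congrArg (· ≫ mapBifunctor₂₃.ι F G₂₃ K₁' K₂ K₃ c₁₂ c₂₃ c₄ i₁ i₂ i₃ j h) hn).trans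
      (Category.assoc _ _ _))

end Groth.Agent.Lib.Helper94.TotAssocNat
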