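import Groth.Agent.Lib.Helper94.TotAssoc
import Groth.Agent.Lib.Helper94.TotAssocNat
import Groth.Agent.Lib.Helper94.LTensorQis

/-!
# `(- ⊗^L K) ⊗^L L ≅ - ⊗^L Tot(K ⊗ L)` for `L` K-flat, part A (helper94)

Namespace `Groth.Agent.Lib.Helper94.LTensorAssoc`.
-/

universe u

open CategoryTheory CategoryTheory.Limits HomologicalComplex CochainComplex

attribute [local instance] HasDerivedCategory.standard

namespace Groth.Agent.Lib.Helper94.LTensorAssoc

open Groth.Agent.Lib.Helper94.KFlatBi Groth.Agent.Lib.Helper94.KFlatAbs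
  Groth.Agent.Lib.Helper94.ResolvingCx Groth.Agent.Lib.Helper94.LTensorKFlat1
  Groth.Agent.Lib.Helper94.LTensorKFlat1B Groth.Agent.Lib.Helper94.TotAssoc
  Groth.Agent.Lib.Helper94.LTensorCxSite

variable {C : Type u} [SmallCategory C] {J : GrothendieckTopology C} {O : Sheaf J CommRingCat.{u}}

variable (K L : CochainComplex (ModSite.Mod O) ℤ)

/-- `Tot(Tot(- ⊗ K) ⊗ L) ≅ Tot(- ⊗ Tot(K ⊗ L))`, naturally -/
noncomputable def totAssocNat :
    (ModSite.tensorCx O).flip.obj K ⋙ (ModSite.tensorCx O).flip.obj L ≅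
      (ModSite.tensorCx O).flip.obj (((ModSite.tensorCx O).obj K).obj L) :=
  NatIso.ofComponents (fun N => totAssoc O N K L) (fun f =>
    Groth.Agent.Lib.Helper94.TotAssocNat.associator_naturality₁
      (Groth.Agent.Lib.Helper94.ModAssoc.associator O) f K L
      (ComplexShape.up ℤ) (ComplexShape.up ℤ) (ComplexShape.up ℤ))


end Groth.Agent.Lib.Helper94.LTensorAssoc
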