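import Groth.Agent.Lib.Helper94.LTensorAssocA

/-!
# `(- ⊗^L K) ⊗^L L ≅ - ⊗^L Tot(K ⊗ L)` for `L` K-flat, part B (helper94)

Namespace `Groth.Agent.Lib.Helper94.LTensorAssoc`.
-/

universe u

open CategoryTheory CategoryTheory.Limits HomologicalComplex CochainComplex

attribute [local instance] HasDerivedCategory.standard

namespace Groth.Agent.Lib.Helper94.LTensorAssoc

open Groth.Agent.Lib.Helper94.KFlatBi Groth.Agent.Lib.Helper94.KFlatAbs
  Groth.Agent.Lib.Helper94.ResolvingCx Groth.Agent.Lib.Helper94.LTensorKFlat1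
  Groth.Agent.Lib.Helper94.LTensorKFlat1B Groth.Agent.Lib.Helper94.TotAssoc
  Groth.Agent.Lib.Helper94.LTensorCxSite

variable {C : Type u} [SmallCategory C] {J : GrothendieckTopology C} {O : Sheaf J CommRingCat.{u}}

variable (K L : CochainComplex (ModSite.Mod O) ℤ)

section

variable
  (LFK LFL LFT : DerivedCategory (ModSite.Mod O) ⥤ DerivedCategory (ModSite.Mod O))
  (αK : DerivedCategory.Q ⋙ LFK ⟶ ModSite.tensorCxQ K)
  (αL : DerivedCategory.Q ⋙ LFL ⟶ ModSite.tensorCxQ L)
  (αT : DerivedCategory.Q ⋙ LFT ⟶ ModSite.tensorCxQ (((ModSite.tensorCx O).obj K).obj L))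

/-- the comparison `Q ⋙ (LFK ⋙ LFL) ⟶ Q(Tot(- ⊗ Tot(K ⊗ L)))` -/
noncomputable def β :
    DerivedCategory.Q ⋙ (LFK ⋙ LFL) ⟶
      ModSite.tensorCxQ (((ModSite.tensorCx O).obj K).obj L) :=
  (Functor.associator _ _ _).inv ≫ Functor.whiskerRight αK LFL ≫
    (Functor.associator _ _ _).hom ≫
    Functor.whiskerLeft ((ModSite.tensorCx O).flip.obj K) αL ≫
    (Functor.associator _ _ _).inv ≫
    Functor.whiskerRight (totAssocNat K L).hom DerivedCategory.Q

lemma β_app (N : CochainComplex (ModSite.Mod O) ℤ) :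
    (β K L LFK LFL αK αL).app N =
      LFL.map (αK.app N) ≫ αL.app (((ModSite.tensorCx O).obj N).obj K) ≫
        DerivedCategory.Q.map (totAssoc O N K L).hom := by
  unfold β
  simp
  rfl

variable
  [LFK.IsLeftDerivedFunctor αK (HomologicalComplex.quasiIso (ModSite.Mod O) (ComplexShape.up ℤ))]
  [LFL.IsLeftDerivedFunctor αL (HomologicalComplex.quasiIso (ModSite.Mod O) (ComplexShape.up ℤ))]
  [LFT.IsLeftDerivedFunctor αT (HomologicalComplex.quasiIso (ModSite.Mod O) (ComplexShape.up ℤ))]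

/-- the comparison `(- ⊗^L K) ⊗^L L ⟶ - ⊗^L Tot(K ⊗ L)` -/
noncomputable def comp : LFK ⋙ LFL ⟶ LFT :=
  LFT.leftDerivedLift αT (HomologicalComplex.quasiIso (ModSite.Mod O) (ComplexShape.up ℤ))
    (LFK ⋙ LFL) (β K L LFK LFL αK αL)

variable (hL : IsKFlat₂ (ModSite.tensorBi O) L)

include hL in
theorem isIso_comp : IsIso (comp K L LFK LFL LFT αK αL αT) := by
  let c := comp K L LFK LFL LFT αK αL αT
  have hαL : IsIso αL :=
    Functor.isIso_of_isLeftDerivedFunctor_of_inverts LFL αL (isInvertedBy_tensorCxQ L hL)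
  have hc : ∀ P : CochainComplex (ModSite.Mod O) ℤ, Pr P →
      IsIso (c.app (DerivedCategory.Q.obj P)) := by
    intro P hP
    have h1 : c.app (DerivedCategory.Q.obj P) ≫ αT.app P = (β K L LFK LFL αK αL).app P :=
      Functor.leftDerived_fac_app LFT αT _ _ _ P
    have h2 : IsIso (αT.app P) := isIso_counit_app_of_Pr _ LFT αT P hP
    have h3 : IsIso (αK.app P) := isIso_counit_app_of_Pr K LFK αK P hP
    have h4 : IsIso ((β K L LFK LFL αK αL).app P) := by
      rw [β_app]
      infer_instance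
    have h5 : c.app (DerivedCategory.Q.obj P) =
        (β K L LFK LFL αK αL).app P ≫ inv (αT.app P) := by
      rw [← h1, Category.assoc, IsIso.hom_inv_id, Category.comp_id]
    rw [h5]
    infer_instance
  have : ∀ X, IsIso (c.app X) := by
    intro X
    let N := DerivedCategory.Q.objPreimage X
    let e : DerivedCategory.Q.obj N ≅ X := DerivedCategory.Q.objObjPreimageIso X
    obtain ⟨P, r, hP, hr⟩ := (isResolving_Pr (O := O)).res N
    have hr' : IsIso (DerivedCategory.Q.map r) := by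
      rw [DerivedCategory.isIso_Q_map_iff_quasiIso]
      exact hr
    let e' : DerivedCategory.Q.obj P ≅ X := asIso (DerivedCategory.Q.map r) ≪≫ e
    have h1 := hc P hP
    have h2 := c.naturality e'.hom
    have h3 : c.app X = (LFK ⋙ LFL).map e'.inv ≫ c.app (DerivedCategory.Q.obj P) ≫
        LFT.map e'.hom := by
      rw [← h2, ← (LFK ⋙ LFL).map_comp_assoc, Iso.inv_hom_id, (LFK ⋙ LFL).map_id,
        Category.id_comp]
    rw [h3]
    infer_instance
  exact NatIso.isIso_of_isIso_app c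

/-- `(- ⊗^L K) ⊗^L L ≅ - ⊗^L Tot(K ⊗ L)` when `L` is K-flat -/
noncomputable def compIso : LFK ⋙ LFL ≅ LFT :=
  haveI := isIso_comp K L LFK LFL LFT αK αL αT hL
  asIso (comp K L LFK LFL LFT αK αL αT)

end


end Groth.Agent.Lib.Helper94.LTensorAssoc
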