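import Groth.Agent.Lib.Helper94.LTensorKFlat1

/-!
# `- ⊗^L E` is computed by complexes which are K-flat in the first variable, part B (helper94)

Namespace `Groth.Agent.Lib.Helper94.LTensorKFlat1B`.
-/

universe u

open CategoryTheory CategoryTheory.Limits HomologicalComplex CochainComplex

attribute [local instance] HasDerivedCategory.standard

namespace Groth.Agent.Lib.Helper94.LTensorKFlat1B

open Groth.Agent.Lib.Helper94.KFlatBi Groth.Agent.Lib.Helper94.KFlatAbs
  Groth.Agent.Lib.Helper94.ResolvingCx Groth.Agent.Lib.Helper94.LTensorKFlat1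
  Groth.Agent.Lib.Helper94.KanTransfer

variable {C : Type u} [SmallCategory C] {J : GrothendieckTopology C} {O : Sheaf J CommRingCat.{u}}

/-- `K ↦ Q(Tot(K ⊗ E))` on the homotopy category -/
noncomputable def Fh (E : CochainComplex (ModSite.Mod O) ℤ) :
    HomotopyCategory (ModSite.Mod O) (ComplexShape.up ℤ) ⥤ DerivedCategory (ModSite.Mod O) :=
  CategoryTheory.Quotient.lift _ (ModSite.tensorCxQ E) (by
    rintro K L f g ⟨h⟩
    exact DerivedCategory.Q_map_eq_of_homotopy (ModSite.Mod O)
      (mapBifunctorMapHomotopy₁ h (𝟙 E) (ModSite.tensorBi O) (ComplexShape.up ℤ)))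

/-- the factorisation of `tensorCxQ E` through the homotopy category -/
noncomputable def FhIso (E : CochainComplex (ModSite.Mod O) ℤ) :
    HomotopyCategory.quotient (ModSite.Mod O) (ComplexShape.up ℤ) ⋙ Fh E ≅ ModSite.tensorCxQ E :=
  CategoryTheory.Quotient.lift.isLift _ _ _

section

variable (E : CochainComplex (ModSite.Mod O) ℤ)
  (LF : DerivedCategory (ModSite.Mod O) ⥤ DerivedCategory (ModSite.Mod O))
  (α : DerivedCategory.Q ⋙ LF ⟶ ModSite.tensorCxQ E)

/-- the counit on the homotopy category -/
noncomputable def αh : DerivedCategory.Qh ⋙ LF ⟶ Fh E :=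
  CategoryTheory.Quotient.natTransLift _
    ((Functor.associator _ _ _).inv ≫
      Functor.whiskerRight (DerivedCategory.quotientCompQhIso (ModSite.Mod O)).hom LF ≫ α ≫
      (FhIso E).inv)

lemma αh_app (K : CochainComplex (ModSite.Mod O) ℤ) :
    (αh E LF α).app ((HomotopyCategory.quotient (ModSite.Mod O) (ComplexShape.up ℤ)).obj K) =
      LF.map ((DerivedCategory.quotientCompQhIso (ModSite.Mod O)).hom.app K) ≫ α.app K ≫
        (FhIso E).inv.app K := by
  change ((Functor.associator _ _ _).inv ≫
      Functor.whiskerRight (DerivedCategory.quotientCompQhIso (ModSite.Mod O)).hom LF ≫ α ≫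
      (FhIso E).inv).app K = _
  simp

instance isLeftDerivedFunctor_αh
    [LF.IsLeftDerivedFunctor α (HomologicalComplex.quasiIso (ModSite.Mod O) (ComplexShape.up ℤ))] :
    LF.IsLeftDerivedFunctor (αh E LF α)
      (HomotopyCategory.quasiIso (ModSite.Mod O) (ComplexShape.up ℤ)) := by
  have : LF.IsRightKanExtension α := Functor.IsLeftDerivedFunctor.isRightKanExtension LF α
    (HomologicalComplex.quasiIso (ModSite.Mod O) (ComplexShape.up ℤ))
  exact ⟨isRightKanExtension_of_quotient (DerivedCategory.quotientCompQhIso (ModSite.Mod O))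
    (FhIso E) (HomotopyCategory.quotient_obj_surjective) LF α (αh E LF α) (αh_app E LF α)⟩

/-- **the counit of `- ⊗^L E` is an isomorphism on first-variable K-flat complexes** -/
theorem isIso_counit_app_of_Pr
    [LF.IsLeftDerivedFunctor α (HomologicalComplex.quasiIso (ModSite.Mod O) (ComplexShape.up ℤ))]
    (P : CochainComplex (ModSite.Mod O) ℤ) (hP : Pr P) : IsIso (α.app P) := by
  have h1 : IsIso ((αh E LF α).app
      ((HomotopyCategory.quotient (ModSite.Mod O) (ComplexShape.up ℤ)).obj P)) := by
    refine isIso_counit_app isResolving_Pr (Fh E) ?_ DerivedCategory.Qh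
      (HomotopyCategory.quasiIso (ModSite.Mod O) (ComplexShape.up ℤ)) rfl LF (αh E LF α) P hP
    intro P P' φ hP hP' hφ
    change IsIso (DerivedCategory.Q.map
      (mapBifunctorMap φ (𝟙 E) (ModSite.tensorBi O) (ComplexShape.up ℤ)))
    rw [DerivedCategory.isIso_Q_map_iff_quasiIso]
    exact quasiIso_tensor_of_Pr φ hP hP' hφ E
  rw [αh_app] at h1
  have h2 : IsIso (α.app P ≫ (FhIso E).inv.app P) :=
    IsIso.of_isIso_comp_left (LF.map ((DerivedCategory.quotientCompQhIso (ModSite.Mod O)).hom.app P)) _
  exact IsIso.of_isIso_comp_right (α.app P) ((FhIso E).inv.app P)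

end

end Groth.Agent.Lib.Helper94.LTensorKFlat1B
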