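import Groth.Agent.Lib.Helper94.PsiOneColim
import Groth.Agent.Lib.Helper94.LTensorKFlat1B
import Groth.Agent.Lib.Helper94.DerCoprodU

/-!
# The derived tensor product commutes with coproducts (helper94)

Namespace `Groth.Agent.Lib.Helper94.LTensorCoprod`.
-/

universe u

open CategoryTheory CategoryTheory.Limits HomologicalComplex

namespace Groth.Agent.Lib.Helper94.LTensorCoprod

open Groth.Agent.Lib.Helper94.DerCoprodU Groth.Agent.Lib.Helper94.KFlatBi
  Groth.Agent.Lib.Helper94.PsiOneColim Groth.Agent.Lib.Helper94.LTensorKFlat1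
  Groth.Agent.Lib.Helper94.LTensorKFlat1B Groth.Agent.Lib.Helper94.ResolvingCx

section General

variable {𝒞 : Type*} [Category 𝒞] {ι : Type*}

/-- transport of colimit cofans along isomorphisms -/
noncomputable def isColimitCofanOfIso {f₁ f₂ : ι → 𝒞} (c₁ : Cofan f₁) (c₂ : Cofan f₂)
    (a : ∀ i, f₁ i ≅ f₂ i) (b : c₁.pt ≅ c₂.pt)
    (w : ∀ i, c₁.inj i ≫ b.hom = (a i).hom ≫ c₂.inj i) (hc₂ : IsColimit c₂) : IsColimit c₁ :=
  Cofan.IsColimit.mk c₁
    (fun s => b.hom ≫ Cofan.IsColimit.desc hc₂ (fun i => (a i).inv ≫ s.inj i))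
    (fun s i => by
      rw [← Category.assoc, w, Category.assoc, Cofan.IsColimit.fac, Iso.hom_inv_id_assoc])
    (fun s m hm => by
      rw [← Iso.inv_comp_eq]
      refine Cofan.IsColimit.hom_ext hc₂ _ _ (fun i => ?_)
      rw [Cofan.IsColimit.fac, ← hm i]
      have h1 : c₂.inj i = (a i).inv ≫ c₁.inj i ≫ b.hom := by
        rw [w, Iso.inv_hom_id_assoc]
      rw [h1]
      simp)

end General

section Cx

variable {A : Type*} [Category A] [Abelian A] {ι : Type*}
  [HasColimitsOfShape (Discrete ι) A]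

/-- the termwise coproduct is a coproduct of complexes -/
noncomputable def isColimitSigmaC (K : ι → CochainComplex A ℤ) :
    IsColimit (Cofan.mk (sigmaC K) (ιC K)) :=
  Cofan.IsColimit.mk _ (fun t => descC t.inj) (fun t j => ιC_descC _ j)
    (fun t m hm => by
      ext n
      refine colimit.hom_ext (fun ⟨j⟩ => ?_)
      have h1 := congrArg (fun φ => φ.f n) (hm j)
      have h2 := congrArg (fun φ => φ.f n) (ιC_descC t.inj j)
      exact h1.trans h2.symm)

end Cx

section Site

attribute [local instance] HasDerivedCategory.standard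

open ModSite DerivedCategory

variable {C : Type u} [SmallCategory C] {J : GrothendieckTopology C} {O : Sheaf J CommRingCat.{u}}

/-- **the derived tensor product commutes with coproducts** -/
theorem isIso_sigmaDesc (E : CochainComplex (ModSite.Mod O) ℤ)
    (LF : DerivedCategory (ModSite.Mod O) ⥤ DerivedCategory (ModSite.Mod O))
    (α : DerivedCategory.Q ⋙ LF ⟶ ModSite.tensorCxQ E)
    [LF.IsLeftDerivedFunctor α (HomologicalComplex.quasiIso (ModSite.Mod O) (ComplexShape.up ℤ))]
    {ι : Type u} (X : ι → DerivedCategory (ModSite.Mod O)) [HasCoproduct X]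
    [HasCoproduct (fun i => LF.obj (X i))] :
    IsIso (Sigma.desc (fun i => LF.map (Sigma.ι X i))) := by
  have hK : ∀ i, ∃ K : CochainComplex (ModSite.Mod O) ℤ, Pr K ∧ Nonempty (Q.obj K ≅ X i) :=
    fun i => by
      obtain ⟨P, q, hP, hq⟩ := (isResolving_Pr (O := O)).res (Q.objPreimage (X i))
      haveI := hq
      exact ⟨P, hP, ⟨asIso (Q.map q) ≪≫ Q.objObjPreimageIso (X i)⟩⟩
  choose K hK e using hK
  let e' : ∀ i, Q.obj (K i) ≅ X i := fun i => (e i).some
  let T := ModSite.tensorBi O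
  have hS : IsColimit (Cofan.mk (sigmaC K) (ιC K)) := isColimitSigmaC K
  have hPrS : Pr (sigmaC K) :=
    isKFlat₂_of_isColimit T.flip (Cofan.mk (sigmaC K) (ιC K)) hS (fun ⟨i⟩ => hK i)
  -- `Tot(- ⊗ E)` of the coproduct
  haveI := preservesColimitsOfShape_Ψ₁ T (J := Discrete ι) E
  have h1 : IsColimit (Cofan.mk ((Ψ₁ T E).obj (sigmaC K)) (fun i => (Ψ₁ T E).map (ιC K i))) :=
    isColimitMapCoconeCofanMkEquiv (Ψ₁ T E) K (ιC K) (isColimitOfPreserves (Ψ₁ T E) hS)
  let b : (Ψ₁ T E).obj (sigmaC K) ≅ sigmaC (fun i => (Ψ₁ T E).obj (K i)) :=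
    IsColimit.coconePointUniqueUpToIso h1 (isColimitSigmaC (fun i => (Ψ₁ T E).obj (K i)))
  have hb : ∀ i, (Ψ₁ T E).map (ιC K i) ≫ b.hom = ιC (fun i => (Ψ₁ T E).obj (K i)) i := fun i =>
    IsColimit.comp_coconePointUniqueUpToIso_hom h1
      (isColimitSigmaC (fun i => (Ψ₁ T E).obj (K i))) ⟨i⟩
  have hA : IsColimit (Cofan.mk (LF.obj (Q.obj (sigmaC K)))
      (fun i => LF.map (Q.map (ιC K i)))) := by
    haveI : ∀ i, IsIso (α.app (K i)) := fun i => isIso_counit_app_of_Pr E LF α (K i) (hK i)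
    haveI : IsIso (α.app (sigmaC K)) := isIso_counit_app_of_Pr E LF α (sigmaC K) hPrS
    refine isColimitCofanOfIso _
      (Cofan.mk ((ModSite.tensorCxQ E).obj (sigmaC K))
        (fun i => (ModSite.tensorCxQ E).map (ιC K i)))
      (fun i => asIso (α.app (K i))) (asIso (α.app (sigmaC K)))
      (fun i => α.naturality (ιC K i)) ?_
    refine isColimitCofanOfIso _
      (Cofan.mk (Q.obj (sigmaC (fun i => (Ψ₁ T E).obj (K i))))
        (fun i => Q.map (ιC (fun i => (Ψ₁ T E).obj (K i)) i)))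
      (fun i => Iso.refl _) (Q.mapIso b) (fun i => ?_) (isColimitCofan _)
    change Q.map ((Ψ₁ T E).map (ιC K i)) ≫ Q.map b.hom = 𝟙 _ ≫ _
    rw [Category.id_comp, ← Functor.map_comp, hb]
    rfl
  let c : Cofan X := Cofan.mk (Q.obj (sigmaC K)) (fun i => (e' i).inv ≫ Q.map (ιC K i))
  have hc : IsColimit c :=
    isColimitCofanOfIso c (Cofan.mk (Q.obj (sigmaC K)) (fun i => Q.map (ιC K i)))
      (fun i => (e' i).symm) (Iso.refl _) (fun i => Category.comp_id _) (isColimitCofan K)
  have hLc : IsColimit (LF.mapCocone c) :=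
    (isColimitMapCoconeCofanMkEquiv LF X _).symm
      (isColimitCofanOfIso _ _ (fun i => LF.mapIso (e' i).symm) (Iso.refl _)
        (fun i => by
          change LF.map ((e' i).inv ≫ Q.map (ιC K i)) ≫ 𝟙 _ = LF.map (e' i).inv ≫ _
          rw [Category.comp_id, Functor.map_comp]
          rfl) hA)
  haveI : PreservesColimit (Discrete.functor X) LF :=
    preservesColimit_of_preserves_colimit_cocone hc hLc
  exact inferInstanceAs (IsIso (sigmaComparison LF X))

/-- the derived tensor product `- ⊗^L E` commutes with coproducts -/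
theorem isIso_sigmaDesc_LTensorCx (E : CochainComplex (ModSite.Mod O) ℤ) [ModSite.HasLTensorCx E]
    {ι : Type u} (X : ι → DerivedCategory (ModSite.Mod O)) [HasCoproduct X]
    [HasCoproduct (fun i => (ModSite.LTensorCx E).obj (X i))] :
    IsIso (Sigma.desc (fun i => (ModSite.LTensorCx E).map (Sigma.ι X i))) :=
  isIso_sigmaDesc E (ModSite.LTensorCx E)
    ((ModSite.tensorCxQ E).totalLeftDerivedCounit DerivedCategory.Q
      (HomologicalComplex.quasiIso (ModSite.Mod O) (ComplexShape.up ℤ))) X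

end Site

end Groth.Agent.Lib.Helper94.LTensorCoprod
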