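import Groth.Agent.Lib.Helper94.KFlatSymmInst
import Groth.Agent.Lib.Helper94.KFlatResInst
import Groth.Agent.Lib.Helper94.CellResBdd
import Mathlib.CategoryTheory.Functor.Derived.PointwiseLeftDerived

/-!
# The derived tensor product with a K-flat complex on a ringed site (helper94)

Namespace `Groth.Agent.Lib.Helper94.LTensorCxSite`.
-/

universe u

open CategoryTheory CategoryTheory.Limits HomologicalComplex CochainComplex

attribute [local instance] HasDerivedCategory.standard

namespace Groth.Agent.Lib.Helper94.LTensorCxSite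

open Groth.Agent.Lib.Helper94.KFlatBi Groth.Agent.Lib.Helper94.KFlatSite
  Groth.Agent.Lib.Helper94.ModFlat Groth.Agent.Lib.Helper94.KFlatRes
  Groth.Agent.Lib.Helper94.KFlatResInst Groth.Agent.Lib.Helper94.KFlatTrunc
  Groth.Agent.Lib.Helper94.KFlatBdd

variable {C : Type u} [SmallCategory C] {J : GrothendieckTopology C} {O : Sheaf J CommRingCat.{u}}

/-- `F ↦ Tot(F ⊗ E)` inverts quasi-isomorphisms when `E` is K-flat -/
theorem isInvertedBy_tensorCxQ (E : CochainComplex (ModSite.Mod O) ℤ)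
    (hE : IsKFlat₂ (ModSite.tensorBi O) E) :
    (HomologicalComplex.quasiIso (ModSite.Mod O) (ComplexShape.up ℤ)).IsInvertedBy
      (ModSite.tensorCxQ E) := by
  intro K L φ hφ
  haveI : QuasiIso φ := hφ
  have h := quasiIso_mapBifunctorMap_left (ModSite.tensorBi O) E hE φ
  change IsIso (DerivedCategory.Q.map (mapBifunctorMap φ (𝟙 E) (ModSite.tensorBi O)
    (ComplexShape.up ℤ)))
  rw [DerivedCategory.isIso_Q_map_iff_quasiIso]
  exact h

/-- the counit of `- ⊗^L E` is an isomorphism when `E` is K-flat -/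
theorem isIso_counit (E : CochainComplex (ModSite.Mod O) ℤ)
    (hE : IsKFlat₂ (ModSite.tensorBi O) E) [ModSite.HasLTensorCx E] :
    IsIso ((ModSite.tensorCxQ E).totalLeftDerivedCounit DerivedCategory.Q
      (HomologicalComplex.quasiIso (ModSite.Mod O) (ComplexShape.up ℤ))) :=
  Functor.isIso_of_isLeftDerivedFunctor_of_inverts _ _ (isInvertedBy_tensorCxQ E hE)

/-- `K ⊗^L E ≅ Tot(K ⊗ E)` when `E` is K-flat -/
noncomputable def lTensorCxObjIso (E : CochainComplex (ModSite.Mod O) ℤ)
    (hE : IsKFlat₂ (ModSite.tensorBi O) E) [ModSite.HasLTensorCx E]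
    (K : CochainComplex (ModSite.Mod O) ℤ) :
    (ModSite.LTensorCx E).obj (DerivedCategory.Q.obj K) ≅
      DerivedCategory.Q.obj (((ModSite.tensorCx O).obj K).obj E) :=
  haveI := isIso_counit E hE
  (asIso ((ModSite.tensorCxQ E).totalLeftDerivedCounit DerivedCategory.Q
      (HomologicalComplex.quasiIso (ModSite.Mod O) (ComplexShape.up ℤ)))).app K

/-- the terms of a total tensor complex of complexes of flat modules are flat -/
theorem isFlat_mapBifunctor_X (P F : CochainComplex (ModSite.Mod O) ℤ)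
    (hP : ∀ i : ℤ, ModSite.IsFlat (P.X i)) (hF : ∀ i : ℤ, ModSite.IsFlat (F.X i)) (n : ℤ) :
    ModSite.IsFlat ((((ModSite.tensorCx O).obj P).obj F).X n) := by
  let K₂ := ((ModSite.tensorBi O).mapBifunctorHomologicalComplex (ComplexShape.up ℤ)
    (ComplexShape.up ℤ)).obj P |>.obj F
  have hc := GradedObject.isColimitCofanMapObj K₂.toGradedObject
    (ComplexShape.π (ComplexShape.up ℤ) (ComplexShape.up ℤ) (ComplexShape.up ℤ)) n
  refine isFlat_of_isFlatObj _ (isFlatObj_of_isColimit (ModSite.tensorBi O) _ hc (fun ⟨⟨⟨i, j⟩, _⟩⟩ => ?_))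
  exact isFlatObj_of_isFlat _ (isFlat_tensor O _ _ (hP i) (hF j))

/-- vanishing of the terms of a total tensor complex -/
theorem isZero_mapBifunctor_X (P F : CochainComplex (ModSite.Mod O) ℤ) (n : ℤ)
    (h : ∀ i j : ℤ, i + j = n → IsZero (P.X i) ∨ IsZero (F.X j)) :
    IsZero ((((ModSite.tensorCx O).obj P).obj F).X n) := by
  let K₂ := ((ModSite.tensorBi O).mapBifunctorHomologicalComplex (ComplexShape.up ℤ)
    (ComplexShape.up ℤ)).obj P |>.obj F
  have hc := GradedObject.isColimitCofanMapObj K₂.toGradedObject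
    (ComplexShape.π (ComplexShape.up ℤ) (ComplexShape.up ℤ) (ComplexShape.up ℤ)) n
  refine Groth.Agent.Lib.Helper94.CellResBdd.isZero_of_isColimit_of_isZero _ hc
    (fun ⟨⟨⟨i, j⟩, hij⟩⟩ => ?_)
  rcases h i j hij with h1 | h1
  · exact ((ModSite.tensorBi O).map_isZero h1).obj _
  · exact ((ModSite.tensorBi O).obj (P.X i)).map_isZero h1

end Groth.Agent.Lib.Helper94.LTensorCxSite
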