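import Groth.Agent.Lib.Helper94.TensorSingleLeft
import Groth.Agent.Lib.Helper94.LTensorCxSite
import Groth.Agent.Lib.Helper94.ModFlat

/-!
# Right exactness of `M ↦ H^p(M ⊗^L E)` (helper94)

Namespace `Groth.Agent.Lib.Helper94.LTensorExact`.
-/

universe u

open CategoryTheory CategoryTheory.Limits HomologicalComplex CochainComplex

attribute [local instance] HasDerivedCategory.standard

namespace Groth.Agent.Lib.Helper94.LTensorExact

open Groth.Agent.Lib.Helper94.KFlatBi Groth.Agent.Lib.Helper94.KFlatSite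
  Groth.Agent.Lib.Helper94.ModFlat Groth.Agent.Lib.Helper94.KFlatBdd
  Groth.Agent.Lib.Helper94.TensorSingleLeft Groth.Agent.Lib.Helper94.ModTensor

variable {C : Type u} [SmallCategory C] {J : GrothendieckTopology C} {O : Sheaf J CommRingCat.{u}}

/-- `M ↦ M ⊗ E` termwise -/
noncomputable abbrev GE (E : CochainComplex (ModSite.Mod O) ℤ) :
    ModSite.Mod O ⥤ CochainComplex (ModSite.Mod O) ℤ :=
  G (ModSite.tensorBi O) E

/-- `H^p(M ⊗^L E) ≅ H^p(M ⊗ E)` naturally in `M`, for `E` K-flat -/
noncomputable def homologyIso (E : CochainComplex (ModSite.Mod O) ℤ)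
    (hE : IsKFlat₂ (ModSite.tensorBi O) E) [ModSite.HasLTensorCx E] (p : ℤ) :
    DerivedCategory.singleFunctor (ModSite.Mod O) 0 ⋙ ModSite.LTensorCx E ⋙
      DerivedCategory.homologyFunctor (ModSite.Mod O) p ≅
    GE E ⋙ HomologicalComplex.homologyFunctor (ModSite.Mod O) (ComplexShape.up ℤ) p :=
  haveI := LTensorCxSite.isIso_counit E hE
  Functor.isoWhiskerRight (DerivedCategory.singleFunctorIsoCompQ (ModSite.Mod O) 0)
      (ModSite.LTensorCx E ⋙ DerivedCategory.homologyFunctor (ModSite.Mod O) p) ≪≫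
    Functor.isoWhiskerLeft (HomologicalComplex.single (ModSite.Mod O) (ComplexShape.up ℤ) 0)
      (Functor.isoWhiskerRight
        (asIso ((ModSite.tensorCxQ E).totalLeftDerivedCounit DerivedCategory.Q
          (HomologicalComplex.quasiIso (ModSite.Mod O) (ComplexShape.up ℤ))))
        (DerivedCategory.homologyFunctor (ModSite.Mod O) p)) ≪≫
    Functor.isoWhiskerLeft (HomologicalComplex.single (ModSite.Mod O) (ComplexShape.up ℤ) 0)
      (Functor.isoWhiskerLeft ((ModSite.tensorCx O).flip.obj E)
        (DerivedCategory.homologyFunctorFactors (ModSite.Mod O) p)) ≪≫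
    Functor.isoWhiskerRight (Θ (ModSite.tensorBi O) E).symm
      (HomologicalComplex.homologyFunctor (ModSite.Mod O) (ComplexShape.up ℤ) p)

end Groth.Agent.Lib.Helper94.LTensorExact
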