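import Groth.Agent.Lib.Helper94.LTensorExact

/-!
# Right exactness of `M ↦ H^p(M ⊗^L E)`, part B (helper94)

Namespace `Groth.Agent.Lib.Helper94.LTensorExactB`.
-/

universe u

open CategoryTheory CategoryTheory.Limits HomologicalComplex CochainComplex

attribute [local instance] HasDerivedCategory.standard

namespace Groth.Agent.Lib.Helper94.LTensorExactB

open Groth.Agent.Lib.Helper94.KFlatBi Groth.Agent.Lib.Helper94.KFlatSite
  Groth.Agent.Lib.Helper94.ModFlat Groth.Agent.Lib.Helper94.KFlatBdd
  Groth.Agent.Lib.Helper94.TensorSingleLeft Groth.Agent.Lib.Helper94.ModTensor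
  Groth.Agent.Lib.Helper94.LTensorExact

variable {C : Type u} [SmallCategory C] {J : GrothendieckTopology C} {O : Sheaf J CommRingCat.{u}}

section General

variable {A : Type*} [Category A] [Abelian A]

lemma opcyclesMap_fromOpcycles {K K' : CochainComplex A ℤ} (φ : K ⟶ K') (q q' : ℤ) :
    opcyclesMap φ q ≫ K'.fromOpcycles q q' = K.fromOpcycles q q' ≫ φ.f q' := by
  rw [← cancel_epi (K.pOpcycles q), p_opcyclesMap_assoc, p_fromOpcycles, p_fromOpcycles_assoc,
    φ.comm]

/-- if `φ^{q+1}` is a monomorphism, `H^q(φ)` is a mono iff `opcycles^q(φ)` is -/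
lemma mono_homologyMap_iff_mono_opcyclesMap {K K' : CochainComplex A ℤ} (φ : K ⟶ K') (q q' : ℤ)
    (hq : q + 1 = q') [Mono (φ.f q')] :
    Mono (homologyMap φ q) ↔ Mono (opcyclesMap φ q) := by
  constructor
  · intro h
    rw [Preadditive.mono_iff_cancel_zero]
    intro Z z hz
    have h1 : z ≫ K.fromOpcycles q q' = 0 := by
      rw [← cancel_mono (φ.f q'), Category.assoc, ← opcyclesMap_fromOpcycles, reassoc_of% hz,
        zero_comp, zero_comp]
    obtain ⟨w, hw⟩ := KernelFork.IsLimit.lift' (K.homologyIsKernel q q' (by simp [← hq])) z h1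
    change w ≫ K.homologyι q = z at hw
    have h2 : w ≫ homologyMap φ q = 0 := by
      rw [← cancel_mono (K'.homologyι q), Category.assoc, homologyι_naturality, reassoc_of% hw,
        hz, zero_comp]
    have h3 : w = 0 := by
      rw [← cancel_mono (homologyMap φ q), h2, zero_comp]
    rw [← hw, h3, zero_comp]
  · intro h
    have : Mono (homologyMap φ q ≫ K'.homologyι q) := by
      rw [homologyι_naturality]
      infer_instance
    exact mono_of_mono _ (K'.homologyι q)

end General

section Opc

variable (E : CochainComplex (ModSite.Mod O) ℤ)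

lemma GE_obj_d (M : ModSite.Mod O) (p q : ℤ) :
    ((GE E).obj M).d p q = (tensL O M).map (E.d p q) := rfl

lemma GE_map_f {M M' : ModSite.Mod O} (f : M ⟶ M') (n : ℤ) :
    ((GE E).map f).f n = ((ModSite.tensorBi O).map f).app (E.X n) := rfl

/-- the opcycles of `M ⊗ E` are `M ⊗ coker` -/
noncomputable def opcIso (M : ModSite.Mod O) (p q : ℤ) (hpq : p + 1 = q) :
    ((GE E).obj M).opcycles q ≅ (tensL O M).obj (cokernel (E.d p q)) :=
  IsColimit.coconePointUniqueUpToIso
    (((GE E).obj M).opcyclesIsCokernel p q (by simp [← hpq]))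
    (CokernelCofork.mapIsColimit _ (cokernelIsCokernel (E.d p q)) (tensL O M))

lemma pOpcycles_opcIso_hom (M : ModSite.Mod O) (p q : ℤ) (hpq : p + 1 = q) :
    ((GE E).obj M).pOpcycles q ≫ (opcIso E M p q hpq).hom =
      (tensL O M).map (cokernel.π (E.d p q)) :=
  IsColimit.comp_coconePointUniqueUpToIso_hom
    (((GE E).obj M).opcyclesIsCokernel p q (by simp [← hpq]))
    (CokernelCofork.mapIsColimit _ (cokernelIsCokernel (E.d p q)) (tensL O M))
    WalkingParallelPair.one

lemma opcyclesMap_opcIso_hom {M M' : ModSite.Mod O} (f : M ⟶ M') (p q : ℤ) (hpq : p + 1 = q) :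
    opcyclesMap ((GE E).map f) q ≫ (opcIso E M' p q hpq).hom =
      (opcIso E M p q hpq).hom ≫ (tensR O (cokernel (E.d p q))).map f := by
  rw [← cancel_epi (((GE E).obj M).pOpcycles q), p_opcyclesMap_assoc, pOpcycles_opcIso_hom,
    reassoc_of% (pOpcycles_opcIso_hom E M p q hpq), GE_map_f]
  exact (((ModSite.tensorBi O).map f).naturality (cokernel.π (E.d p q))).symm

lemma mono_opcyclesMap_iff {M M' : ModSite.Mod O} (f : M ⟶ M') (p q : ℤ) (hpq : p + 1 = q) :
    Mono (opcyclesMap ((GE E).map f) q) ↔ Mono ((tensR O (cokernel (E.d p q))).map f) := by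
  have h := opcyclesMap_opcIso_hom E f p q hpq
  constructor
  · intro _
    have h1 : Mono ((opcIso E M p q hpq).hom ≫ (tensR O (cokernel (E.d p q))).map f) := by
      rw [← h]
      infer_instance
    have h2 : (tensR O (cokernel (E.d p q))).map f =
        (opcIso E M p q hpq).inv ≫ (opcIso E M p q hpq).hom ≫
          (tensR O (cokernel (E.d p q))).map f := by
      rw [Iso.inv_hom_id_assoc]
    rw [h2]
    infer_instance
  · intro _
    have h1 : Mono (opcyclesMap ((GE E).map f) q ≫ (opcIso E M' p q hpq).hom) := by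
      rw [h]
      infer_instance
    exact mono_of_mono _ (opcIso E M' p q hpq).hom

end Opc

section Main

variable (E : CochainComplex (ModSite.Mod O) ℤ) (hEf : ∀ i : ℤ, ModSite.IsFlat (E.X i))

include hEf

lemma mono_GE_map_f {M M' : ModSite.Mod O} (f : M ⟶ M') [Mono f] (n : ℤ) :
    Mono (((GE E).map f).f n) := by
  haveI := (hEf n).1
  exact inferInstanceAs (Mono ((tensR O (E.X n)).map f))

lemma mono_homologyMap_iff {M M' : ModSite.Mod O} (f : M ⟶ M') [Mono f] (p q : ℤ)
    (hpq : p + 1 = q) :
    Mono (homologyMap ((GE E).map f) q) ↔ Mono ((tensR O (cokernel (E.d p q))).map f) := by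
  haveI := mono_GE_map_f E hEf f (q + 1)
  rw [mono_homologyMap_iff_mono_opcyclesMap ((GE E).map f) q (q + 1) rfl,
    mono_opcyclesMap_iff E f p q hpq]

lemma shortExact_map_GE (S : ShortComplex (ModSite.Mod O)) (hS : S.ShortExact) :
    (S.map (GE E)).ShortExact := by
  refine HomologicalComplex.shortExact_of_degreewise_shortExact _ (fun i => ?_)
  haveI := (hEf i).1
  haveI := (hEf i).2
  exact hS.map_of_exact (tensR O (E.X i))

lemma epi_homologyMap_iff (S : ShortComplex (ModSite.Mod O)) (hS : S.ShortExact) (p q : ℤ)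
    (hpq : p + 1 = q) :
    Epi (homologyMap ((GE E).map S.g) p) ↔ Mono (homologyMap ((GE E).map S.f) q) := by
  have hK := shortExact_map_GE E hEf S hS
  have h3 := hK.homology_exact₃ p q hpq
  have h1 := hK.homology_exact₁ p q hpq
  exact (h3.epi_f_iff).trans (h1.mono_g_iff).symm

/-- the main criterion -/
theorem preservesFiniteColimits_homology_iff (p q : ℤ) (hpq : p + 1 = q) :
    PreservesFiniteColimits (GE E ⋙
      HomologicalComplex.homologyFunctor (ModSite.Mod O) (ComplexShape.up ℤ) p) ↔
      ModSite.IsFlat (cokernel (E.d p q)) := by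
  rw [Functor.preservesFiniteColimits_iff_forall_exact_map_and_epi, isFlat_iff_preservesMono]
  constructor
  · intro h X Y f hf
    let S : ShortComplex (ModSite.Mod O) := ShortComplex.mk f (cokernel.π f) (cokernel.condition f)
    have hS : S.ShortExact :=
      { exact := ShortComplex.exact_cokernel f
        mono_f := hf
        epi_g := inferInstanceAs (Epi (cokernel.π f)) }
    have h1 : Epi (homologyMap ((GE E).map S.g) p) := (h S hS).2
    rw [epi_homologyMap_iff E hEf S hS p q hpq] at h1
    exact (mono_homologyMap_iff E hEf f p q hpq).1 h1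
  · intro h S hS
    haveI := hS.mono_f
    have hK := shortExact_map_GE E hEf S hS
    refine ⟨hK.homology_exact₂ p, ?_⟩
    change Epi (homologyMap ((GE E).map S.g) p)
    rw [epi_homologyMap_iff E hEf S hS p q hpq, mono_homologyMap_iff E hEf S.f p q hpq]
    exact h S.f hS.mono_f

end Main

end Groth.Agent.Lib.Helper94.LTensorExactB
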