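import Groth.Agent.Lib.Helper94.LTensorQis
import Groth.Agent.Lib.Helper94.LTensorExactB

/-!
# Right exactness of `H^p(- ⊗^L E)` versus left exactness of `H^{p+1}(- ⊗^L E)` (helper94)

Namespace `Groth.Agent.Lib.Helper94.LTensorExactC`.
-/

universe u

open CategoryTheory CategoryTheory.Limits HomologicalComplex CochainComplex

attribute [local instance] HasDerivedCategory.standard

namespace Groth.Agent.Lib.Helper94.LTensorExactC

open Groth.Agent.Lib.Helper94.KFlatBi Groth.Agent.Lib.Helper94.KFlatSite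
  Groth.Agent.Lib.Helper94.ModFlat Groth.Agent.Lib.Helper94.KFlatBdd
  Groth.Agent.Lib.Helper94.TensorSingleLeft Groth.Agent.Lib.Helper94.ModTensor
  Groth.Agent.Lib.Helper94.LTensorExact Groth.Agent.Lib.Helper94.LTensorExactB
  Groth.Agent.Lib.Helper94.LTensorQis

variable {C : Type u} [SmallCategory C] {J : GrothendieckTopology C} {O : Sheaf J CommRingCat.{u}}

/-- for a complex of flat modules: `H^p(- ⊗ P)` right exact iff `H^{p+1}(- ⊗ P)` left exact -/
theorem preservesFiniteColimits_iff_preservesFiniteLimits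
    (P : CochainComplex (ModSite.Mod O) ℤ) (hPf : ∀ i : ℤ, ModSite.IsFlat (P.X i)) (p q : ℤ)
    (hpq : p + 1 = q) :
    PreservesFiniteColimits (GE P ⋙
      HomologicalComplex.homologyFunctor (ModSite.Mod O) (ComplexShape.up ℤ) p) ↔
    PreservesFiniteLimits (GE P ⋙
      HomologicalComplex.homologyFunctor (ModSite.Mod O) (ComplexShape.up ℤ) q) := by
  rw [Functor.preservesFiniteColimits_iff_forall_exact_map_and_epi,
    Functor.preservesFiniteLimits_iff_forall_exact_map_and_mono]
  constructor
  · intro h S hS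
    have hK := shortExact_map_GE P hPf S hS
    refine ⟨hK.homology_exact₂ q, ?_⟩
    change Mono (homologyMap ((GE P).map S.f) q)
    rw [← epi_homologyMap_iff P hPf S hS p q hpq]
    exact (h S hS).2
  · intro h S hS
    have hK := shortExact_map_GE P hPf S hS
    refine ⟨hK.homology_exact₂ p, ?_⟩
    change Epi (homologyMap ((GE P).map S.g) p)
    rw [epi_homologyMap_iff P hPf S hS p q hpq]
    exact (h S hS).2

/-- a K-flat complex has a derived tensor product -/
theorem hasLTensorCx_of_isKFlat₂ (P : CochainComplex (ModSite.Mod O) ℤ)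
    (hP : IsKFlat₂ (ModSite.tensorBi O) P) : ModSite.HasLTensorCx P :=
  haveI := Functor.hasPointwiseLeftDerivedFunctor_of_inverts (ModSite.tensorCxQ P)
    (LTensorCxSite.isInvertedBy_tensorCxQ P hP)
  Functor.hasLeftDerivedFunctor_of_hasPointwiseLeftDerivedFunctor _ _

/-- `- ⊗^L P ≅ - ⊗^L E` for a quasi-isomorphism `P ⟶ E` -/
noncomputable def lTensorCxIso {P E : CochainComplex (ModSite.Mod O) ℤ} (s : P ⟶ E) [QuasiIso s]
    [ModSite.HasLTensorCx P] [ModSite.HasLTensorCx E] :
    ModSite.LTensorCx P ≅ ModSite.LTensorCx E :=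
  haveI := isIso_leftDerivedNatTrans s (ModSite.LTensorCx P) (ModSite.LTensorCx E)
    ((ModSite.tensorCxQ P).totalLeftDerivedCounit DerivedCategory.Q
      (HomologicalComplex.quasiIso (ModSite.Mod O) (ComplexShape.up ℤ)))
    ((ModSite.tensorCxQ E).totalLeftDerivedCounit DerivedCategory.Q
      (HomologicalComplex.quasiIso (ModSite.Mod O) (ComplexShape.up ℤ)))
  asIso (Functor.leftDerivedNatTrans (ModSite.LTensorCx P) (ModSite.LTensorCx E)
    ((ModSite.tensorCxQ P).totalLeftDerivedCounit DerivedCategory.Q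
      (HomologicalComplex.quasiIso (ModSite.Mod O) (ComplexShape.up ℤ)))
    ((ModSite.tensorCxQ E).totalLeftDerivedCounit DerivedCategory.Q
      (HomologicalComplex.quasiIso (ModSite.Mod O) (ComplexShape.up ℤ)))
    (HomologicalComplex.quasiIso (ModSite.Mod O) (ComplexShape.up ℤ)) (τ s))

/-- a bounded above flat resolution of a complex with bounded above cohomology -/
theorem exists_flat_resolution_of_isLE (E : CochainComplex (ModSite.Mod O) ℤ) (e : ℤ) [E.IsLE e] :
    ∃ (P : CochainComplex (ModSite.Mod O) ℤ) (s : P ⟶ E), QuasiIso s ∧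
      (∀ i : ℤ, e < i → IsZero (P.X i)) ∧ (∀ i : ℤ, ModSite.IsFlat (P.X i)) := by
  have hz : ∀ i : ℤ, e < i → IsZero ((E.truncLE e).X i) := fun i hi =>
    (E.truncLE e).isZero_of_isStrictlyLE e i hi
  obtain ⟨P, q, hq, h1, h2⟩ := CellResBdd.exists_bdd_flat_resolution_site (E.truncLE e) e hz
  exact ⟨P, q ≫ E.ιTruncLE e, inferInstance, h1, h2⟩

/-- **S6249** -/
theorem main (E : CochainComplex (ModSite.Mod O) ℤ) (e : ℤ) [(DerivedCategory.Q.obj E).IsLE e]
    (p : ℤ) [ModSite.HasLTensorCx E] :
    PreservesFiniteColimits (DerivedCategory.singleFunctor (ModSite.Mod O) 0 ⋙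
      ModSite.LTensorCx E ⋙ DerivedCategory.homologyFunctor (ModSite.Mod O) p) ↔
    PreservesFiniteLimits (DerivedCategory.singleFunctor (ModSite.Mod O) 0 ⋙
      ModSite.LTensorCx E ⋙ DerivedCategory.homologyFunctor (ModSite.Mod O) (p + 1)) := by
  haveI : E.IsLE e := (DerivedCategory.isLE_Q_obj_iff E e).1 inferInstance
  obtain ⟨P, s, hs, hPb, hPf⟩ := exists_flat_resolution_of_isLE E e
  have hKF : IsKFlat₂ (ModSite.tensorBi O) P :=
    (isKFlat_iff P).1 (isKFlat_of_bounded_above_flat (O := O) P e hPb hPf)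
  haveI := hasLTensorCx_of_isKFlat₂ P hKF
  let i := lTensorCxIso s
  have e1 : ∀ n : ℤ, DerivedCategory.singleFunctor (ModSite.Mod O) 0 ⋙
      ModSite.LTensorCx E ⋙ DerivedCategory.homologyFunctor (ModSite.Mod O) n ≅
      GE P ⋙ HomologicalComplex.homologyFunctor (ModSite.Mod O) (ComplexShape.up ℤ) n :=
    fun n => Functor.isoWhiskerLeft (DerivedCategory.singleFunctor (ModSite.Mod O) 0)
      (Functor.isoWhiskerRight i.symm (DerivedCategory.homologyFunctor (ModSite.Mod O) n)) ≪≫
      homologyIso P hKF n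
  have h := preservesFiniteColimits_iff_preservesFiniteLimits P hPf p (p + 1) rfl
  constructor
  · intro h1
    haveI : PreservesFiniteColimits (GE P ⋙
        HomologicalComplex.homologyFunctor (ModSite.Mod O) (ComplexShape.up ℤ) p) :=
      preservesFiniteColimits_of_natIso (e1 p)
    haveI := h.1 inferInstance
    exact preservesFiniteLimits_of_natIso (e1 (p + 1)).symm
  · intro h1
    haveI : PreservesFiniteLimits (GE P ⋙
        HomologicalComplex.homologyFunctor (ModSite.Mod O) (ComplexShape.up ℤ) (p + 1)) :=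
      preservesFiniteLimits_of_natIso (e1 (p + 1))
    haveI := h.2 inferInstance
    exact preservesFiniteColimits_of_natIso (e1 p).symm

end Groth.Agent.Lib.Helper94.LTensorExactC
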