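import Groth.Agent.Lib.Helper94.ResolvingSub
import Groth.Agent.Lib.Helper94.DerivesLeft
import Mathlib.Algebra.Homology.HomotopyCategory.Acyclic
import Mathlib.Algebra.Homology.DerivedCategory.Basic

/-!
# Resolving classes of complexes compute left derived functors (helper94)

Namespace `Groth.Agent.Lib.Helper94.ResolvingCx`.
A class `Pr` of cochain complexes in an abelian category which is stable under homotopy
equivalences, shifts and cones, contains zero and such that every complex `K` admits a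
quasi-isomorphism `P ⟶ K` with `Pr P` defines a left derivability structure on the homotopy
category; consequently, if a functor `F` on the homotopy category sends quasi-isomorphisms between
complexes in `Pr` to isomorphisms, then the counit `LF (Q P) ⟶ F P` of any left derived functor of
`F` is an isomorphism for `P` in `Pr`.
-/

open CategoryTheory CategoryTheory.Limits Pretriangulated

namespace Groth.Agent.Lib.Helper94.ResolvingCx

open Groth.Agent.Lib.Helper94.ResolvingSub Groth.Agent.Lib.Helper94.DerivesLeft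

universe v u

variable {𝒜 : Type u} [Category.{v} 𝒜] [Abelian 𝒜]

/-- the hypotheses on a class of complexes -/
structure IsResolving (Pr : CochainComplex 𝒜 ℤ → Prop) : Prop where
  of_homotopyEquiv : ∀ {K L : CochainComplex 𝒜 ℤ}, HomotopyEquiv K L → Pr K → Pr L
  zero : ∃ K : CochainComplex 𝒜 ℤ, IsZero K ∧ Pr K
  shift : ∀ (K : CochainComplex 𝒜 ℤ) (n : ℤ), Pr K → Pr (K⟦n⟧)
  cone : ∀ {K L : CochainComplex 𝒜 ℤ} (φ : K ⟶ L), Pr K → Pr L → Pr (CochainComplex.mappingCone φ)
  res : ∀ K : CochainComplex 𝒜 ℤ, ∃ (P : CochainComplex 𝒜 ℤ) (q : P ⟶ K), Pr P ∧ QuasiIso q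

variable (Pr : CochainComplex 𝒜 ℤ → Prop)

/-- the corresponding property of objects of the homotopy category -/
def hProp : ObjectProperty (HomotopyCategory 𝒜 (ComplexShape.up ℤ)) := fun X => Pr X.as

variable {Pr} (hPr : IsResolving Pr)

include hPr

lemma hProp_of_iso {X Y : HomotopyCategory 𝒜 (ComplexShape.up ℤ)} (e : X ≅ Y) (hX : hProp Pr X) :
    hProp Pr Y := by
  obtain ⟨K, rfl⟩ := HomotopyCategory.quotient_obj_surjective X
  obtain ⟨L, rfl⟩ := HomotopyCategory.quotient_obj_surjective Y
  exact hPr.of_homotopyEquiv (HomotopyCategory.homotopyEquivOfIso e) hX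

lemma isClosedUnderIsomorphisms : (hProp Pr).IsClosedUnderIsomorphisms :=
  ⟨fun e hX => hProp_of_iso hPr e hX⟩

lemma containsZero : (hProp Pr).ContainsZero := by
  obtain ⟨K, hK, hK'⟩ := hPr.zero
  exact ⟨⟨(HomotopyCategory.quotient 𝒜 (ComplexShape.up ℤ)).obj K,
    (HomotopyCategory.quotient 𝒜 (ComplexShape.up ℤ)).map_isZero hK, hK'⟩⟩

lemma isStableUnderShift : (hProp Pr).IsStableUnderShift ℤ := by
  refine ⟨fun n => ⟨fun X hX => ?_⟩⟩
  obtain ⟨K, rfl⟩ := HomotopyCategory.quotient_obj_surjective X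
  exact hProp_of_iso hPr
    (((HomotopyCategory.quotient 𝒜 (ComplexShape.up ℤ)).commShiftIso n).app K)
    (hPr.shift K n hX)

lemma isTriangulatedClosed₃ : (hProp Pr).IsTriangulatedClosed₃ := by
  have := isClosedUnderIsomorphisms hPr
  refine ObjectProperty.IsTriangulatedClosed₃.mk' (fun T hT h₁ h₂ => ?_)
  obtain ⟨K, L, φ, ⟨e⟩⟩ := hT
  have hK : Pr K := hProp_of_iso hPr (Triangle.π₁.mapIso e) h₁
  have hL : Pr L := hProp_of_iso hPr (Triangle.π₂.mapIso e) h₂
  exact hProp_of_iso hPr (Triangle.π₃.mapIso e).symm (hPr.cone φ hK hL)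

lemma isTriangulated : (hProp Pr).IsTriangulated := by
  have := containsZero hPr
  have := isStableUnderShift hPr
  have := isTriangulatedClosed₃ hPr
  have := ObjectProperty.IsTriangulatedClosed₂.of_isTriangulatedClosed₃ (P := hProp Pr)
  exact { }

lemma exists_resolution (X : HomotopyCategory 𝒜 (ComplexShape.up ℤ)) :
    ∃ (P : HomotopyCategory 𝒜 (ComplexShape.up ℤ)) (q : P ⟶ X),
      hProp Pr P ∧ (HomotopyCategory.subcategoryAcyclic 𝒜).trW q := by
  obtain ⟨K, rfl⟩ := HomotopyCategory.quotient_obj_surjective X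
  obtain ⟨P, q, hP, hq⟩ := hPr.res K
  refine ⟨(HomotopyCategory.quotient 𝒜 (ComplexShape.up ℤ)).obj P,
    (HomotopyCategory.quotient 𝒜 (ComplexShape.up ℤ)).map q, hP, ?_⟩
  rw [← HomotopyCategory.quasiIso_eq_trW_subcategoryAcyclic,
    HomotopyCategory.quotient_map_mem_quasiIso_iff]
  exact hq

/-- **Main theorem**: the counit of a left derived functor is an isomorphism on the complexes
of a resolving class on which the functor preserves quasi-isomorphisms. -/
theorem isIso_counit_app {H : Type*} [Category H]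
    (F : HomotopyCategory 𝒜 (ComplexShape.up ℤ) ⥤ H)
    (hF : ∀ {P P' : CochainComplex 𝒜 ℤ} (φ : P ⟶ P'), Pr P → Pr P' → QuasiIso φ →
      IsIso (F.map ((HomotopyCategory.quotient 𝒜 (ComplexShape.up ℤ)).map φ)))
    {D : Type*} [Category D] (L : HomotopyCategory 𝒜 (ComplexShape.up ℤ) ⥤ D)
    (W : MorphismProperty (HomotopyCategory 𝒜 (ComplexShape.up ℤ)))
    (hW : W = HomotopyCategory.quasiIso 𝒜 (ComplexShape.up ℤ)) [L.IsLocalization W]
    (LF : D ⥤ H) (α : L ⋙ LF ⟶ F) [LF.IsLeftDerivedFunctor α W]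
    (P : CochainComplex 𝒜 ℤ) (hP : Pr P) :
    IsIso (α.app ((HomotopyCategory.quotient 𝒜 (ComplexShape.up ℤ)).obj P)) := by
  obtain rfl : W = (HomotopyCategory.subcategoryAcyclic 𝒜).trW :=
    hW.trans (HomotopyCategory.quasiIso_eq_trW_subcategoryAcyclic 𝒜)
  have := isTriangulated hPr
  have := isClosedUnderIsomorphisms hPr
  have := isLeftDerivabilityStructure (hProp Pr) (HomotopyCategory.subcategoryAcyclic 𝒜)
    (exists_resolution hPr)
  let Φ := (hProp Pr).triangulatedLocalizerMorphism (HomotopyCategory.subcategoryAcyclic 𝒜)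
  have hinv : ((HomotopyCategory.subcategoryAcyclic 𝒜).inverseImage (hProp Pr).ι).trW.IsInvertedBy
      (Φ.functor ⋙ F) := by
    intro X Y f hf
    have hf' : (HomotopyCategory.subcategoryAcyclic 𝒜).trW f.hom := Φ.map _ hf
    have hf'' : HomotopyCategory.quasiIso 𝒜 (ComplexShape.up ℤ) f.hom := by
      rw [HomotopyCategory.quasiIso_eq_trW_subcategoryAcyclic]
      exact hf'
    have e : f.hom =
        (HomotopyCategory.quotient 𝒜 (ComplexShape.up ℤ)).map (Quot.out f.hom) :=
      (HomotopyCategory.quotient_map_out f.hom).symm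
    rw [e] at hf''
    have hq : QuasiIso (Quot.out f.hom) :=
      (HomotopyCategory.quotient_map_mem_quasiIso_iff (Quot.out f.hom)).1 hf''
    have := hF (Quot.out f.hom) X.property Y.property hq
    change IsIso (F.map f.hom)
    rw [e]
    exact this
  exact isIso_app_of_isLeftDerivabilityStructure Φ F hinv L LF α ⟨_, hP⟩

end Groth.Agent.Lib.Helper94.ResolvingCx
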