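import Groth.Agent.Lib.Helper94.KanTransfer
import Groth.Agent.Lib.Helper94.ResolvingCx
import Groth.Agent.Lib.Helper94.LTensorCxSite

/-!
# `- ⊗^L E` is computed by complexes which are K-flat in the first variable (helper94)

Namespace `Groth.Agent.Lib.Helper94.LTensorKFlat1`.
-/

universe u

open CategoryTheory CategoryTheory.Limits HomologicalComplex CochainComplex

attribute [local instance] HasDerivedCategory.standard

namespace Groth.Agent.Lib.Helper94.LTensorKFlat1

open Groth.Agent.Lib.Helper94.KFlatBi Groth.Agent.Lib.Helper94.KFlatAbs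
  Groth.Agent.Lib.Helper94.KFlatSite Groth.Agent.Lib.Helper94.KFlatSymm
  Groth.Agent.Lib.Helper94.KFlatSymmInst Groth.Agent.Lib.Helper94.KFlatTrunc
  Groth.Agent.Lib.Helper94.ModFlat Groth.Agent.Lib.Helper94.KFlatRes
  Groth.Agent.Lib.Helper94.KFlatResInst Groth.Agent.Lib.Helper94.ResolvingCx

variable {C : Type u} [SmallCategory C] {J : GrothendieckTopology C} {O : Sheaf J CommRingCat.{u}}

/-- K-flatness in the first variable -/
def Pr (K : CochainComplex (ModSite.Mod O) ℤ) : Prop := IsKFlat₂ (ModSite.tensorBi O).flip K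

theorem isResolving_Pr : IsResolving (Pr (O := O)) where
  of_homotopyEquiv e h := isKFlat₂_of_homotopyEquiv _ e h
  zero := by
    obtain ⟨Z, hZ⟩ : ∃ Z : CochainComplex (ModSite.Mod O) ℤ, IsZero Z :=
      HasZeroObject.zero
    exact ⟨Z, hZ, isKFlat₂_of_isZero_X _ _ (fun n =>
      (HomologicalComplex.eval _ _ n).map_isZero hZ)⟩
  shift K n h := isKFlat₂_shift _ n h
  cone φ hK hL := isKFlat₂_cone _ φ hK hL
  res K := by
    obtain ⟨P, q, h1, -, h3, -⟩ :=
      exists_kflat_resolution (ModSite.tensorBi O).flip hflat_site_flip K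
    exact ⟨P, q, h1, h3⟩

/-- resolutions which are K-flat in the second variable, seen from the flipped bifunctor -/
lemma hres_flip (F : CochainComplex (ModSite.Mod O) ℤ) :
    ∃ (F' : CochainComplex (ModSite.Mod O) ℤ) (r : F' ⟶ F),
      QuasiIso r ∧ IsKFlat₁ (ModSite.tensorBi O).flip F' := by
  obtain ⟨P, q, h1, -, h3, -⟩ := exists_isKFlat_resolution (O := O) F
  refine ⟨P, q, h3, fun L hL => ?_⟩
  exact acyclic_of_iso (mapBifunctorFlipIso L P (ModSite.tensorBi O) (ComplexShape.up ℤ)).symm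
    ((isKFlat_iff P).1 h1 L hL)

/-- an acyclic complex which is K-flat in the first variable stays acyclic after tensoring -/
theorem acyclic_tensor_of_Pr (K : CochainComplex (ModSite.Mod O) ℤ) (hK : Pr K)
    (hKa : K.Acyclic) (E : CochainComplex (ModSite.Mod O) ℤ) :
    (mapBifunctor K E (ModSite.tensorBi O) (ComplexShape.up ℤ)).Acyclic :=
  acyclic_of_iso (mapBifunctorFlipIso K E (ModSite.tensorBi O) (ComplexShape.up ℤ))
    (acyclic_of_isKFlat₂_of_acyclic (ModSite.tensorBi O).flip hres_flip K hK hKa E)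

/-- a quasi-isomorphism between first-variable K-flat complexes stays a quasi-isomorphism after
tensoring with any complex -/
theorem quasiIso_tensor_of_Pr {P P' : CochainComplex (ModSite.Mod O) ℤ} (φ : P ⟶ P')
    (hP : Pr P) (hP' : Pr P') (hφ : QuasiIso φ) (E : CochainComplex (ModSite.Mod O) ℤ) :
    QuasiIso (mapBifunctorMap φ (𝟙 E) (ModSite.tensorBi O) (ComplexShape.up ℤ)) :=
  quasiIso_map_of_acyclic_cone (Ψ := Ψ₁ (ModSite.tensorBi O) E) φ
    (preservesSplit_Ψ₁ (ModSite.tensorBi O) E) (preservesHomotopy_Ψ₁ (ModSite.tensorBi O) E)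
    (acyclic_tensor_of_Pr _ (isKFlat₂_cone _ φ hP hP')
      ((quasiIso_iff_acyclic_mappingCone φ).1 hφ) E)

end Groth.Agent.Lib.Helper94.LTensorKFlat1
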