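import Mathlib
import Groth.Prelude.Def_CxOX
import Groth.Agent.Lib.Helper94.JShriekSupp
import Groth.Agent.Lib.Helper14.GenMono
import Groth.Agent.S0484

/-!
# Locally injective `O_X`-modules are injective (helper94)

Namespace `Groth.Agent.Lib.Helper94.LocInj`.
Baer-type criterion (helper14's `GenMono`) for the family of subobjects of the modules `j_! O_V`,
`V` ranging over the opens over which `F` is injective, plus the support lemma
`JShriek.eq_zero_of_vanish_over`.
-/

set_option autoImplicit false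
universe u
open CategoryTheory CategoryTheory.Limits AlgebraicGeometry TopologicalSpace Opposite MorphismProperty
open ZeroObject

namespace Groth.Agent.Lib.Helper94.LocInj

open Groth.Agent.Lib.Helper94.JShriek

variable {X : Scheme.{u}}

/-- `j_{V!} O_V` as an `O_X`-module -/
noncomputable abbrev Fr (V : X.Opens) : X.Modules := ModSite.freeOn X.sheaf V

/-- maps out of `j_{V!} O_V` are sections over `V` -/
noncomputable def hE (V : X.Opens) (M : X.Modules) : (Fr V ⟶ M) ≃ M.val.obj (op V) :=
  (freeOnCorepresentableBy X.sheaf V).homEquiv (Y := M)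

lemma hE_comp (V : X.Opens) {M M' : X.Modules} (h : Fr V ⟶ M) (p : M ⟶ M') :
    hE V M' (h ≫ p) = p.val.app (op V) (hE V M h) :=
  freeOnHomAddEquiv_comp X.sheaf V h p

/-- restriction along an equality of opens is bijective -/
lemma bijective_map_of_le_of_le (F : X.Modules) {W W' : X.Opens} (h : W' ≤ W) (h' : W ≤ W') :
    Function.Bijective (F.presheaf.map (homOfLE h).op) := by
  have e1 : ∀ s, F.presheaf.map (homOfLE h').op (F.presheaf.map (homOfLE h).op s) = s := by
    intro s
    rw [← ConcreteCategory.comp_apply, ← F.presheaf.map_comp, ← op_comp,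
      Subsingleton.elim (homOfLE h' ≫ homOfLE h) (𝟙 _), op_id, F.presheaf.map_id]
    rfl
  have e2 : ∀ s, F.presheaf.map (homOfLE h).op (F.presheaf.map (homOfLE h').op s) = s := by
    intro s
    rw [← ConcreteCategory.comp_apply, ← F.presheaf.map_comp, ← op_comp,
      Subsingleton.elim (homOfLE h ≫ homOfLE h') (𝟙 _), op_id, F.presheaf.map_id]
    rfl
  exact ⟨Function.LeftInverse.injective e1, Function.RightInverse.surjective e2⟩

/-- the unit `F ⟶ j_* j^* F` is bijective on sections over opens inside `U` -/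
lemma bijective_unit_app (F : X.Modules) (U W : X.Opens) (hW : W ≤ U) :
    Function.Bijective (((Scheme.Modules.restrictAdjunction U.ι).unit.app F).val.app (op W)) := by
  have h' : W ≤ U.ι ''ᵁ (U.ι ⁻¹ᵁ W) := by
    rw [Scheme.Hom.image_preimage_eq_opensRange_inf, Scheme.Opens.opensRange_ι]
    exact le_inf hW le_rfl
  exact bijective_map_of_le_of_le F (U.ι.image_preimage_le W) h'

/-- lifting against subobjects of `j_{V!} O_V` when `F|_U` is injective and `V ≤ U` -/
theorem exists_extension (F : X.Modules) (U V : X.Opens) (hVU : V ≤ U)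
    (hU : Injective ((Scheme.Modules.restrictFunctor U.ι).obj F))
    {K : X.Modules} (i : K ⟶ Fr V) [Mono i] (φ : K ⟶ F) : ∃ ψ : Fr V ⟶ F, i ≫ ψ = φ := by
  let adj := Scheme.Modules.restrictAdjunction U.ι
  let G : X.Modules :=
    (Scheme.Modules.pushforward U.ι).obj ((Scheme.Modules.restrictFunctor U.ι).obj F)
  haveI : Injective G := Injective.injective_of_adjoint adj _
  let η : F ⟶ G := adj.unit.app F
  have hη : ∀ W : X.Opens, W ≤ U → Function.Bijective (η.val.app (op W)) :=
    fun W hW => bijective_unit_app F U W hW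
  let ψ1 : Fr V ⟶ G := Injective.factorThru (φ ≫ η) i
  have h1 : i ≫ ψ1 = φ ≫ η := Injective.comp_factorThru _ _
  obtain ⟨t, ht⟩ := (hη V hVU).2 (hE V G ψ1)
  let ψ : Fr V ⟶ F := (hE V F).symm t
  have h2 : ψ ≫ η = ψ1 := by
    apply (hE V G).injective
    rw [hE_comp, Equiv.apply_symm_apply]
    exact ht
  refine ⟨ψ, ?_⟩
  rw [← sub_eq_zero]
  have h3 : (i ≫ ψ - φ) ≫ η = 0 := by
    rw [Preadditive.sub_comp, Category.assoc, h2, h1, sub_self]
  have hm : @Mono (ModSite.Mod X.sheaf) _ K (ModSite.freeOn X.sheaf V) i := ‹Mono i›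
  refine @eq_zero_of_vanish_over _ _ _ X.sheaf V (SheafOfModules.unit _) K F i hm (i ≫ ψ - φ) ?_
  intro W g s
  have hW : W ≤ U := (leOfHom g).trans hVU
  apply (hη W hW).1
  rw [map_zero]
  have h4 := congrArg (fun q : K ⟶ G => q.val.app (op W) s) h3
  exact h4

section Baer

variable (F : X.Modules)

/-- the opens contained in an open over which `F` is injective -/
def good : Set X.Opens :=
  {V | ∃ U : X.Opens, V ≤ U ∧ Injective ((Scheme.Modules.restrictFunctor U.ι).obj F)}

/-- the inclusions of the subobjects of `j_{V!} O_V`, `V` good, together with `𝟙 0` -/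
def W : MorphismProperty X.Modules :=
  MorphismProperty.ofHoms (fun (p : Σ V : good F, Subobject (Fr (V : X.Opens))) ↦ p.2.arrow) ⊔
    MorphismProperty.ofHoms (fun (_ : Unit) ↦ 𝟙 (0 : X.Modules))

variable {F}

theorem isSeparating_good
    (hF : ∀ x : X, ∃ U : X.Opens, x ∈ U ∧ Injective ((Scheme.Modules.restrictFunctor U.ι).obj F)) :
    (ObjectProperty.ofObj fun V : good F => Fr (V : X.Opens)).IsSeparating := by
  refine isSeparating_freeOn (J := Opens.grothendieckTopology X) X.sheaf (good F) ?_
  intro Z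
  choose U hxU hU using hF
  refine ⟨Z, fun x => Z ⊓ U x.1, fun x => homOfLE inf_le_left, ?_, ?_⟩
  · intro x hx
    exact ⟨Z ⊓ U x, homOfLE inf_le_left, Sieve.ofArrows_mk _ _ (⟨x, hx⟩ : Z), ⟨hx, hxU x⟩⟩
  · intro x
    exact ⟨U x.1, inf_le_right, hU x.1⟩

theorem exists_nonfactoring
    (hF : ∀ x : X, ∃ U : X.Opens, x ∈ U ∧ Injective ((Scheme.Modules.restrictFunctor U.ι).obj F))
    {A B : X.Modules} (p : A ⟶ B) [Mono p] (hp : ¬ IsIso p) :
    ∃ (V : good F) (f : Fr (V : X.Opens) ⟶ B), ∀ a : Fr (V : X.Opens) ⟶ A, a ≫ p ≠ f := by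
  by_contra hcon
  push Not at hcon
  apply hp
  have hq : cokernel.π p = 0 := by
    refine isSeparating_good hF (cokernel.π p) 0 ?_
    rintro _ ⟨V⟩ h
    obtain ⟨a, ha⟩ := hcon V h
    rw [← ha, Category.assoc, cokernel.condition, comp_zero, comp_zero]
  haveI : Epi p := Abelian.epi_of_cokernel_π_eq_zero _ hq
  exact isIso_of_mono_of_epi p

set_option backward.isDefEq.respectTransparency false in
theorem hasEnoughPushouts
    (hF : ∀ x : X, ∃ U : X.Opens, x ∈ U ∧ Injective ((Scheme.Modules.restrictFunctor U.ι).obj F)) :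
    Groth.Agent.Lib.Helper14.GenMono.HasEnoughPushouts (W F) := by
  intro A B p _ hp
  obtain ⟨V, f, hf⟩ := exists_nonfactoring hF p hp
  refine ⟨pushout (pullback.fst p f) (pullback.snd p f), pushout.inl _ _,
    pushout.desc p f pullback.condition,
    ⟨_, _, _, (Subobject.underlyingIso _).hom ≫ pullback.fst _ _,
    pushout.inr _ _, Or.inl ⟨(⟨V, Subobject.mk (pullback.snd p f)⟩ :
      Σ V : good F, Subobject (Fr (V : X.Opens)))⟩,
    (IsPushout.of_hasPushout (pullback.fst p f) (pullback.snd p f)).of_iso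
      ((Subobject.underlyingIso _).symm) (Iso.refl _) (Iso.refl _)
      (Iso.refl _) (by simp) (by simp) (by simp) (by simp)⟩, ?_, ?_, by simp⟩
  · intro h
    rw [isIso_iff_yoneda_map_bijective] at h
    obtain ⟨a, ha⟩ := (h (Fr (V : X.Opens))).2 (pushout.inr _ _)
    exact hf a (by simpa using ha =≫ pushout.desc p f pullback.condition)
  · exact (IsPushout.of_hasPushout _ _).mono_of_isPullback_of_mono
      (IsPullback.of_hasPullback p f) _ (by simp) (by simp)

theorem isomorphisms_le :
    MorphismProperty.isomorphisms X.Modules ≤ (W F).pushouts :=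
  MorphismProperty.isomorphisms_le_pushouts _
    (fun _ ↦ ⟨_, _, _, Or.inr ⟨()⟩, 0, inferInstance⟩)

/-- an `O_X`-module which is locally injective is injective -/
theorem injective_of_locally_injective
    (hF : ∀ x : X, ∃ U : X.Opens, x ∈ U ∧ Injective ((Scheme.Modules.restrictFunctor U.ι).obj F)) :
    Injective F := by
  haveI : IsGrothendieckAbelian.{u} X.Modules :=
    Groth.Agent.S0484.result (Opens.grothendieckTopology X) X.ringCatSheaf
  rw [injective_iff_rlp_monomorphisms_zero]
  refine Groth.Agent.Lib.Helper14.GenMono.rlp_le_monomorphisms_rlp.{u} (hasEnoughPushouts hF)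
    isomorphisms_le _ ?_
  rintro _ _ _ (⟨⟨⟨V, U, hVU, hU⟩, S⟩⟩ | ⟨⟨⟩⟩)
  · constructor
    intro φ g sq
    obtain ⟨ψ, hψ⟩ := exists_extension F U V hVU hU S.arrow φ
    exact ⟨⟨{ l := ψ, fac_left := hψ, fac_right := (Limits.isZero_zero _).eq_of_tgt _ _ }⟩⟩
  · infer_instance

end Baer

end Groth.Agent.Lib.Helper94.LocInj
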