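import Groth.Agent.Lib.Helper94.DerCoprodFunctor
import Groth.Agent.Lib.Helper6.PullComp

/-!
# `Lf^*` commutes with coproducts (helper94, on top of helper6's `PullComp`)

Namespace `Groth.Agent.Lib.Helper94.LpullCoprod`.
-/

universe u

open CategoryTheory CategoryTheory.Limits HomologicalComplex AlgebraicGeometry

namespace Groth.Agent.Lib.Helper94.LpullCoprod

open Groth.Agent.Lib.Helper94.DerCoprodU Groth.Agent.Lib.Helper6.CellOrth
  CochainComplex.HomComplex

section Orth

variable {A : Type*} [Category A] [Abelian A] {ι : Type*} [HasColimitsOfShape (Discrete ι) A]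

lemma cochain_ext_sigmaC (K : ι → CochainComplex A ℤ) (Z : CochainComplex A ℤ) (n : ℤ)
    (w w' : Cochain (sigmaC K) Z n)
    (h : ∀ i, (Cochain.ofHom (ιC K i)).comp w (zero_add n) =
      (Cochain.ofHom (ιC K i)).comp w' (zero_add n)) : w = w' := by
  ext p q hpq
  refine colimit.hom_ext (fun ⟨i⟩ => ?_)
  have h1 := congrArg (fun c => c.v p q hpq) (h i)
  simp only [Cochain.zero_cochain_comp_v, Cochain.ofHom_v] at h1
  exact h1

theorem leftOrth_sigmaC (𝒵 : CochainComplex A ℤ → Prop) (K : ι → CochainComplex A ℤ)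
    (hK : ∀ i, LeftOrth 𝒵 (K i)) : LeftOrth 𝒵 (sigmaC K) := by
  intro Z hZ n m hm z hz
  have hzi : ∀ i, δ n (n + 1) ((Cochain.ofHom (ιC K i)).comp z (zero_add n)) = 0 := fun i => by
    rw [δ_ofHom_comp, hz, Cochain.comp_zero]
  choose y hy using fun i => hK i Z hZ n m hm _ (hzi i)
  let Y : Cochain (sigmaC K) Z m := Cochain.mk (fun p q hpq =>
    colimit.desc ((fam K).X p) ⟨Z.X q, Discrete.natTrans (fun j => (y j.as).v p q hpq)⟩)
  have hY : ∀ i, (Cochain.ofHom (ιC K i)).comp Y (zero_add m) = y i := fun i => by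
    ext p q hpq
    simp only [Cochain.zero_cochain_comp_v, Cochain.ofHom_v]
    exact colimit.ι_desc _ _
  refine ⟨Y, cochain_ext_sigmaC K Z n _ _ (fun i => ?_)⟩
  rw [← δ_ofHom_comp, hY, hy]

end Orth

section Scheme

attribute [local instance] HasDerivedCategory.standard

open Groth.Agent.Lib.Helper6.PullComp Groth.Agent.Lib.Helper6.PullDer

/-- **`Lf^*` commutes with coproducts** -/
theorem isIso_sigmaDesc_Lpull {X Y : Scheme.{u}} (f : X ⟶ Y) [DCoh.HasLpull f] {ι : Type u}
    (C : ι → DCoh.D Y) [HasCoproduct C] [HasCoproduct (fun i => (DCoh.Lpull f).obj (C i))] :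
    IsIso (Sigma.desc (fun i => (DCoh.Lpull f).map (Sigma.ι C i))) :=
  Groth.Agent.Lib.Helper94.DerCoprodFunctor.isIso_sigmaDesc (pullCh f) (DCoh.Lpull f) (αCh f)
    (LeftOrth (𝒵 Y)) (fun K => hres K) (fun P hP => isIso_αCh_app f P hP)
    (fun K hK => leftOrth_sigmaC _ K hK) C

end Scheme

end Groth.Agent.Lib.Helper94.LpullCoprod
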