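import Mathlib.Algebra.Category.ModuleCat.Presheaf.Monoidal
import Mathlib.Algebra.Category.ModuleCat.Presheaf.Sheafification
import Mathlib.LinearAlgebra.TensorProduct.Vanishing
import Mathlib.RingTheory.TensorProduct.DirectLimitFG
import Groth.Prelude.Def_ModSite

/-!
# Sheafification of presheaves of modules is compatible with the tensor product (helper94)

Namespace `Groth.Agent.Lib.Helper94.ModTensorW`.
-/

universe u v' u'

open CategoryTheory MonoidalCategory TensorProduct

namespace Groth.Agent.Lib.Helper94.ModTensorW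

section Vanishing

variable {A : Type*} [CommRing A] {M N : Type*} [AddCommGroup M] [Module A M]
  [AddCommGroup N] [Module A N]

/-- General equational criterion for vanishing of `∑ mᵢ ⊗ nᵢ` (no generation hypothesis):
after adding finitely many extra elements `g l` of `M` (paired with `0`), the sum vanishes
trivially. -/
theorem exists_vanishing_data {ι : Type*} [Fintype ι] (m : ι → M) (n : ι → N)
    (h : ∑ i, m i ⊗ₜ[A] n i = 0) :
    ∃ (r : ℕ) (g : Fin r → M) (k : ℕ) (a : ι → Fin k → A) (b : Fin r → Fin k → A)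
      (y : Fin k → N),
      (∀ i, n i = ∑ j, a i j • y j) ∧ (∀ l, ∑ j, b l j • y j = 0) ∧
      (∀ j, ∑ i, a i j • m i + ∑ l, b l j • g l = 0) := by
  classical
  set P₀ : Submodule A M := Submodule.span A (Set.range m) with hP₀
  have hP₀fg : P₀.FG := Submodule.fg_span (Set.finite_range m)
  let m₀ : ι → P₀ := fun i => ⟨m i, Submodule.subset_span ⟨i, rfl⟩⟩
  set t₀ : P₀ ⊗[A] N := ∑ i, m₀ i ⊗ₜ[A] n i with ht₀
  have h0 : LinearMap.rTensor N P₀.subtype t₀ = 0 := by
    rw [ht₀, map_sum]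
    simpa [m₀] using h
  obtain ⟨Q₀, hPQ, hQfg, hQ⟩ := TensorProduct.eq_zero_of_fg_of_subtype_eq_zero hP₀fg h0
  obtain ⟨r, g, hg⟩ := Submodule.fg_iff_exists_fin_generating_family.1
    ((Submodule.fg_top Q₀).2 hQfg)
  let m' : ι ⊕ Fin r → Q₀ := Sum.elim (fun i => Submodule.inclusion hPQ (m₀ i)) g
  let n' : ι ⊕ Fin r → N := Sum.elim n (fun _ => 0)
  have hspan : Submodule.span A (Set.range m') = ⊤ := by
    rw [eq_top_iff, ← hg]
    apply Submodule.span_mono
    rintro _ ⟨l, rfl⟩
    exact ⟨Sum.inr l, rfl⟩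
  have hsum : ∑ k, m' k ⊗ₜ[A] n' k = 0 := by
    rw [Fintype.sum_sum_type]
    simp only [m', n', Sum.elim_inl, Sum.elim_inr, tmul_zero, Finset.sum_const_zero, add_zero]
    rw [ht₀, map_sum] at hQ
    simpa using hQ
  obtain ⟨k, a, y, h1, h2⟩ := TensorProduct.vanishesTrivially_of_sum_tmul_eq_zero A hspan hsum
  refine ⟨r, fun l => (g l : M), k, fun i => a (Sum.inl i), fun l => a (Sum.inr l), y,
    fun i => h1 (Sum.inl i), fun l => (h1 (Sum.inr l)).symm, fun j => ?_⟩
  have := congrArg (fun x : Q₀ => (x : M)) (h2 j)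
  rw [Fintype.sum_sum_type] at this
  simpa [m', m₀] using this

end Vanishing

section Presheaf

open Opposite

variable {C : Type u'} [Category.{v'} C] (J : GrothendieckTopology C) {R : Cᵒᵖ ⥤ CommRingCat.{u}}
variable {P P' : PresheafOfModules.{u} (R ⋙ forget₂ CommRingCat.{u} RingCat.{u})} (f : P ⟶ P')
  (Q : PresheafOfModules.{u} (R ⋙ forget₂ CommRingCat.{u} RingCat.{u}))

/-- restriction on pure tensors -/
lemma map_tmul {X Y : Cᵒᵖ} (g : X ⟶ Y) (p : P.obj X) (q : Q.obj X) :
    ((P ⊗ Q).map g).hom (p ⊗ₜ[R.obj X] q) = ((P.map g).hom p ⊗ₜ[R.obj Y] (Q.map g).hom q) := rfl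

/-- whiskering on pure tensors -/
lemma whiskerRight_tmul (X : Cᵒᵖ) (p : P.obj X) (q : Q.obj X) :
    ((f ▷ Q).app X).hom (p ⊗ₜ[R.obj X] q) = ((f.app X).hom p ⊗ₜ[R.obj X] q) := rfl

theorem isLocallySurjective_whiskerRight [hs : PresheafOfModules.IsLocallySurjective J f] :
    PresheafOfModules.IsLocallySurjective J (f ▷ Q) := by
  constructor
  intro U s
  change ((P' ⊗ Q).obj (op U)) at s
  induction s using TensorProduct.induction_on with
  | zero =>
    refine J.superset_covering ?_ (J.top_mem U)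
    intro V g _
    exact ⟨0, (map_zero _).trans (map_zero _).symm⟩
  | tmul p q =>
    refine J.superset_covering ?_
      (Presheaf.imageSieve_mem J ((PresheafOfModules.toPresheaf _).map f) p)
    rintro V g ⟨t, ht⟩
    refine ⟨(show P.obj (op V) from t) ⊗ₜ[R.obj (op V)] (Q.map g.op).hom q, ?_⟩
    change ((f.app (op V)).hom t ⊗ₜ[R.obj (op V)] (Q.map g.op).hom q) =
      ((P'.map g.op).hom p ⊗ₜ[R.obj (op V)] (Q.map g.op).hom q)
    congr 1
  | add x y hx hy =>
    refine J.superset_covering ?_ (J.intersection_covering hx hy)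
    rintro V g ⟨⟨t₁, h₁⟩, ⟨t₂, h₂⟩⟩
    exact ⟨t₁ + t₂, (map_add _ t₁ t₂).trans
      ((congrArg₂ (· + ·) h₁ h₂).trans (map_add _ _ _).symm)⟩

theorem finset_inf_covering {ι : Type*} [Fintype ι] {U : C} (S : ι → Sieve U)
    (h : ∀ i, S i ∈ J U) : Finset.univ.inf S ∈ J U := by
  classical
  induction (Finset.univ : Finset ι) using Finset.induction_on with
  | empty => simp
  | insert a s _ ih =>
    rw [Finset.inf_insert]
    exact J.intersection_covering (h a) ih

lemma restr_tmul {X Y : Cᵒᵖ} (g : X ⟶ Y) (p : P.obj X) (q : Q.obj X) :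
    (P ⊗ Q).restrictₛₗ g (p ⊗ₜ[R.obj X] q) = (P.restrictₛₗ g p ⊗ₜ[R.obj Y] Q.restrictₛₗ g q) := rfl

lemma restr_comp (M : PresheafOfModules.{u} (R ⋙ forget₂ CommRingCat.{u} RingCat.{u}))
    {X Y Z : Cᵒᵖ} (i : X ⟶ Y) (j : Y ⟶ Z) (x : M.obj X) :
    M.restrictₛₗ (i ≫ j) x = M.restrictₛₗ j (M.restrictₛₗ i x) :=
  M.map_comp_apply i j x

lemma ring_comp {X Y Z : Cᵒᵖ} (i : X ⟶ Y) (j : Y ⟶ Z) (a : R.obj X) :
    ((R ⋙ forget₂ CommRingCat.{u} RingCat.{u}).map (i ≫ j)).hom a =
      ((R ⋙ forget₂ CommRingCat.{u} RingCat.{u}).map j).hom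
        (((R ⋙ forget₂ CommRingCat.{u} RingCat.{u}).map i).hom a) := by
  rw [Functor.map_comp]; rfl

theorem equalizerSieve_zero_mem [hi : PresheafOfModules.IsLocallyInjective J f]
    [hs : PresheafOfModules.IsLocallySurjective J f] (U : C) (t : (P ⊗ Q).obj (op U))
    (ht : ((f ▷ Q).app (op U)).hom t = 0) :
    Presheaf.equalizerSieve (F := (PresheafOfModules.toPresheaf _).obj (P ⊗ Q)) (X := op U)
      t 0 ∈ J U := by
  classical
  obtain ⟨n, p, q, rfl⟩ := TensorProduct.exists_sum_tmul_eq t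
  have h0 : ∑ i, ((f.app (op U)).hom (p i)) ⊗ₜ[R.obj (op U)] (q i) = 0 := by
    exact (map_sum ((f ▷ Q).app (op U)).hom _ _).symm.trans ht
  obtain ⟨r, g', k, a, b, y, h1, h2, h3⟩ := exists_vanishing_data _ _ h0
  let S : Sieve U := Finset.univ.inf fun l : Fin r =>
    Presheaf.imageSieve ((PresheafOfModules.toPresheaf _).map f) (g' l)
  have hS : S ∈ J U := finset_inf_covering J _ (fun l => Presheaf.imageSieve_mem J _ _)
  refine J.transitive hS _ ?_
  intro V v hv
  have hv' : ∀ l, ∃ p'' : P.obj (op V), (f.app (op V)).hom p'' = P'.restrictₛₗ v.op (g' l) :=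
    fun l => (Finset.inf_le (Finset.mem_univ l) : S ≤ _) _ hv
  choose p'' hp'' using hv'
  let x : Fin k → P.obj (op V) := fun j =>
    ∑ i, ((R ⋙ forget₂ CommRingCat.{u} RingCat.{u}).map v.op).hom (a i j) • P.restrictₛₗ v.op (p i) +
      ∑ l, ((R ⋙ forget₂ CommRingCat.{u} RingCat.{u}).map v.op).hom (b l j) • p'' l
  have hx : ∀ j, (f.app (op V)).hom (x j) = 0 := by
    intro j
    have nat : ∀ i, (f.app (op V)).hom (P.restrictₛₗ v.op (p i)) =
        P'.restrictₛₗ v.op ((f.app (op U)).hom (p i)) :=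
      fun i => PresheafOfModules.naturality_apply f v.op (p i)
    have := congrArg (P'.restrictₛₗ v.op) (h3 j)
    simp only [map_add, map_sum, map_smulₛₗ, map_zero] at this
    simp only [x, map_add, map_sum, map_smul, hp'', nat]
    exact this
  let T : Sieve V := Finset.univ.inf fun j : Fin k =>
    Presheaf.equalizerSieve (F := (PresheafOfModules.toPresheaf _).obj P) (X := op V) (x j) 0
  have hT : T ∈ J V := finset_inf_covering J _ (fun j =>
    Presheaf.equalizerSieve_mem J ((PresheafOfModules.toPresheaf _).map f) _ _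
      ((hx j).trans (map_zero _).symm))
  refine J.superset_covering ?_ hT
  intro W w hw
  have hw' : ∀ j, P.restrictₛₗ w.op (x j) = 0 := fun j =>
    ((Finset.inf_le (Finset.mem_univ j) : T ≤ _) _ hw).trans (map_zero _)
  change (P ⊗ Q).restrictₛₗ (w ≫ v).op (∑ i, p i ⊗ₜ[R.obj (op U)] q i) =
    (P ⊗ Q).restrictₛₗ (w ≫ v).op 0
  refine ((map_sum ((P ⊗ Q).restrictₛₗ (w ≫ v).op) _ _).trans ?_).trans (map_zero _).symm
  change ∑ i, (P.restrictₛₗ (w ≫ v).op (p i) ⊗ₜ[R.obj (op W)] Q.restrictₛₗ (w ≫ v).op (q i)) = 0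
  -- apply the trivial vanishing criterion over `R.obj (op W)`
  let m' : Fin n ⊕ Fin r → P.obj (op W) :=
    Sum.elim (fun i => P.restrictₛₗ (w ≫ v).op (p i)) (fun l => P.restrictₛₗ w.op (p'' l))
  let n' : Fin n ⊕ Fin r → Q.obj (op W) :=
    Sum.elim (fun i => Q.restrictₛₗ (w ≫ v).op (q i)) (fun _ => 0)
  let a' : Fin n ⊕ Fin r → Fin k → R.obj (op W) :=
    Sum.elim (fun i j => ((R ⋙ forget₂ CommRingCat.{u} RingCat.{u}).map (w ≫ v).op).hom (a i j))
      (fun l j => ((R ⋙ forget₂ CommRingCat.{u} RingCat.{u}).map (w ≫ v).op).hom (b l j))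
  let y' : Fin k → Q.obj (op W) := fun j => Q.restrictₛₗ (w ≫ v).op (y j)
  have c1 : ∀ i', n' i' = ∑ j, a' i' j • y' j := by
    rintro (i | l)
    · have := congrArg (Q.restrictₛₗ (w ≫ v).op) (h1 i)
      simp only [map_sum, map_smulₛₗ] at this
      exact this
    · have := congrArg (Q.restrictₛₗ (w ≫ v).op) (h2 l)
      simp only [map_sum, map_smulₛₗ, map_zero] at this
      exact this.symm
  have c2 : ∀ j, ∑ i', a' i' j • m' i' = 0 := by
    intro j
    rw [Fintype.sum_sum_type]
    have := hw' j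
    simp only [x, map_add, map_sum, map_smulₛₗ] at this
    rw [← this]
    simp only [a', m', Sum.elim_inl, Sum.elim_inr]
    congr 1
    · refine Finset.sum_congr rfl fun i _ => ?_
      rw [op_comp, ring_comp, restr_comp]
    · refine Finset.sum_congr rfl fun l _ => ?_
      rw [op_comp, ring_comp]
  have key := TensorProduct.sum_tmul_eq_zero_of_vanishesTrivially (R.obj (op W))
    (m := m') (n := n') ⟨k, a', y', c1, c2⟩
  rw [Fintype.sum_sum_type] at key
  simpa [m', n'] using key

theorem isLocallyInjective_whiskerRight [hi : PresheafOfModules.IsLocallyInjective J f]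
    [hs : PresheafOfModules.IsLocallySurjective J f] :
    PresheafOfModules.IsLocallyInjective J (f ▷ Q) := by
  constructor
  intro X x y h
  have h' : ((f ▷ Q).app (op X.unop)).hom
      ((show (P ⊗ Q).obj (op X.unop) from x) - (show (P ⊗ Q).obj (op X.unop) from y)) = 0 := by
    rw [map_sub, sub_eq_zero]
    exact h
  refine J.superset_covering ?_ (equalizerSieve_zero_mem J f Q X.unop _ h')
  intro V v hv
  have : (P ⊗ Q).restrictₛₗ v.op ((show (P ⊗ Q).obj (op X.unop) from x) -
      (show (P ⊗ Q).obj (op X.unop) from y)) = (P ⊗ Q).restrictₛₗ v.op 0 := hv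
  rw [map_sub, map_zero, sub_eq_zero] at this
  exact this

end Presheaf

section W

open Opposite

variable {C : Type u'} [Category.{v'} C] (J : GrothendieckTopology C) {R : Cᵒᵖ ⥤ CommRingCat.{u}}
  [J.WEqualsLocallyBijective AddCommGrpCat.{u}]

/-- The class of morphisms of presheaves of modules which are locally bijective. -/
def WMod : MorphismProperty (PresheafOfModules.{u} (R ⋙ forget₂ CommRingCat.{u} RingCat.{u})) :=
  fun _ _ f => J.W ((PresheafOfModules.toPresheaf _).map f)

variable {P P' Q Q' : PresheafOfModules.{u} (R ⋙ forget₂ CommRingCat.{u} RingCat.{u})}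

omit [J.WEqualsLocallyBijective AddCommGrpCat.{u}] in
lemma wMod_iff (f : P ⟶ P') : WMod J f ↔ J.W ((PresheafOfModules.toPresheaf _).map f) := Iff.rfl

omit [J.WEqualsLocallyBijective AddCommGrpCat.{u}] in
lemma wMod_of_isIso (f : P ⟶ P') [IsIso f] : WMod J f := by
  rw [wMod_iff]
  exact MorphismProperty.of_isIso J.W _

omit [J.WEqualsLocallyBijective AddCommGrpCat.{u}] in
lemma wMod_comp {P'' : PresheafOfModules.{u} (R ⋙ forget₂ CommRingCat.{u} RingCat.{u})}
    (f : P ⟶ P') (g : P' ⟶ P'') (hf : WMod J f) (hg : WMod J g) : WMod J (f ≫ g) := by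
  rw [wMod_iff, Functor.map_comp]
  exact J.W.comp_mem _ _ hf hg

theorem wMod_whiskerRight (f : P ⟶ P') (hf : WMod J f)
    (Q : PresheafOfModules.{u} (R ⋙ forget₂ CommRingCat.{u} RingCat.{u})) : WMod J (f ▷ Q) := by
  rw [wMod_iff, J.W_iff_isLocallyBijective] at hf ⊢
  have : PresheafOfModules.IsLocallyInjective J f := hf.1
  have : PresheafOfModules.IsLocallySurjective J f := hf.2
  exact ⟨isLocallyInjective_whiskerRight J f Q, isLocallySurjective_whiskerRight J f Q⟩

theorem wMod_whiskerLeft (Q : PresheafOfModules.{u} (R ⋙ forget₂ CommRingCat.{u} RingCat.{u}))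
    (f : P ⟶ P') (hf : WMod J f) : WMod J (Q ◁ f) := by
  have e : Q ◁ f = (β_ Q P).hom ≫ (f ▷ Q) ≫ (β_ P' Q).hom := by
    rw [BraidedCategory.braiding_naturality_left, ← Category.assoc,
      SymmetricCategory.symmetry, Category.id_comp]
  rw [e]
  exact wMod_comp J _ _ (wMod_of_isIso J _)
    (wMod_comp J _ _ (wMod_whiskerRight J f hf Q) (wMod_of_isIso J _))

theorem wMod_tensorHom (f : P ⟶ P') (g : Q ⟶ Q') (hf : WMod J f) (hg : WMod J g) :
    WMod J (f ⊗ₘ g) := by
  rw [tensorHom_def]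
  exact wMod_comp J _ _ (wMod_whiskerRight J f hf Q) (wMod_whiskerLeft J P' g hg)

end W

section Sheafification

variable {C : Type u} [SmallCategory C] {J : GrothendieckTopology C}
  (O : Sheaf J CommRingCat.{u})

open ModSite

/-- sheafification of presheaves of modules over `O` (`= ModSite.sheafify O`) -/
noncomputable abbrev shf :
    PresheafOfModules.{u} (O.obj ⋙ forget₂ CommRingCat.{u} RingCat.{u}) ⥤ ModSite.Mod O :=
  ModSite.sheafify O

/-- the unit of the sheafification adjunction, typed over `O.obj ⋙ forget₂ _ _` -/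
noncomputable abbrev unitMap
    (M : PresheafOfModules.{u} (O.obj ⋙ forget₂ CommRingCat.{u} RingCat.{u})) :
    M ⟶ (SheafOfModules.forget (ringSh O)).obj ((shf O).obj M) :=
  (PresheafOfModules.sheafificationAdjunction (𝟙 (ringSh O).obj)).unit.app M

variable {O}
variable {P P' Q Q' : PresheafOfModules.{u} (O.obj ⋙ forget₂ CommRingCat.{u} RingCat.{u})}

theorem isIso_shf_map_of_wMod (f : P ⟶ P') (hf : WMod J f) : IsIso ((shf O).map f) := by
  have : IsIso ((SheafOfModules.toSheaf (ringSh O)).map ((shf O).map f)) := by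
    change IsIso ((presheafToSheaf J AddCommGrpCat.{u}).map
      ((PresheafOfModules.toPresheaf _).map f))
    exact (J.W_iff _).1 hf
  exact isIso_of_reflects_iso _ (SheafOfModules.toSheaf (ringSh O))

theorem wMod_unit (M : PresheafOfModules.{u} (O.obj ⋙ forget₂ CommRingCat.{u} RingCat.{u})) :
    WMod J (unitMap O M) := by
  change J.W (CategoryTheory.toSheafify J M.presheaf)
  exact J.W_toSheafify _

theorem isIso_shf_map_tensorHom (f : P ⟶ P') (g : Q ⟶ Q') (hf : WMod J f) (hg : WMod J g) :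
    IsIso ((shf O).map (f ⊗ₘ g)) :=
  isIso_shf_map_of_wMod _ (wMod_tensorHom J f g hf hg)

end Sheafification

end Groth.Agent.Lib.Helper94.ModTensorW
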