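import Groth.Agent.Lib.Helper94.KFlatBi

/-!
# `Tot(T(-,K))` preserves colimits (helper94)

Namespace `Groth.Agent.Lib.Helper94.PsiOneColim`.
-/

universe v₁ v₂ v₃ u₁ u₂ u₃ w w'

open CategoryTheory CategoryTheory.Limits HomologicalComplex

namespace Groth.Agent.Lib.Helper94.PsiOneColim

open Groth.Agent.Lib.Helper94.KFlatAbs Groth.Agent.Lib.Helper94.KFlatBi

variable {C₁ : Type u₁} [Category.{v₁} C₁] [Abelian C₁] {C₂ : Type u₂} [Category.{v₂} C₂] [Abelian C₂]
  {D : Type u₃} [Category.{v₃} D] [Abelian D]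
  (T : C₁ ⥤ C₂ ⥤ D) [T.Additive] [∀ X, (T.obj X).Additive]
  [∀ (K₁ : CochainComplex C₁ ℤ) (K₂ : CochainComplex C₂ ℤ),
    HasMapBifunctor K₁ K₂ T (ComplexShape.up ℤ)]

@[reassoc]
lemma ι_Ψ₁_map (K : CochainComplex C₂ ℤ) {F G : CochainComplex C₁ ℤ} (f : F ⟶ G) (p q n : ℤ)
    (h : ComplexShape.π (ComplexShape.up ℤ) (ComplexShape.up ℤ) (ComplexShape.up ℤ) (p, q) = n) :
    ιMapBifunctor F K T (ComplexShape.up ℤ) p q n h ≫
        (mapBifunctorMap f (𝟙 K) T (ComplexShape.up ℤ)).f n =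
      (T.map (f.f p)).app (K.X q) ≫ ιMapBifunctor G K T (ComplexShape.up ℤ) p q n h := by
  refine (ι_mapBifunctorMap f (𝟙 K) T (ComplexShape.up ℤ) p q n h).trans ?_
  simp

variable {J : Type w} [Category.{w'} J] [HasColimitsOfShape J C₁]
  [∀ Y : C₂, PreservesColimitsOfShape J (T.flip.obj Y)]

/-- `Tot(T(-,K))` preserves colimits of shape `J` in degree `n` -/
noncomputable def isColimitMapCoconeΨ₁Eval (K : CochainComplex C₂ ℤ) (n : ℤ)
    {G : J ⥤ CochainComplex C₁ ℤ} (c : Cocone G) (hc : IsColimit c) :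
    IsColimit ((Ψ₁ T K ⋙ eval D (ComplexShape.up ℤ) n).mapCocone c) := by
  have hpq : ∀ p q : ℤ, IsColimit ((T.flip.obj (K.X q)).mapCocone
      ((eval C₁ (ComplexShape.up ℤ) p).mapCocone c)) := fun p q =>
    isColimitOfPreserves (T.flip.obj (K.X q))
      (isColimitOfPreserves (eval C₁ (ComplexShape.up ℤ) p) hc)
  let cc : ∀ (s : Cocone (G ⋙ Ψ₁ T K ⋙ eval D (ComplexShape.up ℤ) n)) (p q : ℤ)
      (h : ComplexShape.π (ComplexShape.up ℤ) (ComplexShape.up ℤ) (ComplexShape.up ℤ) (p, q) = n),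
      Cocone ((G ⋙ eval C₁ (ComplexShape.up ℤ) p) ⋙ T.flip.obj (K.X q)) := fun s p q h =>
    { pt := s.pt
      ι :=
        { app := fun j => ιMapBifunctor (G.obj j) K T (ComplexShape.up ℤ) p q n h ≫ s.ι.app j
          naturality := fun j j' φ => by
            let a : (mapBifunctor (G.obj j') K T (ComplexShape.up ℤ)).X n ⟶ s.pt := s.ι.app j'
            let b : (mapBifunctor (G.obj j) K T (ComplexShape.up ℤ)).X n ⟶ s.pt := s.ι.app j
            have h1 : (mapBifunctorMap (G.map φ) (𝟙 K) T (ComplexShape.up ℤ)).f n ≫ a = b := s.w φ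
            change (T.map ((G.map φ).f p)).app (K.X q) ≫
              ιMapBifunctor (G.obj j') K T (ComplexShape.up ℤ) p q n h ≫ a =
              (ιMapBifunctor (G.obj j) K T (ComplexShape.up ℤ) p q n h ≫ b) ≫ 𝟙 _
            rw [Category.comp_id, ← h1, ι_Ψ₁_map_assoc] } }
  exact
    { desc := fun s => mapBifunctorDesc (K₁ := c.pt) (K₂ := K) (F := T)
        (c := ComplexShape.up ℤ) (j := n) (fun p q h => (hpq p q).desc (cc s p q h))
      fac := fun s j => by
        refine mapBifunctor.hom_ext (K₁ := G.obj j) (K₂ := K) (F := T) (c := ComplexShape.up ℤ)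
          (fun p q h => ?_)
        let d : (mapBifunctor c.pt K T (ComplexShape.up ℤ)).X n ⟶ s.pt :=
          mapBifunctorDesc (K₁ := c.pt) (K₂ := K) (F := T)
            (c := ComplexShape.up ℤ) (j := n) (fun p q h => (hpq p q).desc (cc s p q h))
        have hd : ιMapBifunctor c.pt K T (ComplexShape.up ℤ) p q n h ≫ d =
            (hpq p q).desc (cc s p q h) := ι_mapBifunctorDesc _ _ _ _
        let b : (mapBifunctor (G.obj j) K T (ComplexShape.up ℤ)).X n ⟶ s.pt := s.ι.app j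
        let ιj : G.obj j ⟶ c.pt := c.ι.app j
        change ιMapBifunctor (G.obj j) K T (ComplexShape.up ℤ) p q n h ≫
          (mapBifunctorMap ιj (𝟙 K) T (ComplexShape.up ℤ)).f n ≫ d =
          ιMapBifunctor (G.obj j) K T (ComplexShape.up ℤ) p q n h ≫ b
        rw [ι_Ψ₁_map_assoc, hd]
        exact (hpq p q).fac (cc s p q h) j
      uniq := fun s m hm => by
        refine mapBifunctor.hom_ext (K₁ := c.pt) (K₂ := K) (F := T) (c := ComplexShape.up ℤ)
          (fun p q h => ?_)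
        refine Eq.trans ?_ (ι_mapBifunctorDesc _ _ _ _).symm
        refine (hpq p q).uniq (cc s p q h) _ (fun j => ?_)
        let m' : (mapBifunctor c.pt K T (ComplexShape.up ℤ)).X n ⟶ s.pt := m
        let b : (mapBifunctor (G.obj j) K T (ComplexShape.up ℤ)).X n ⟶ s.pt := s.ι.app j
        let ιj : G.obj j ⟶ c.pt := c.ι.app j
        have h2 : (mapBifunctorMap ιj (𝟙 K) T (ComplexShape.up ℤ)).f n ≫ m' = b := hm j
        change (T.map (ιj.f p)).app (K.X q) ≫
          ιMapBifunctor c.pt K T (ComplexShape.up ℤ) p q n h ≫ m' =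
          ιMapBifunctor (G.obj j) K T (ComplexShape.up ℤ) p q n h ≫ b
        rw [← h2, ι_Ψ₁_map_assoc] }

/-- `Tot(T(-,K))` preserves colimits of shape `J` when each `T(-,Y)` does -/
theorem preservesColimitsOfShape_Ψ₁ (K : CochainComplex C₂ ℤ) :
    PreservesColimitsOfShape J (Ψ₁ T K) :=
  preservesColimitsOfShape_of_eval _
    (fun n => ⟨fun {_} => ⟨fun {c} hc => ⟨isColimitMapCoconeΨ₁Eval T K n c hc⟩⟩⟩)

end Groth.Agent.Lib.Helper94.PsiOneColim
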