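import Groth.Agent.Lib.Helper94.HomFlasque
import Groth.Agent.Lib.Helper19.SiteFlasque
import Groth.Agent.Lib.Helper6.SectAcyc
import Groth.Prelude.Def_DCoh4

/-!
# `Hom_{O_X}(F, I)` is flasque for `I` injective (helper94)

Namespace `Groth.Agent.Lib.Helper94.SheafHomFlasque`.
* `surjective_map_of_isTotallyAcyclic`: totally acyclic abelian sheaves on a small site are
  "flasque" along arrows `h : U ⟶ V` whose sheafified Yoneda image is a monomorphism.
* `sheafHomIso`: the scheme-level `DCoh.sheafHom F` is the ringed-site `ModSite.sheafHom F`.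
* `surjective_sheafHom_map`: the flasqueness statement.
-/

set_option autoImplicit false
universe u
open CategoryTheory CategoryTheory.Limits AlgebraicGeometry TopologicalSpace Opposite

namespace Groth.Agent.Lib.Helper94.SheafHomFlasque

open Groth.Agent.Lib.Helper19 Groth.Agent.Lib.Helper19.CechHom Groth.Agent.Lib.Helper19.CechTop
  Groth.Agent.Lib.Helper19.CechMono Groth.Agent.Lib.Helper34.HZSect
  Groth.Agent.Lib.Helper19.SiteFlasque

section Site

variable {C : Type u} [SmallCategory C] {J : GrothendieckTopology C}

theorem surjective_map_of_isTotallyAcyclic (A : Sheaf J AddCommGrpCat.{u})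
    (hA : CohCx.IsTotallyAcyclic A) {U V : C} (h : U ⟶ V) [Mono (epsMap (J := J) h)] :
    Function.Surjective (((CechTop.U J).obj A).obj.map h.op) := by
  intro s
  obtain ⟨t, ht⟩ := CechMono.exists_extension A hA (epsMap (J := J) h) ((evEquiv U A).symm s)
  refine ⟨evEquiv V A t, ?_⟩
  rw [← evEquiv_epsMap_comp, ht, Equiv.apply_symm_apply]

instance mono_epsMap {U V : C} (h : U ⟶ V) [Mono h] : Mono (epsMap (J := J) h) := by
  have : Mono (yoneda.map h) := inferInstance
  exact (presheafToSheaf J (Type u)).map_mono _

end Site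

section Scheme

open Groth.Agent.Lib.Helper94.ModTensor Groth.Agent.Lib.Helper94.ModFlat

variable {X : Scheme.{u}}

/-- `F ⊗ -` in the prelude's scheme form is `F ⊗ -` on the ringed site of opens -/
noncomputable def tensorBiObjIsoTensL (F : X.Modules) :
    (DCoh.tensorBi (X := X)).obj F ≅ tensL (J := Opens.grothendieckTopology X) X.sheaf F :=
  NatIso.ofComponents (fun N => Iso.refl _) (by
    intro N N' φ
    exact (Category.comp_id _).trans (Category.id_comp _).symm)

/-- `F ⊗ -` in the prelude's scheme form is `- ⊗ F` on the ringed site of opens -/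
noncomputable def tensorBiObjIsoTensR (F : X.Modules) :
    (DCoh.tensorBi (X := X)).obj F ≅ tensR (J := Opens.grothendieckTopology X) X.sheaf F :=
  tensorBiObjIsoTensL F ≪≫ tensLIsoTensR (J := Opens.grothendieckTopology X) X.sheaf F

theorem hasSheafHom_site (F : X.Modules) [DCoh.HasSheafHom F] :
    ModSite.HasSheafHom (J := Opens.grothendieckTopology X) (O := X.sheaf) F := by
  have h0 : ((DCoh.tensorBi (X := X)).obj F).IsLeftAdjoint := ‹DCoh.HasSheafHom F›
  exact @Functor.isLeftAdjoint_of_iso _ _ _ _ _ _ (tensorBiObjIsoTensR F) h0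

/-- the two internal homs agree -/
noncomputable def sheafHomIso (F : X.Modules) [DCoh.HasSheafHom F]
    [ModSite.HasSheafHom (J := Opens.grothendieckTopology X) (O := X.sheaf) F] :
    DCoh.sheafHom F ≅ ModSite.sheafHom (J := Opens.grothendieckTopology X) (O := X.sheaf) F :=
  ((DCoh.sheafHomAdj F).ofNatIsoLeft (tensorBiObjIsoTensR F)).rightAdjointUniq
    (ModSite.sheafHomAdj (J := Opens.grothendieckTopology X) (O := X.sheaf) F)

theorem isTotallyAcyclic_sheafHom (F I : X.Modules) [DCoh.HasSheafHom F] [Injective I] :
    CohCx.IsTotallyAcyclic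
      (ModSite.toAb (J := Opens.grothendieckTopology X) (O := X.sheaf)
        ((DCoh.sheafHom F).obj I)) := by
  haveI := hasSheafHom_site F
  have hI' : @Injective (ModSite.Mod (J := Opens.grothendieckTopology X) X.sheaf) _ I :=
    ‹Injective I›
  have h := @Groth.Agent.Lib.Helper94.HomFlasque.isTotallyAcyclic_sheafHom _ _
    (Opens.grothendieckTopology X) X.sheaf F _ I hI'
  exact Groth.Agent.Lib.Helper6.SectAcyc.ta_of_iso ((sheafHomIso F).symm.app I) h

theorem surjective_sheafHom_map (F I : X.Modules) [DCoh.HasSheafHom F] (hI : Injective I)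
    (U V : X.Opens) (hUV : U ≤ V) :
    Function.Surjective (((DCoh.sheafHom F).obj I).val.map (homOfLE hUV).op).hom := by
  have h := surjective_map_of_isTotallyAcyclic (J := Opens.grothendieckTopology X) _
    (isTotallyAcyclic_sheafHom F I) (homOfLE hUV)
  exact h

end Scheme

end Groth.Agent.Lib.Helper94.SheafHomFlasque
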