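import Groth.Agent.Lib.Helper94.JShriekPre
import Mathlib.CategoryTheory.Sites.Point.Over
import Mathlib.CategoryTheory.Sites.Point.Skyscraper

/-!
# The stalk of the presheaf-level extension by zero (helper94)

Namespace `Groth.Agent.Lib.Helper94.StalkExtZero`.
For a point `Φ` of a small site `(C, J)`, an object `U` and a presheaf of modules `G` on `C/U`:
`Φ.presheafFiber (V ↦ ⨁_{φ : V ⟶ U} G(φ)) ≅ ∐_{x ∈ Φ.fiber U} (Φ.over x).presheafFiber G`.
-/

universe u
open CategoryTheory CategoryTheory.Limits Opposite DirectSum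

namespace Groth.Agent.Lib.Helper94.StalkExtZero

open Groth.Agent.Lib.Helper94.JShriek

variable {C : Type u} [SmallCategory C] {J : GrothendieckTopology C}
  {R : Cᵒᵖ ⥤ RingCat.{u}} {U : C}
  (G : PresheafOfModules.{u} (RU R U)) (Φ : GrothendieckTopology.Point.{u} J)

/-- the right hand side -/
noncomputable abbrev rhs : AddCommGrpCat.{u} :=
  ∐ fun x : Φ.fiber.obj U => (Φ.over x).presheafFiber.obj G.presheaf

/-- the germ of a section of `G` over `Y` at a point `y` of `Y.left` -/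
noncomputable def germ (Y : Over U) (y : Φ.fiber.obj Y.left) :
    G.presheaf.obj (op Y) ⟶ rhs G Φ :=
  (Φ.over (Φ.fiber.map Y.hom y)).toPresheafFiber Y ⟨y, rfl⟩ G.presheaf ≫
    Sigma.ι (fun x : Φ.fiber.obj U => (Φ.over x).presheafFiber.obj G.presheaf)
      (Φ.fiber.map Y.hom y)

lemma germ_eq (Y : Over U) (y : Φ.fiber.obj Y.left) (x : Φ.fiber.obj U)
    (hx : Φ.fiber.map Y.hom y = x) :
    germ G Φ Y y = (Φ.over x).toPresheafFiber Y ⟨y, hx⟩ G.presheaf ≫
      Sigma.ι (fun x : Φ.fiber.obj U => (Φ.over x).presheafFiber.obj G.presheaf) x := by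
  subst hx
  rfl

lemma germ_w {Y Y' : Over U} (f : Y ⟶ Y') (y : Φ.fiber.obj Y.left) :
    G.presheaf.map f.op ≫ germ G Φ Y y = germ G Φ Y' (Φ.fiber.map f.left y) := by
  have h : Φ.fiber.map Y'.hom (Φ.fiber.map f.left y) = Φ.fiber.map Y.hom y := by
    rw [← FunctorToTypes.map_comp_apply, Over.w]
  rw [germ_eq G Φ Y' _ _ h, germ_eq G Φ Y y _ rfl, ← Category.assoc]
  congr 1
  exact (Φ.over (Φ.fiber.map Y.hom y)).toPresheafFiber_w f ⟨y, rfl⟩ G.presheaf

open Classical in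
/-- the forward map on the sections over `V`, at a point `v` of `V` -/
noncomputable def fwdApp (V : C) (v : Φ.fiber.obj V) :
    (preAb G).obj (op V) ⟶ rhs G Φ :=
  AddCommGrpCat.ofHom (DirectSum.toAddMonoid (fun ψ : V ⟶ U =>
    (germ G Φ (Over.mk ψ) v).hom))

open Classical in
lemma fwdApp_of (V : C) (v : Φ.fiber.obj V) (ψ : V ⟶ U) (s : Comp G ψ) :
    (fwdApp G Φ V v).hom (DirectSum.of (fun ψ : V ⟶ U => Comp G ψ) ψ s) =
      (germ G Φ (Over.mk ψ) v).hom s := by
  unfold fwdApp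
  exact DirectSum.toAddMonoid_of _ _ _

open Classical in
lemma fwdApp_w {V V' : C} (f : V' ⟶ V) (v' : Φ.fiber.obj V') :
    (preAb G).map f.op ≫ fwdApp G Φ V' v' = fwdApp G Φ V (Φ.fiber.map f v') := by
  ext : 1
  refine DirectSum.addHom_ext fun ψ s => ?_
  change (fwdApp G Φ V' v').hom (mapAb G f.op (DirectSum.of (fun ψ : V ⟶ U => Comp G ψ) ψ s)) =
    (fwdApp G Φ V (Φ.fiber.map f v')).hom (DirectSum.of (fun ψ : V ⟶ U => Comp G ψ) ψ s)
  rw [mapAb_of, fwdApp_of, fwdApp_of, res_apply]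
  have h := germ_w G Φ (Over.homMk f rfl : Over.mk (f ≫ ψ) ⟶ Over.mk ψ) v'
  exact congrArg (fun t => t.hom s) h

/-- the forward map -/
noncomputable def fwd : Φ.presheafFiber.obj (preAb G) ⟶ rhs G Φ :=
  Φ.presheafFiberDesc (fun V v => fwdApp G Φ V v) (fun _ _ f v' => fwdApp_w G Φ f v')

lemma toPresheafFiber_fwd (V : C) (v : Φ.fiber.obj V) :
    Φ.toPresheafFiber V v (preAb G) ≫ fwd G Φ = fwdApp G Φ V v :=
  Φ.toPresheafFiber_presheafFiberDesc _ _ V v

open Classical in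
/-- the inclusion of the summand indexed by `Y.hom` -/
noncomputable def incl (Y : Over U) : G.presheaf.obj (op Y) ⟶ (preAb G).obj (op Y.left) :=
  AddCommGrpCat.ofHom (DirectSum.of (fun ψ : Y.left ⟶ U => Comp G ψ) Y.hom)

open Classical in
lemma incl_apply (Y : Over U) (s : G.presheaf.obj (op Y)) :
    (incl G Y).hom s = DirectSum.of (fun ψ : Y.left ⟶ U => Comp G ψ) Y.hom s := rfl

open Classical in
lemma incl_w {Y Y' : Over U} (f : Y ⟶ Y') :
    G.presheaf.map f.op ≫ incl G Y = incl G Y' ≫ (preAb G).map f.left.op := by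
  ext s
  change DirectSum.of (fun ψ : Y.left ⟶ U => Comp G ψ) Y.hom (G.map f.op s) =
    mapAb G f.left.op (DirectSum.of (fun ψ : Y'.left ⟶ U => Comp G ψ) Y'.hom s)
  rw [mapAb_of, res_apply]
  exact of_map_congr G (Over.w f).symm
    (show Over.mk Y.hom ⟶ Over.mk Y'.hom from f) _ rfl s

/-- the backward map on the summand indexed by `x` -/
noncomputable def bwdApp (x : Φ.fiber.obj U) :
    (Φ.over x).presheafFiber.obj G.presheaf ⟶ Φ.presheafFiber.obj (preAb G) :=
  (Φ.over x).presheafFiberDesc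
    (fun Y y => incl G Y ≫ Φ.toPresheafFiber Y.left y.1 (preAb G))
    (fun Y Y' f y => by
      rw [← Category.assoc, incl_w, Category.assoc]
      congr 1
      exact Φ.toPresheafFiber_w f.left y.1 (preAb G))

lemma toPresheafFiber_bwdApp (x : Φ.fiber.obj U) (Y : Over U) (y : (Φ.over x).fiber.obj Y) :
    (Φ.over x).toPresheafFiber Y y G.presheaf ≫ bwdApp G Φ x =
      incl G Y ≫ Φ.toPresheafFiber Y.left y.1 (preAb G) :=
  (Φ.over x).toPresheafFiber_presheafFiberDesc _ _ Y y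

/-- the backward map -/
noncomputable def bwd : rhs G Φ ⟶ Φ.presheafFiber.obj (preAb G) :=
  Sigma.desc (fun x => bwdApp G Φ x)

lemma germ_bwd (Y : Over U) (y : Φ.fiber.obj Y.left) :
    germ G Φ Y y ≫ bwd G Φ = incl G Y ≫ Φ.toPresheafFiber Y.left y (preAb G) := by
  unfold germ bwd
  rw [Category.assoc, Sigma.ι_desc]
  exact toPresheafFiber_bwdApp G Φ _ Y ⟨y, rfl⟩

open Classical in
lemma fwd_bwd : fwd G Φ ≫ bwd G Φ = 𝟙 _ := by
  refine Φ.presheafFiber_hom_ext (fun V v => ?_)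
  rw [← Category.assoc, toPresheafFiber_fwd, Category.comp_id]
  ext : 1
  refine DirectSum.addHom_ext fun ψ s => ?_
  change (bwd G Φ).hom ((fwdApp G Φ V v).hom (DirectSum.of (fun ψ : V ⟶ U => Comp G ψ) ψ s)) = _
  rw [fwdApp_of]
  exact congrArg (fun t => t.hom s) (germ_bwd G Φ (Over.mk ψ) v)

open Classical in
lemma incl_fwdApp (Y : Over U) (y : Φ.fiber.obj Y.left) :
    incl G Y ≫ fwdApp G Φ Y.left y = germ G Φ Y y := by
  ext s
  change (fwdApp G Φ Y.left y).hom (DirectSum.of (fun ψ : Y.left ⟶ U => Comp G ψ) Y.hom s) = _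
  rw [fwdApp_of]
  rfl

lemma bwd_fwd : bwd G Φ ≫ fwd G Φ = 𝟙 _ := by
  refine Sigma.hom_ext _ _ (fun x => ?_)
  unfold bwd
  rw [← Category.assoc, Sigma.ι_desc, Category.comp_id]
  refine (Φ.over x).presheafFiber_hom_ext (fun Y y => ?_)
  rw [← Category.assoc, toPresheafFiber_bwdApp, Category.assoc, toPresheafFiber_fwd,
    incl_fwdApp]
  exact germ_eq G Φ Y y.1 x y.2

/-- **the stalk of the presheaf-level extension by zero** -/
noncomputable def stalkIso : Φ.presheafFiber.obj (preAb G) ≅ rhs G Φ where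
  hom := fwd G Φ
  inv := bwd G Φ
  hom_inv_id := fwd_bwd G Φ
  inv_hom_id := bwd_fwd G Φ

end Groth.Agent.Lib.Helper94.StalkExtZero
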