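import Mathlib.Algebra.Category.ModuleCat.Stalk
import Mathlib.RingTheory.Flat.EquationalCriterion
import Mathlib.Topology.Sheaves.Stalks

/-!
# Flatness of stalks of presheaves of modules via the equational criterion (helper94)

Namespace `Groth.Agent.Lib.Helper94.StalkFlat`.
-/

universe v u

open CategoryTheory CategoryTheory.Limits TopologicalSpace Opposite TopCat

namespace Groth.Agent.Lib.Helper94.StalkFlat

section General

variable {C : Type u} [Category.{v} C] [HasColimits.{v} C] {X : TopCat.{v}}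
  {FC : C → C → Type*} {CC : C → Type v} [∀ X Y, FunLike (FC X Y) (CC X) (CC Y)]
  [ConcreteCategory.{v} C FC] [PreservesFilteredColimits (forget C)]

/-- finitely many elements of a stalk have representatives on a common open neighbourhood -/
lemma exists_common_rep (F : X.Presheaf C) {ι : Type*} [Finite ι] (x : X) (U : Opens X)
    (hx : x ∈ U) (z : ι → ToType (F.stalk x)) :
    ∃ (W : Opens X) (hxW : x ∈ W) (_ : W ⟶ U) (z' : ι → ToType (F.obj (op W))),
      ∀ k, F.germ W x hxW (z' k) = z k := by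
  choose Wk hk zk hzk using fun k => F.exists_germ_eq (z k)
  let W : Opens X := U ⊓ ⨅ k, Wk k
  have hW : ∀ k, W ≤ Wk k := fun k => inf_le_right.trans (iInf_le _ k)
  have hxW : x ∈ W := by
    refine ⟨hx, ?_⟩
    have : (x : X) ∈ ((⨅ k, Wk k : Opens X) : Set X) := by
      rw [Opens.coe_iInf]
      exact Set.mem_iInter.2 hk
    exact this
  refine ⟨W, hxW, homOfLE inf_le_left, fun k => F.map (homOfLE (hW k)).op (zk k), fun k => ?_⟩
  rw [Presheaf.germ_res_apply]
  exact hzk k

/-- finitely many equalities of germs hold on a common smaller open neighbourhood -/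
lemma exists_common_eq (F : X.Presheaf C) {ι : Type*} [Finite ι] (x : X) (W : Opens X)
    (hx : x ∈ W) (p q : ι → ToType (F.obj (op W)))
    (h : ∀ k, F.germ W x hx (p k) = F.germ W x hx (q k)) :
    ∃ (W' : Opens X) (_ : x ∈ W') (i : W' ⟶ W), ∀ k, F.map i.op (p k) = F.map i.op (q k) := by
  choose Wk hk iU iV hpq using fun k => F.germ_eq x hx hx (p k) (q k) (h k)
  let W' : Opens X := W ⊓ ⨅ k, Wk k
  have hW : ∀ k, W' ≤ Wk k := fun k => inf_le_right.trans (iInf_le _ k)
  have hxW : x ∈ W' := by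
    refine ⟨hx, ?_⟩
    have : (x : X) ∈ ((⨅ k, Wk k : Opens X) : Set X) := by
      rw [Opens.coe_iInf]
      exact Set.mem_iInter.2 hk
    exact this
  refine ⟨W', hxW, homOfLE inf_le_left, fun k => ?_⟩
  have e1 : (homOfLE inf_le_left : W' ⟶ W) = homOfLE (hW k) ≫ iU k := Subsingleton.elim _ _
  have e2 : (homOfLE inf_le_left : W' ⟶ W) = homOfLE (hW k) ≫ iV k := Subsingleton.elim _ _
  have h1 : F.map (homOfLE inf_le_left : W' ⟶ W).op (p k) =
      F.map (homOfLE (hW k)).op (F.map (iU k).op (p k)) := by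
    rw [e1, op_comp, F.map_comp, ConcreteCategory.comp_apply]
  have h2 : F.map (homOfLE inf_le_left : W' ⟶ W).op (q k) =
      F.map (homOfLE (hW k)).op (F.map (iV k).op (q k)) := by
    rw [e2, op_comp, F.map_comp, ConcreteCategory.comp_apply]
  rw [h1, h2, hpq k]

end General

section Modules

variable {X : TopCat.{u}} {R : X.Presheaf CommRingCat.{u}}
  (M : PresheafOfModules.{u} (R ⋙ forget₂ CommRingCat RingCat))

/-- restriction of sections of `M` -/
noncomputable def resM {U V : Opens X} (i : V ⟶ U) (m : M.obj (op U)) : M.obj (op V) := M.map i.op m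

/-- restriction of sections of `R` -/
noncomputable def resR {U V : Opens X} (i : V ⟶ U) (r : R.obj (op U)) : R.obj (op V) := R.map i.op r

/-- the germ of a section of `M` -/
noncomputable def gM (x : X) (U : Opens X) (hx : x ∈ U) (m : M.obj (op U)) :
    ↑(TopCat.Presheaf.stalk M.presheaf x) :=
  TopCat.Presheaf.germ M.presheaf U x hx m

variable {M}

lemma resM_smul {U V : Opens X} (i : V ⟶ U) (r : R.obj (op U)) (m : M.obj (op U)) :
    resM M i (r • m) = resR i r • resM M i m :=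
  PresheafOfModules.map_smul M i.op r m

lemma resM_add {U V : Opens X} (i : V ⟶ U) (m m' : M.obj (op U)) :
    resM M i (m + m') = resM M i m + resM M i m' :=
  map_add (M.map i.op).hom m m'

lemma resM_zero {U V : Opens X} (i : V ⟶ U) : resM M i (0 : M.obj (op U)) = 0 :=
  map_zero (M.map i.op).hom

lemma resM_sum {U V : Opens X} (i : V ⟶ U) {ι : Type*} (s : Finset ι) (m : ι → M.obj (op U)) :
    resM M i (∑ k ∈ s, m k) = ∑ k ∈ s, resM M i (m k) :=
  map_sum (M.map i.op).hom m s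

lemma resM_comp {U V W : Opens X} (i : V ⟶ U) (j : W ⟶ V) (m : M.obj (op U)) :
    resM M j (resM M i m) = resM M (j ≫ i) m := by
  unfold resM
  rw [op_comp, PresheafOfModules.map_comp_apply]

lemma resR_comp {U V W : Opens X} (i : V ⟶ U) (j : W ⟶ V) (r : R.obj (op U)) :
    resR j (resR i r) = resR (j ≫ i) r := by
  unfold resR
  rw [op_comp, R.map_comp, CommRingCat.comp_apply]

lemma resR_mul {U V : Opens X} (i : V ⟶ U) (r r' : R.obj (op U)) :
    resR i (r * r') = resR i r * resR i r' := map_mul (R.map i.op).hom r r'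

lemma resR_sum {U V : Opens X} (i : V ⟶ U) {ι : Type*} (s : Finset ι) (r : ι → R.obj (op U)) :
    resR i (∑ k ∈ s, r k) = ∑ k ∈ s, resR i (r k) := map_sum (R.map i.op).hom r s

lemma resR_zero {U V : Opens X} (i : V ⟶ U) : resR i (0 : R.obj (op U)) = 0 :=
  map_zero (R.map i.op).hom

lemma gM_resM (x : X) {U V : Opens X} (i : V ⟶ U) (hx : x ∈ V) (m : M.obj (op U)) :
    gM M x V hx (resM M i m) = gM M x U (i.le hx) m :=
  TopCat.Presheaf.germ_res_apply M.presheaf i x hx m

lemma germ_resR (x : X) {U V : Opens X} (i : V ⟶ U) (hx : x ∈ V) (r : R.obj (op U)) :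
    R.germ V x hx (resR i r) = R.germ U x (i.le hx) r :=
  TopCat.Presheaf.germ_res_apply R i x hx r

lemma gM_smul (x : X) (U : Opens X) (hx : x ∈ U) (r : R.obj (op U)) (m : M.obj (op U)) :
    gM M x U hx (r • m) = R.germ U x hx r • gM M x U hx m :=
  PresheafOfModules.germ_smul M x U hx r m

lemma gM_add (x : X) (U : Opens X) (hx : x ∈ U) (m m' : M.obj (op U)) :
    gM M x U hx (m + m') = gM M x U hx m + gM M x U hx m' :=
  map_add (TopCat.Presheaf.germ M.presheaf U x hx).hom m m'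

lemma gM_zero (x : X) (U : Opens X) (hx : x ∈ U) : gM M x U hx 0 = 0 :=
  map_zero (TopCat.Presheaf.germ M.presheaf U x hx).hom

lemma gM_sum (x : X) (U : Opens X) (hx : x ∈ U) {ι : Type*} (s : Finset ι)
    (m : ι → M.obj (op U)) : gM M x U hx (∑ k ∈ s, m k) = ∑ k ∈ s, gM M x U hx (m k) :=
  map_sum (TopCat.Presheaf.germ M.presheaf U x hx).hom m s

variable (M)

/-- **stalkwise flat ⇒ local trivialization of relations** -/
theorem exists_local_trivialization (x : X)
    [Module.Flat (R.stalk x) ↑(TopCat.Presheaf.stalk M.presheaf x)]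
    (U : Opens X) (hx : x ∈ U) (n : ℕ) (f : Fin n → R.obj (op U)) (s : Fin n → M.obj (op U))
    (h : ∑ j, f j • s j = 0) :
    ∃ (V : Opens X) (_ : x ∈ V) (i : V ⟶ U) (l : ℕ) (t : Fin l → M.obj (op V))
      (a : Fin n → Fin l → R.obj (op V)),
      (∀ j, resM M i (s j) = ∑ k, a j k • t k) ∧ (∀ k, ∑ j, a j k * resR i (f j) = 0) := by
  -- the relation on germs
  have hrel : ∑ j, R.germ U x hx (f j) • gM M x U hx (s j) = 0 := by
    have := congrArg (gM M x U hx) h
    rw [gM_sum, gM_zero] at this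
    simpa only [gM_smul] using this
  obtain ⟨l, a, y, h1', h2'⟩ := Module.Flat.isTrivialRelation_of_sum_smul_eq_zero hrel
  have h1 : ∀ i, gM M x U hx (s i) = ∑ j, a i j • y j := h1'
  have h2 : ∀ j, ∑ i, R.germ U x hx (f i) * a i j = 0 := h2'
  -- representatives
  obtain ⟨W₁, hx₁, i₁, y', hy'⟩ := exists_common_rep M.presheaf x U hx y
  obtain ⟨W₂, hx₂, i₂, a', ha'⟩ :=
    exists_common_rep R x W₁ hx₁ (fun p : Fin n × Fin l => a p.1 p.2)
  let y'' : Fin l → M.obj (op W₂) := fun k => resM M i₂ (y' k)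
  have hy'' : ∀ k, gM M x W₂ hx₂ (y'' k) = y k := fun k => (gM_resM x i₂ hx₂ (y' k)).trans (hy' k)
  let i₂U : W₂ ⟶ U := i₂ ≫ i₁
  -- equalities of germs
  have E1 : ∀ j, gM M x W₂ hx₂ (resM M i₂U (s j)) =
      gM M x W₂ hx₂ (∑ k, a' (j, k) • y'' k) := fun j => by
    rw [gM_resM, gM_sum, h1 j]
    refine Finset.sum_congr rfl (fun k _ => ?_)
    rw [gM_smul, hy'' k, ha' (j, k)]
  have E2 : ∀ k, R.germ W₂ x hx₂ (∑ j, a' (j, k) * resR i₂U (f j)) =
      R.germ W₂ x hx₂ 0 := fun k => by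
    rw [map_sum, map_zero, ← h2 k]
    refine Finset.sum_congr rfl (fun j _ => ?_)
    rw [map_mul, ha' (j, k), germ_resR, mul_comm]
  obtain ⟨W₃, hx₃, i₃, h3⟩ := exists_common_eq M.presheaf x W₂ hx₂
    (fun j => resM M i₂U (s j)) (fun j => ∑ k, a' (j, k) • y'' k) E1
  obtain ⟨W₄, hx₄, i₄, h4⟩ := exists_common_eq R x W₂ hx₂
    (fun k => ∑ j, a' (j, k) * resR i₂U (f j)) (fun _ => 0) E2
  let V : Opens X := W₃ ⊓ W₄
  have hxV : x ∈ V := ⟨hx₃, hx₄⟩
  let j₃ : V ⟶ W₃ := homOfLE inf_le_left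
  let j₄ : V ⟶ W₄ := homOfLE inf_le_right
  let iV : V ⟶ W₂ := j₃ ≫ i₃
  have hiV : iV = j₄ ≫ i₄ := Subsingleton.elim _ _
  refine ⟨V, hxV, iV ≫ i₂U, l, fun k => resM M iV (y'' k), fun j k => resR iV (a' (j, k)),
    fun j => ?_, fun k => ?_⟩
  · have h3' : resM M i₃ (resM M i₂U (s j)) = resM M i₃ (∑ k, a' (j, k) • y'' k) := h3 j
    have := congrArg (resM M j₃) h3'
    rw [resM_comp, resM_comp, resM_comp] at this
    rw [this, resM_sum]
    refine Finset.sum_congr rfl (fun k _ => ?_)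
    rw [resM_smul]
  · have h4' : resR i₄ (∑ j, a' (j, k) * resR i₂U (f j)) = resR i₄ 0 := h4 k
    have := congrArg (resR j₄) h4'
    rw [resR_comp, resR_comp, ← hiV, resR_zero, resR_sum] at this
    rw [← this]
    refine Finset.sum_congr rfl (fun j _ => ?_)
    rw [resR_mul, resR_comp]

/-- **local trivialization of relations ⇒ flat stalk** -/
theorem flat_stalk_of_local_trivialization (x : X)
    (H : ∀ (U : Opens X) (_ : x ∈ U) (n : ℕ) (f : Fin n → R.obj (op U)) (s : Fin n → M.obj (op U)),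
      ∑ j, f j • s j = 0 →
      ∃ (V : Opens X) (_ : x ∈ V) (i : V ⟶ U) (l : ℕ) (t : Fin l → M.obj (op V))
        (a : Fin n → Fin l → R.obj (op V)),
        (∀ j, resM M i (s j) = ∑ k, a j k • t k) ∧ (∀ k, ∑ j, a j k * resR i (f j) = 0)) :
    Module.Flat (R.stalk x) ↑(TopCat.Presheaf.stalk M.presheaf x) := by
  refine Module.Flat.of_forall_isTrivialRelation (fun {n fx sx} hrel => ?_)
  obtain ⟨W₁, hx₁, -, s', hs'⟩ := exists_common_rep M.presheaf x ⊤ trivial sx
  obtain ⟨W₂, hx₂, i₂, f', hf'⟩ := exists_common_rep R x W₁ hx₁ fx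
  let s'' : Fin n → M.obj (op W₂) := fun j => resM M i₂ (s' j)
  have hs'' : ∀ j, gM M x W₂ hx₂ (s'' j) = sx j := fun j =>
    (gM_resM x i₂ hx₂ (s' j)).trans (hs' j)
  have E : gM M x W₂ hx₂ (∑ j, f' j • s'' j) = gM M x W₂ hx₂ 0 := by
    rw [gM_sum, gM_zero, ← hrel]
    refine Finset.sum_congr rfl (fun j _ => ?_)
    rw [gM_smul, hf' j, hs'' j]
  obtain ⟨W₃, hx₃, i₃, h3⟩ := exists_common_eq M.presheaf x W₂ hx₂
    (fun _ : Unit => ∑ j, f' j • s'' j) (fun _ => 0) (fun _ => E)
  have hrel' : ∑ j, resR i₃ (f' j) • resM M i₃ (s'' j) = 0 := by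
    have h3' : resM M i₃ (∑ j, f' j • s'' j) = resM M i₃ 0 := h3 ()
    rw [resM_sum, resM_zero] at h3'
    rw [← h3']
    refine Finset.sum_congr rfl (fun j _ => ?_)
    rw [resM_smul]
  obtain ⟨V, hxV, i, l, t, a, e1, e2⟩ :=
    H W₃ hx₃ n (fun j => resR i₃ (f' j)) (fun j => resM M i₃ (s'' j)) hrel'
  refine ⟨l, fun j k => R.germ V x hxV (a j k), fun k => gM M x V hxV (t k), fun j => ?_,
    fun k => ?_⟩
  · have := congrArg (gM M x V hxV) (e1 j)
    rw [gM_resM, gM_resM, hs'' j, gM_sum] at this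
    rw [this]
    refine Finset.sum_congr rfl (fun k _ => ?_)
    rw [gM_smul]
  · have := congrArg (R.germ V x hxV) (e2 k)
    rw [map_sum, map_zero] at this
    rw [← this]
    refine Finset.sum_congr rfl (fun j _ => ?_)
    rw [map_mul, germ_resR, germ_resR, hf' j, mul_comm]

end Modules

end Groth.Agent.Lib.Helper94.StalkFlat
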