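import Groth.Agent.Lib.Helper94.FlatCrit
import Groth.Agent.S9095
import Groth.Prelude.Def_ModSite2
import Mathlib.RingTheory.Flat.EquationalCriterion
import Mathlib.CategoryTheory.Sites.Point.Conservative

/-!
# Flatness of stalks at points of a ringed site via the equational criterion (helper94)

Namespace `Groth.Agent.Lib.Helper94.StalkFlatPoint`.
-/

universe u

open CategoryTheory CategoryTheory.Limits Opposite

namespace Groth.Agent.Lib.Helper94.StalkFlatPoint

open ModSite Groth.Agent.Lib.Helper94.FlatCrit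

section General

variable {C : Type u} [SmallCategory C] {J : GrothendieckTopology C}
  (Φ : GrothendieckTopology.Point.{u} J)
  {A : Type (u + 1)} [Category.{u} A] [HasColimitsOfSize.{u, u} A]
  {FC : A → A → Type*} {CC : A → Type u} [∀ X Y : A, FunLike (FC X Y) (CC X) (CC Y)]
  [ConcreteCategory.{u} A FC] [PreservesFilteredColimitsOfSize.{u, u} (forget A)]

/-- finitely many elements of a fibre have representatives on a common neighbourhood -/
lemma exists_common_rep (P : Cᵒᵖ ⥤ A) {ι : Type*} [Finite ι] (X : C) (x : Φ.fiber.obj X)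
    (z : ι → ToType (Φ.presheafFiber.obj P)) :
    ∃ (Y : C) (y : Φ.fiber.obj Y) (g : Y ⟶ X) (_ : Φ.fiber.map g y = x)
      (z' : ι → ToType (P.obj (op Y))), ∀ k, Φ.toPresheafFiber Y y P (z' k) = z k := by
  classical
  haveI := Fintype.ofFinite ι
  choose Xk xk zk hzk using fun k => Φ.toPresheafFiber_jointly_surjective (z k)
  let E : ι → Φ.fiber.Elements := fun k => ⟨Xk k, xk k⟩
  let E₀ : Φ.fiber.Elements := ⟨X, x⟩
  obtain ⟨S, hS⟩ := IsCofiltered.inf_objs_exists (insert E₀ (Finset.univ.image E))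
  have g₀ : S ⟶ E₀ := (hS (Finset.mem_insert_self _ _)).some
  have gk : ∀ k, S ⟶ E k := fun k =>
    (hS (Finset.mem_insert_of_mem (Finset.mem_image_of_mem _ (Finset.mem_univ k)))).some
  refine ⟨S.1, S.2, g₀.1, g₀.2, fun k => P.map (gk k).1.op (zk k), fun k => ?_⟩
  rw [← hzk k]
  have h1 := Φ.toPresheafFiber_w_apply (gk k).1 S.2 P (zk k)
  have h2 : Φ.fiber.map (gk k).1 S.2 = xk k := (gk k).2
  rw [h2] at h1
  exact h1

/-- finitely many equalities of germs hold on a common smaller neighbourhood -/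
lemma exists_common_eq (P : Cᵒᵖ ⥤ A) {ι : Type*} [Finite ι] (X : C) (x : Φ.fiber.obj X)
    (s t : ι → ToType (P.obj (op X)))
    (h : ∀ k, Φ.toPresheafFiber X x P (s k) = Φ.toPresheafFiber X x P (t k)) :
    ∃ (Y : C) (y : Φ.fiber.obj Y) (g : Y ⟶ X) (_ : Φ.fiber.map g y = x),
      ∀ k, P.map g.op (s k) = P.map g.op (t k) := by
  classical
  haveI := Fintype.ofFinite ι
  suffices H : ∀ T : Finset ι, ∃ (Y : C) (y : Φ.fiber.obj Y) (g : Y ⟶ X)
      (_ : Φ.fiber.map g y = x), ∀ k ∈ T, P.map g.op (s k) = P.map g.op (t k) by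
    obtain ⟨Y, y, g, hg, hk⟩ := H Finset.univ
    exact ⟨Y, y, g, hg, fun k => hk k (Finset.mem_univ k)⟩
  intro T
  induction T using Finset.induction_on with
  | empty => exact ⟨X, x, 𝟙 X, by simp, fun k hk => absurd hk (Finset.notMem_empty k)⟩
  | insert k₀ T hk₀ ih =>
    obtain ⟨Y, y, g, hg, hk⟩ := ih
    have e : Φ.toPresheafFiber Y y P (P.map g.op (s k₀)) =
        Φ.toPresheafFiber Y y P (P.map g.op (t k₀)) := by
      have h1 := Φ.toPresheafFiber_w_apply g y P (s k₀)
      have h2 := Φ.toPresheafFiber_w_apply g y P (t k₀)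
      rw [hg] at h1 h2
      exact h1.trans ((h k₀).trans h2.symm)
    obtain ⟨Y', g', y', hg', e'⟩ := (Φ.toPresheafFiber_eq_iff' Y y _ _).1 e
    refine ⟨Y', y', g' ≫ g, by rw [Functor.map_comp]; exact (congrArg _ hg').trans hg, ?_⟩
    intro k hk'
    have hcomp : ∀ w : ToType (P.obj (op X)),
        P.map (g' ≫ g).op w = P.map g'.op (P.map g.op w) := fun w => by
      rw [op_comp, P.map_comp, ConcreteCategory.comp_apply]
    rw [hcomp, hcomp]
    rcases Finset.mem_insert.1 hk' with rfl | hk''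
    · exact e'
    · rw [hk k hk'']

end General

section Modules

variable {C : Type u} [SmallCategory C] {J : GrothendieckTopology C} {O : Sheaf J CommRingCat.{u}}
  (p : GrothendieckTopology.Point.{u} J) (F : ModSite.Mod O)

lemma germ_add (X : C) (x : p.fiber.obj X) (s s' : sect F X) :
    germ p F X x (s + s') = germ p F X x s + germ p F X x s' :=
  map_add (p.toPresheafFiber X x (toAb F).obj).hom s s'

lemma germ_zero (X : C) (x : p.fiber.obj X) : germ p F X x 0 = 0 :=
  map_zero (p.toPresheafFiber X x (toAb F).obj).hom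

lemma germ_sum (X : C) (x : p.fiber.obj X) {ι : Type*} (T : Finset ι) (s : ι → sect F X) :
    germ p F X x (∑ k ∈ T, s k) = ∑ k ∈ T, germ p F X x (s k) :=
  map_sum (p.toPresheafFiber X x (toAb F).obj).hom s T

lemma germ_res {X Y : C} (g : Y ⟶ X) (y : p.fiber.obj Y) (s : sect F X) :
    germ p F Y y (res F g s) = germ p F X (p.fiber.map g y) s :=
  p.toPresheafFiber_w_apply g y (toAb F).obj s

lemma germRing_rres {X Y : C} (g : Y ⟶ X) (y : p.fiber.obj Y) (r : O.obj.obj (op X)) :
    germRing p Y y (rres g r) = germRing p X (p.fiber.map g y) r :=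
  p.toPresheafFiber_w_apply g y O.obj r

lemma germRing_sum (X : C) (x : p.fiber.obj X) {ι : Type*} (T : Finset ι)
    (r : ι → O.obj.obj (op X)) :
    germRing p X x (∑ k ∈ T, r k) = ∑ k ∈ T, germRing p X x (r k) :=
  map_sum (p.toPresheafFiber X x O.obj).hom r T

lemma germRing_zero (X : C) (x : p.fiber.obj X) : germRing (O := O) p X x 0 = 0 :=
  map_zero (p.toPresheafFiber X x O.obj).hom

lemma germRing_mul (X : C) (x : p.fiber.obj X) (r r' : O.obj.obj (op X)) :
    germRing p X x (r * r') = germRing p X x r * germRing p X x r' :=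
  map_mul (p.toPresheafFiber X x O.obj).hom r r'

lemma germ_smul' (X : C) (x : p.fiber.obj X) (r : O.obj.obj (op X)) (s : sect F X) :
    germ p F X x (r • s) = germRing p X x r • germ p F X x s :=
  germ_smul p F X x r s

/-- common representatives of finitely many elements of the stalk of `F` -/
lemma exists_common_rep_mod {ι : Type*} [Finite ι] (X : C) (x : p.fiber.obj X)
    (z : ι → stalkAb p F) :
    ∃ (Y : C) (y : p.fiber.obj Y) (g : Y ⟶ X) (_ : p.fiber.map g y = x)
      (z' : ι → sect F Y), ∀ k, germ p F Y y (z' k) = z k :=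
  exists_common_rep p (toAb F).obj X x z

/-- common representatives of finitely many elements of the stalk of `O` -/
lemma exists_common_rep_ring {ι : Type*} [Finite ι] (X : C) (x : p.fiber.obj X)
    (z : ι → stalkRing p O) :
    ∃ (Y : C) (y : p.fiber.obj Y) (g : Y ⟶ X) (_ : p.fiber.map g y = x)
      (z' : ι → O.obj.obj (op Y)), ∀ k, germRing p Y y (z' k) = z k :=
  exists_common_rep p O.obj X x z

lemma exists_common_eq_mod {ι : Type*} [Finite ι] (X : C) (x : p.fiber.obj X)
    (s t : ι → sect F X) (h : ∀ k, germ p F X x (s k) = germ p F X x (t k)) :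
    ∃ (Y : C) (y : p.fiber.obj Y) (g : Y ⟶ X) (_ : p.fiber.map g y = x),
      ∀ k, res F g (s k) = res F g (t k) :=
  exists_common_eq p (toAb F).obj X x s t h

lemma exists_common_eq_ring {ι : Type*} [Finite ι] (X : C) (x : p.fiber.obj X)
    (s t : ι → O.obj.obj (op X)) (h : ∀ k, germRing p X x (s k) = germRing p X x (t k)) :
    ∃ (Y : C) (y : p.fiber.obj Y) (g : Y ⟶ X) (_ : p.fiber.map g y = x),
      ∀ k, rres g (s k) = rres g (t k) :=
  exists_common_eq p O.obj X x s t h

/-- **flat stalk ⇒ local trivialization of relations near the point** -/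
theorem exists_local_trivialization [Module.Flat (stalkRing p O) (stalkMod p F)]
    (X : C) (x : p.fiber.obj X) (n : ℕ) (f : Fin n → O.obj.obj (op X)) (s : Fin n → sect F X)
    (h : ∑ j, f j • s j = 0) :
    ∃ (Y : C) (y : p.fiber.obj Y) (g : Y ⟶ X) (_ : p.fiber.map g y = x) (l : ℕ)
      (t : Fin l → sect F Y) (a : Fin n → Fin l → O.obj.obj (op Y)),
      (∀ j, res F g (s j) = ∑ k, a j k • t k) ∧ (∀ k, ∑ j, a j k * rres g (f j) = 0) := by
  have hrel : ∑ j, germRing p X x (f j) • (germ p F X x (s j) : stalkMod p F) = 0 := by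
    have := congrArg (germ p F X x) h
    rw [germ_sum, germ_zero] at this
    simpa only [germ_smul'] using this
  obtain ⟨l, a, y, h1', h2'⟩ := Module.Flat.isTrivialRelation_of_sum_smul_eq_zero hrel
  have h1 : ∀ i, germ p F X x (s i) = ∑ j, a i j • y j := h1'
  have h2 : ∀ j, ∑ i, germRing p X x (f i) * a i j = 0 := h2'
  obtain ⟨Y₁, y₁, g₁, hg₁, y', hy'⟩ := exists_common_rep_mod p F X x y
  obtain ⟨Y₂, y₂, g₂, hg₂, a', ha'⟩ :=
    exists_common_rep_ring (O := O) p Y₁ y₁ (fun q : Fin n × Fin l => a q.1 q.2)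
  let y'' : Fin l → sect F Y₂ := fun k => res F g₂ (y' k)
  have hy'' : ∀ k, germ p F Y₂ y₂ (y'' k) = y k := fun k => by
    have := germ_res p F g₂ y₂ (y' k)
    rw [hg₂] at this
    exact this.trans (hy' k)
  let g₂X : Y₂ ⟶ X := g₂ ≫ g₁
  have hg₂X : p.fiber.map g₂X y₂ = x := by
    change p.fiber.map (g₂ ≫ g₁) y₂ = x
    rw [Functor.map_comp]
    exact (congrArg _ hg₂).trans hg₁
  have E1 : ∀ j, germ p F Y₂ y₂ (res F g₂X (s j)) =
      germ p F Y₂ y₂ (∑ k, a' (j, k) • y'' k) := fun j => by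
    rw [germ_res, hg₂X, germ_sum, h1 j]
    refine Finset.sum_congr rfl (fun k _ => ?_)
    rw [germ_smul', hy'' k, ha' (j, k)]
  obtain ⟨Y₃, y₃, g₃, hg₃, h3⟩ := exists_common_eq_mod p F Y₂ y₂
    (fun j => res F g₂X (s j)) (fun j => ∑ k, a' (j, k) • y'' k) E1
  have hg₃X : p.fiber.map (g₃ ≫ g₂X) y₃ = x := by
    rw [Functor.map_comp]
    exact (congrArg _ hg₃).trans hg₂X
  have E2 : ∀ k, germRing p Y₃ y₃ (∑ j, rres g₃ (a' (j, k)) * rres (g₃ ≫ g₂X) (f j)) =
      germRing p Y₃ y₃ 0 := fun k => by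
    rw [germRing_sum, germRing_zero, ← h2 k]
    refine Finset.sum_congr rfl (fun j _ => ?_)
    rw [germRing_mul, germRing_rres, germRing_rres, hg₃, hg₃X, ha' (j, k), mul_comm]
  obtain ⟨Y₄, y₄, g₄, hg₄, h4⟩ := exists_common_eq_ring (O := O) p Y₃ y₃
    (fun k => ∑ j, rres g₃ (a' (j, k)) * rres (g₃ ≫ g₂X) (f j)) (fun _ => 0) E2
  refine ⟨Y₄, y₄, g₄ ≫ g₃ ≫ g₂X, ?_, l, fun k => res F (g₄ ≫ g₃) (y'' k),
    fun j k => rres (g₄ ≫ g₃) (a' (j, k)), fun j => ?_, fun k => ?_⟩
  · rw [Functor.map_comp]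
    exact (congrArg _ hg₄).trans hg₃X
  · have h3' : res F g₃ (res F g₂X (s j)) = res F g₃ (∑ k, a' (j, k) • y'' k) := h3 j
    have := congrArg (res F g₄) h3'
    rw [← res_comp, ← res_comp, ← res_comp, Category.assoc] at this
    rw [this, res_sum]
    refine Finset.sum_congr rfl (fun k _ => ?_)
    rw [res_smul]
  · have h4' : rres g₄ (∑ j, rres g₃ (a' (j, k)) * rres (g₃ ≫ g₂X) (f j)) = rres g₄ 0 := h4 k
    rw [rres_zero, rres_sum] at h4'
    rw [← h4']
    refine Finset.sum_congr rfl (fun j _ => ?_)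
    rw [rres_mul, ← rres_comp, ← rres_comp]

/-- **local trivialization of relations near the point ⇒ flat stalk** -/
theorem flat_stalk_of_local_trivialization
    (H : ∀ (X : C) (x : p.fiber.obj X) (n : ℕ) (f : Fin n → O.obj.obj (op X))
      (s : Fin n → sect F X), ∑ j, f j • s j = 0 →
      ∃ (Y : C) (y : p.fiber.obj Y) (g : Y ⟶ X) (_ : p.fiber.map g y = x) (l : ℕ)
        (t : Fin l → sect F Y) (a : Fin n → Fin l → O.obj.obj (op Y)),
        (∀ j, res F g (s j) = ∑ k, a j k • t k) ∧ (∀ k, ∑ j, a j k * rres g (f j) = 0)) :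
    Module.Flat (stalkRing p O) (stalkMod p F) := by
  refine Module.Flat.of_forall_isTrivialRelation (fun {n fx sx} hrel => ?_)
  obtain ⟨⟨X₀, x₀⟩⟩ := (IsCofiltered.nonempty : Nonempty p.fiber.Elements)
  obtain ⟨Y₁, y₁, -, -, s', hs'⟩ := exists_common_rep_mod p F X₀ x₀ sx
  obtain ⟨Y₂, y₂, g₂, hg₂, f', hf'⟩ := exists_common_rep_ring (O := O) p Y₁ y₁ fx
  let s'' : Fin n → sect F Y₂ := fun j => res F g₂ (s' j)
  have hs'' : ∀ j, germ p F Y₂ y₂ (s'' j) = sx j := fun j => by
    have := germ_res p F g₂ y₂ (s' j)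
    rw [hg₂] at this
    exact this.trans (hs' j)
  have E : germ p F Y₂ y₂ (∑ j, f' j • s'' j) = germ p F Y₂ y₂ 0 := by
    rw [germ_sum, germ_zero, ← hrel]
    refine Finset.sum_congr rfl (fun j _ => ?_)
    rw [germ_smul', hf' j, hs'' j]
  obtain ⟨Y₃, y₃, g₃, hg₃, h3⟩ := exists_common_eq_mod p F Y₂ y₂
    (fun _ : Unit => ∑ j, f' j • s'' j) (fun _ => 0) (fun _ => E)
  have hrel' : ∑ j, rres g₃ (f' j) • res F g₃ (s'' j) = 0 := by
    have h3' : res F g₃ (∑ j, f' j • s'' j) = res F g₃ 0 := h3 ()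
    rw [res_sum, res_zero] at h3'
    rw [← h3']
    refine Finset.sum_congr rfl (fun j _ => ?_)
    rw [res_smul]
  obtain ⟨V, v, g, hg, l, t, a, e1, e2⟩ :=
    H Y₃ y₃ n (fun j => rres g₃ (f' j)) (fun j => res F g₃ (s'' j)) hrel'
  refine ⟨l, fun j k => germRing p V v (a j k), fun k => germ p F V v (t k), fun j => ?_,
    fun k => ?_⟩
  · have := congrArg (germ p F V v) (e1 j)
    rw [germ_res, hg, germ_res, hg₃, hs'' j, germ_sum] at this
    rw [this]
    refine Finset.sum_congr rfl (fun k _ => ?_)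
    rw [germ_smul']
  · have := congrArg (germRing p V v) (e2 k)
    rw [germRing_sum, germRing_zero] at this
    rw [← this]
    refine Finset.sum_congr rfl (fun j _ => ?_)
    rw [germRing_mul, germRing_rres, hg, germRing_rres, hg₃, hf' j, mul_comm]

variable {p F} in
/-- flat modules have flat stalks at every point -/
theorem flat_stalk_of_isFlat (hF : ModSite.IsFlat F) :
    Module.Flat (stalkRing p O) (stalkMod p F) := by
  have hc := (Groth.Agent.S9095.result O F).1 hF
  refine flat_stalk_of_local_trivialization p F (fun X x n f s h => ?_)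
  obtain ⟨S, hS, hS'⟩ := hc X n f s h
  obtain ⟨Y, g, hg, y, hy⟩ := p.jointly_surjective S hS x
  obtain ⟨l, t, a, h1, h2⟩ := hS' g hg
  exact ⟨Y, y, g, hy, l, t, a, h1, h2⟩

/-- the sieve of arrows over which a relation trivializes -/
def trivSieve {U : C} (n : ℕ) (f : Fin n → O.obj.obj (op U)) (s : Fin n → sect F U) : Sieve U where
  arrows := fun V g => ∃ (l : ℕ) (t : Fin l → sect F V) (a : Fin n → Fin l → O.obj.obj (op V)),
    (∀ j, res F g (s j) = ∑ k, a j k • t k) ∧ (∀ k, ∑ j, a j k * rres g (f j) = 0)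
  downward_closed := by
    rintro V W g ⟨l, t, a, h1, h2⟩ h
    refine ⟨l, fun k => res F h (t k), fun j k => rres h (a j k), fun j => ?_, fun k => ?_⟩
    · rw [res_comp, h1 j, res_sum]
      refine Finset.sum_congr rfl (fun k _ => ?_)
      rw [res_smul]
    · have := congrArg (rres h) (h2 k)
      rw [rres_sum, rres_zero] at this
      rw [← this]
      refine Finset.sum_congr rfl (fun j _ => ?_)
      rw [rres_mul, rres_comp]

variable {F} in
/-- a module whose stalks at a conservative family of points are flat is flat -/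
theorem isFlat_of_flat_stalks (P : ObjectProperty (GrothendieckTopology.Point.{u} J))
    (hP : P.IsConservativeFamilyOfPoints)
    (h : ∀ p : GrothendieckTopology.Point.{u} J, P p →
      Module.Flat (stalkRing p O) (stalkMod p F)) : ModSite.IsFlat F := by
  refine (Groth.Agent.S9095.result O F).2 (fun U n f s hrel => ?_)
  refine ⟨trivSieve F n f s, ?_, fun V g hg => hg⟩
  let ι : Type u := Σ V : C, {g : V ⟶ U // (trivSieve F n f s) g}
  have hι : Sieve.ofArrows (fun i : ι => i.1) (fun i : ι => i.2.1) ∈ J U := by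
    rw [hP.jointly_reflect_ofArrows_mem]
    intro Φ x
    haveI := h Φ.obj Φ.property
    obtain ⟨Y, y, g, hg, l, t, a, h1, h2⟩ :=
      exists_local_trivialization Φ.obj F U x n f s hrel
    exact ⟨⟨Y, g, l, t, a, h1, h2⟩, y, hg⟩
  refine J.superset_covering ?_ hι
  rw [Sieve.generate_le_iff, Presieve.ofArrows_le_iff]
  exact fun i => i.2.2

end Modules

end Groth.Agent.Lib.Helper94.StalkFlatPoint
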