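import Groth.Agent.Lib.Helper94.KFlatTrunc

/-!
# `Tot(T(M[0], L))` is `T(M, -)` applied termwise to `L` (helper94)

Namespace `Groth.Agent.Lib.Helper94.TensorSingleLeft`.
-/

open CategoryTheory CategoryTheory.Limits HomologicalComplex CochainComplex

namespace Groth.Agent.Lib.Helper94.TensorSingleLeft

universe v₁ v₂ v₃ u₁ u₂ u₃

variable {C₁ : Type u₁} [Category.{v₁} C₁] [Abelian C₁] {C₂ : Type u₂} [Category.{v₂} C₂] [Abelian C₂]
  {D : Type u₃} [Category.{v₃} D] [Abelian D]
  (T : C₁ ⥤ C₂ ⥤ D) [T.Additive] [∀ X, (T.obj X).Additive]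
  [∀ (K₁ : CochainComplex C₁ ℤ) (K₂ : CochainComplex C₂ ℤ),
    HasMapBifunctor K₁ K₂ T (ComplexShape.up ℤ)]

section Concentrated

variable (F : CochainComplex C₁ ℤ) (L : CochainComplex C₂ ℤ)

/-- the projection of `Tot(T(F,L))^n` on its only non zero summand -/
noncomputable def invι (n : ℤ) :
    (mapBifunctor F L T (ComplexShape.up ℤ)).X n ⟶ (T.obj (F.X 0)).obj (L.X n) :=
  mapBifunctorDesc (K₁ := F) (K₂ := L) (F := T) (c := ComplexShape.up ℤ) (j := n)
    (fun p' q' h' =>
      if hp : p' = 0 then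
        eqToHom (by
          subst hp
          have hq : q' = n := by
            change 0 + q' = n at h'
            omega
          subst hq
          rfl)
      else 0)

variable (hF : ∀ p : ℤ, p ≠ 0 → IsZero (F.X p))

include hF in
lemma isIso_ι (n : ℤ) :
    IsIso (ιMapBifunctor F L T (ComplexShape.up ℤ) 0 n n (zero_add n)) := by
  refine ⟨invι T F L n, ?_, ?_⟩
  · unfold invι
    rw [ι_mapBifunctorDesc, dif_pos rfl, eqToHom_refl]
  · refine mapBifunctor.hom_ext (K₁ := F) (K₂ := L) (F := T) (c := ComplexShape.up ℤ)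
      (fun p' q' h' => ?_)
    unfold invι
    rw [ι_mapBifunctorDesc_assoc]
    by_cases hp : p' = 0
    · subst hp
      have hq : q' = n := by
        change 0 + q' = n at h'
        omega
      subst hq
      rw [dif_pos rfl, eqToHom_refl, Category.id_comp, Category.comp_id]
    · rw [dif_neg hp, zero_comp]
      exact ((T.map_isZero (hF p' hp)).obj (L.X q')).eq_of_src _ _

include hF in
lemma ι_d (n n' : ℤ) (hn : n + 1 = n') :
    ιMapBifunctor F L T (ComplexShape.up ℤ) 0 n n (zero_add n) ≫
        (mapBifunctor F L T (ComplexShape.up ℤ)).d n n' =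
      (T.obj (F.X 0)).map (L.d n n') ≫
        ιMapBifunctor F L T (ComplexShape.up ℤ) 0 n' n' (zero_add n') := by
  have hd : F.d 0 (0 + 1) = 0 := (hF (0 + 1) (by omega)).eq_of_tgt _ _
  rw [mapBifunctor.d_eq, Preadditive.comp_add, mapBifunctor.ι_D₁, mapBifunctor.ι_D₂,
    mapBifunctor.d₁_eq F L T (ComplexShape.up ℤ)
      (show (ComplexShape.up ℤ).Rel 0 (0 + 1) from rfl) n n'
      (by change 0 + 1 + n = n'; omega),
    mapBifunctor.d₂_eq F L T (ComplexShape.up ℤ) 0
      (show (ComplexShape.up ℤ).Rel n n' from hn) n'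
      (by change 0 + n' = n'; omega), hd, Functor.map_zero, NatTrans.app_zero, zero_comp,
      smul_zero, zero_add]
  simp

end Concentrated

section Functor

variable (L : CochainComplex C₂ ℤ)

/-- `M ↦ T(M, L)`, termwise -/
noncomputable def termwise : C₁ ⥤ CochainComplex C₂ ℤ ⥤ CochainComplex D ℤ where
  obj M := (T.obj M).mapHomologicalComplex (ComplexShape.up ℤ)
  map f := NatTrans.mapHomologicalComplex (T.map f) (ComplexShape.up ℤ)
  map_id M := by
    rw [T.map_id]
    exact NatTrans.mapHomologicalComplex_id _ _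
  map_comp f g := by
    rw [T.map_comp]
    exact NatTrans.mapHomologicalComplex_comp _ _ _

/-- `M ↦ T(M, L)` for a fixed complex `L` -/
noncomputable abbrev G : C₁ ⥤ CochainComplex D ℤ := (termwise T).flip.obj L

instance : (G T L).Additive where
  map_add {M M' f g} := by
    ext n
    change (T.map (f + g)).app (L.X n) = (T.map f).app (L.X n) + (T.map g).app (L.X n)
    rw [T.map_add]
    rfl

lemma isZero_single_X (M : C₁) (p : ℤ) (hp : p ≠ 0) :
    IsZero (((HomologicalComplex.single C₁ (ComplexShape.up ℤ) 0).obj M).X p) :=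
  isZero_single_obj_X (ComplexShape.up ℤ) 0 M p hp

/-- the comparison isomorphism in degree `n` -/
noncomputable def θX (M : C₁) (n : ℤ) :
    ((G T L).obj M).X n ≅
      (mapBifunctor ((HomologicalComplex.single C₁ (ComplexShape.up ℤ) 0).obj M) L T
        (ComplexShape.up ℤ)).X n :=
  haveI := isIso_ι T ((HomologicalComplex.single C₁ (ComplexShape.up ℤ) 0).obj M) L
    (isZero_single_X M) n
  (T.mapIso (singleObjXSelf (ComplexShape.up ℤ) 0 M).symm).app (L.X n) ≪≫
    asIso (ιMapBifunctor ((HomologicalComplex.single C₁ (ComplexShape.up ℤ) 0).obj M) L T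
      (ComplexShape.up ℤ) 0 n n (zero_add n))

lemma θX_hom (M : C₁) (n : ℤ) :
    (θX T L M n).hom = (T.map (singleObjXSelf (ComplexShape.up ℤ) 0 M).inv).app (L.X n) ≫
      ιMapBifunctor ((HomologicalComplex.single C₁ (ComplexShape.up ℤ) 0).obj M) L T
        (ComplexShape.up ℤ) 0 n n (zero_add n) := rfl

/-- `T(M, L) ≅ Tot(T(M[0], L))` -/
noncomputable def θ (M : C₁) :
    (G T L).obj M ≅
      mapBifunctor ((HomologicalComplex.single C₁ (ComplexShape.up ℤ) 0).obj M) L T
        (ComplexShape.up ℤ) :=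
  HomologicalComplex.Hom.isoOfComponents (θX T L M) (by
    rintro n n' (hn : n + 1 = n')
    rw [θX_hom, θX_hom]
    exact (Category.assoc _ _ _).trans
      ((congrArg ((T.map (singleObjXSelf (ComplexShape.up ℤ) 0 M).inv).app (L.X n) ≫ ·)
        (ι_d T _ L (isZero_single_X M) n n' hn)).trans
      ((Category.assoc _ _ _).symm.trans
      ((congrArg (· ≫ ιMapBifunctor ((HomologicalComplex.single C₁ (ComplexShape.up ℤ) 0).obj M)
          L T (ComplexShape.up ℤ) 0 n' n' (zero_add n'))
        ((T.map (singleObjXSelf (ComplexShape.up ℤ) 0 M).inv).naturality (L.d n n')).symm).trans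
      (Category.assoc _ _ _)))))

lemma θ_hom_f (M : C₁) (n : ℤ) : (θ T L M).hom.f n = (θX T L M n).hom := rfl

/-- the natural isomorphism `T(-, L) ≅ Tot(T((-)[0], L))` -/
noncomputable def Θ :
    G T L ≅ HomologicalComplex.single C₁ (ComplexShape.up ℤ) 0 ⋙
      (T.map₂CochainComplex).flip.obj L :=
  NatIso.ofComponents (θ T L) (by
    intro M M' f
    ext n
    change (T.map f).app (L.X n) ≫ (θ T L M').hom.f n = (θ T L M).hom.f n ≫ (mapBifunctorMap
        ((HomologicalComplex.single C₁ (ComplexShape.up ℤ) 0).map f) (𝟙 L) T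
          (ComplexShape.up ℤ)).f n
    rw [θ_hom_f, θ_hom_f, θX_hom, θX_hom]
    have h1 : ιMapBifunctor ((HomologicalComplex.single C₁ (ComplexShape.up ℤ) 0).obj M) L T
          (ComplexShape.up ℤ) 0 n n (zero_add n) ≫ (mapBifunctorMap
        ((HomologicalComplex.single C₁ (ComplexShape.up ℤ) 0).map f) (𝟙 L) T
          (ComplexShape.up ℤ)).f n =
        (T.map (((HomologicalComplex.single C₁ (ComplexShape.up ℤ) 0).map f).f 0)).app (L.X n) ≫
          ιMapBifunctor ((HomologicalComplex.single C₁ (ComplexShape.up ℤ) 0).obj M') L T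
            (ComplexShape.up ℤ) 0 n n (zero_add n) := by
      rw [ι_mapBifunctorMap, HomologicalComplex.id_f, CategoryTheory.Functor.map_id, Category.id_comp]
    have h2 : (T.map f).app (L.X n) ≫
        (T.map (singleObjXSelf (ComplexShape.up ℤ) 0 M').inv).app (L.X n) =
        (T.map (singleObjXSelf (ComplexShape.up ℤ) 0 M).inv).app (L.X n) ≫
        (T.map (((HomologicalComplex.single C₁ (ComplexShape.up ℤ) 0).map f).f 0)).app (L.X n) := by
      rw [← NatTrans.comp_app, ← NatTrans.comp_app, ← T.map_comp, ← T.map_comp,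
        HomologicalComplex.single_map_f_self]
      congr 2
      simp
    exact (Category.assoc _ _ _).symm.trans ((congrArg (· ≫ _) h2).trans
      ((Category.assoc _ _ _).trans ((congrArg (_ ≫ ·) h1.symm).trans
        (Category.assoc _ _ _).symm))))

end Functor

end Groth.Agent.Lib.Helper94.TensorSingleLeft
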