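import Groth.Agent.Lib.Helper94.FlatResScheme
import Groth.Agent.Lib.Helper94.JShriekFlat
import Mathlib.Algebra.Homology.Embedding.CochainComplex

/-!
# Tor-amplitude in `[a, b]` gives a flat representative in `[a, b]` (helper94)

Namespace `Groth.Agent.Lib.Helper94.TorAmpFlatRep`.
-/

universe u

open CategoryTheory CategoryTheory.Limits HomologicalComplex CochainComplex AlgebraicGeometry

attribute [local instance] HasDerivedCategory.standard

namespace Groth.Agent.Lib.Helper94.TorAmpFlatRep

open Groth.Agent.Lib.Helper94.KFlatDerScheme Groth.Agent.Lib.Helper94.ResolvingCx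
  Groth.Agent.Lib.Helper94.FlatResScheme

variable {X : Scheme.{u}}

/-- `- ⊗ O_X` is the identity -/
noncomputable def tensorRightModUnitIso :
    DCoh.tensorRightMod (Coh.structureModule X) ≅ 𝟭 X.Modules :=
  tensorRightModIsoTensR (Coh.structureModule X) ≪≫
    Groth.Agent.Lib.Helper94.JShriek.tensRUnitIso (J := Opens.grothendieckTopology X) X.sheaf

/-- `E ⊗ O_X ≅ E` for complexes -/
noncomputable def tensorCxModUnitIso (P : CochainComplex X.Modules ℤ) :
    tensorCxMod P (Coh.structureModule X) ≅ P :=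
  (NatIso.mapHomologicalComplex tensorRightModUnitIso (ComplexShape.up ℤ)).app P ≪≫
    (Functor.mapHomologicalComplexIdIso X.Modules (ComplexShape.up ℤ)).app P

/-- every object of `D(O_X)` is represented by a K-flat complex -/
theorem exists_kf_rep (E : DCoh.D X) :
    ∃ P : CochainComplex X.Modules ℤ, KF P ∧ Nonempty (DCoh.toD X P ≅ E) := by
  obtain ⟨P, r, hP, hr⟩ := (isResolving_KF (X := X)).res (DerivedCategory.Q.objPreimage E)
  haveI : IsIso (DerivedCategory.Q.map r) :=
    (DerivedCategory.isIso_Q_map_iff_quasiIso X.Modules r).2 hr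
  exact ⟨P, hP, ⟨asIso (DerivedCategory.Q.map r) ≪≫ DerivedCategory.Q.objObjPreimageIso E⟩⟩

/-- `E ⊗^L O_X ≅ E` -/
theorem nonempty_lTensorUnitIso [DCoh.HasLTensorMod (Coh.structureModule X)] (E : DCoh.D X) :
    Nonempty ((DCoh.LTensorMod (Coh.structureModule X)).obj E ≅ E) := by
  obtain ⟨P, hP, ⟨e⟩⟩ := exists_kf_rep E
  exact ⟨(DCoh.LTensorMod (Coh.structureModule X)).mapIso e.symm ≪≫
    lTensorModObjIso (Coh.structureModule X) P hP ≪≫
    DerivedCategory.Q.mapIso (tensorCxModUnitIso P) ≪≫ e⟩

/-- tor-amplitude in `[a, b]` implies cohomological amplitude in `[a, b]` -/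
theorem isZero_hd_of_torAmp (E : DCoh.D X) (a b : ℤ)
    [DCoh.HasLTensorMod (Coh.structureModule X)] (hE : DCoh.HasTorAmplitudeIn a b E) (i : ℤ)
    (hi : i < a ∨ b < i) : IsZero (DCoh.HD E i) := by
  obtain ⟨e⟩ := nonempty_lTensorUnitIso E
  exact IsZero.of_iso (hE (Coh.structureModule X) i hi)
    ((DerivedCategory.homologyFunctor X.Modules i).mapIso e.symm)

/-- exactness of a representative from the vanishing of the cohomology -/
theorem exactAt_of_isZero_hd (K : CochainComplex X.Modules ℤ) (E : DCoh.D X)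
    (e : DCoh.toD X K ≅ E) (i : ℤ) (h : IsZero (DCoh.HD E i)) : K.ExactAt i := by
  rw [exactAt_iff_isZero_homology]
  exact IsZero.of_iso h (((DerivedCategory.homologyFunctorFactors X.Modules i).app K).symm ≪≫
    (DerivedCategory.homologyFunctor X.Modules i).mapIso e)

/-- the cokernel of a differential is the object of opcycles -/
noncomputable def cokernelIsoOpcycles (E : CochainComplex X.Modules ℤ) (p q : ℤ)
    (hpq : p + 1 = q) : cokernel (E.d p q) ≅ E.opcycles q :=
  IsColimit.coconePointUniqueUpToIso (colimit.isColimit (parallelPair (E.d p q) 0))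
    (E.opcyclesIsCokernel p q (by simp [← hpq]))

/-- **tor-amplitude in `[a, b]` gives a flat representative vanishing outside `[a, b]`** -/
theorem hasFlatAmplitudeIn_of_hasTorAmplitudeIn (E : DCoh.D X) (a b : ℤ) (hab : a ≤ b)
    (hL : ∀ G : X.Modules, DCoh.HasLTensorMod G) (hE : DCoh.HasTorAmplitudeIn a b E) :
    DCoh.HasFlatAmplitudeIn a b E := by
  haveI := hL (Coh.structureModule X)
  have hH : ∀ i : ℤ, (i < a ∨ b < i) → IsZero (DCoh.HD E i) :=
    fun i hi => isZero_hd_of_torAmp E a b hE i hi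
  -- a representative
  let K := DerivedCategory.Q.objPreimage E
  let eK : DCoh.toD X K ≅ E := DerivedCategory.Q.objObjPreimageIso E
  haveI : K.IsLE b := (K.isLE_iff b).2 (fun i hi => exactAt_of_isZero_hd K E eK i (hH i (Or.inr hi)))
  -- truncate above and resolve
  obtain ⟨P, q, hq, hP0, hPflat⟩ := exists_bdd_flat_resolution (K.truncLE b) b
    (fun i hi => (K.truncLE b).isZero_of_isStrictlyLE b i hi)
  haveI : IsIso (DerivedCategory.Q.map q) :=
    (DerivedCategory.isIso_Q_map_iff_quasiIso X.Modules q).2 hq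
  haveI : IsIso (DerivedCategory.Q.map (K.ιTruncLE b)) :=
    (DerivedCategory.isIso_Q_map_iff_quasiIso X.Modules _).2 inferInstance
  let eP : DCoh.toD X P ≅ E :=
    asIso (DerivedCategory.Q.map q) ≪≫ asIso (DerivedCategory.Q.map (K.ιTruncLE b)) ≪≫ eK
  haveI : P.IsGE a := (P.isGE_iff a).2 (fun i hi => exactAt_of_isZero_hd P E eP i (hH i (Or.inl hi)))
  -- the cokernel is flat
  have hcok : FlatMod.IsFlat (cokernel (P.d (a - 1) a)) :=
    isFlat_cokernel_of_tor_vanishing P b hP0 hPflat hL (a - 1) a (by omega) (fun G _ =>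
      IsZero.of_iso (hE G (a - 1) (Or.inl (by omega)))
        ((DerivedCategory.homologyFunctor X.Modules (a - 1)).mapIso
          ((DCoh.LTensorMod G).mapIso eP)))
  haveI : IsIso (DerivedCategory.Q.map (P.πTruncGE a)) :=
    (DerivedCategory.isIso_Q_map_iff_quasiIso X.Modules _).2 inferInstance
  refine ⟨P.truncGE a, ?_, ?_, ⟨(asIso (DerivedCategory.Q.map (P.πTruncGE a))).symm ≪≫ eP⟩⟩
  · intro i hi
    rcases hi with hi | hi
    · exact (P.truncGE a).isZero_of_isStrictlyGE a i hi
    · exact IsZero.of_iso (hP0 i hi) (P.truncGEXIso a i (by omega))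
  · intro i
    rcases lt_trichotomy i a with h | h | h
    · exact isFlat_of_isZero _ ((P.truncGE a).isZero_of_isStrictlyGE a i h)
    · subst h
      exact isFlat_of_iso
        (cokernelIsoOpcycles P (i - 1) i (by omega) ≪≫ (P.truncGEXIsoOpcycles i).symm) hcok
    · exact isFlat_of_iso (P.truncGEXIso a i h).symm (hPflat i)

end Groth.Agent.Lib.Helper94.TorAmpFlatRep
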