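import Groth.Agent.Lib.Helper94.KFlatDerScheme
import Mathlib.Algebra.Homology.DerivedCategory.Fractions
import Mathlib.Algebra.Homology.DerivedCategory.HomologySequence

/-!
# Tor-vanishing along distinguished triangles in `D(O_X)` (helper94)

Namespace `Groth.Agent.Lib.Helper94.TorAmpTriangle`.
-/

universe u

open CategoryTheory CategoryTheory.Limits HomologicalComplex CochainComplex AlgebraicGeometry
  CategoryTheory.Pretriangulated

attribute [local instance] HasDerivedCategory.standard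

namespace Groth.Agent.Lib.Helper94.TorAmpTriangle

open Groth.Agent.Lib.Helper94.KFlatDerScheme Groth.Agent.Lib.Helper94.ResolvingCx

variable {X : Scheme.{u}}

/-- vanishing of the cohomology of a mapping cone -/
theorem isZero_homology_mappingCone {U V : CochainComplex X.Modules ℤ} (ψ : U ⟶ V) (i j : ℤ)
    (hij : i + 1 = j) (hV : IsZero (V.homology i)) (hU : IsZero (U.homology j)) :
    IsZero ((mappingCone ψ).homology i) := by
  let T := DerivedCategory.Q.mapTriangle.obj (mappingCone.triangle ψ)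
  have hT : T ∈ distTriang _ := DerivedCategory.mappingCone_triangle_distinguished ψ
  have hex := DerivedCategory.HomologySequence.exact₃ T hT i j hij
  have h2 : IsZero ((DerivedCategory.homologyFunctor X.Modules i).obj T.obj₂) :=
    IsZero.of_iso hV ((DerivedCategory.homologyFunctorFactors X.Modules i).app V)
  have h1 : IsZero ((DerivedCategory.homologyFunctor X.Modules j).obj T.obj₁) :=
    IsZero.of_iso hU ((DerivedCategory.homologyFunctorFactors X.Modules j).app U)
  have h3 := hex.isZero_X₂ (h2.eq_of_src _ _) (h1.eq_of_tgt _ _)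
  exact IsZero.of_iso h3
    ((DerivedCategory.homologyFunctorFactors X.Modules i).app (mappingCone ψ)).symm

/-- the cohomology of `E ⊗ F` vanishes where `E` vanishes -/
theorem isZero_homology_tensorCxMod (E : CochainComplex X.Modules ℤ) (F : X.Modules) (i : ℤ)
    (hi : IsZero (E.X i)) : IsZero ((tensorCxMod E F).homology i) := by
  rw [← exactAt_iff_isZero_homology]
  exact ExactAt.of_isZero ((DCoh.tensorRightMod F).map_isZero hi)

/-- **Tor-vanishing for the third vertex of a distinguished triangle** whose first two vertices are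
represented by K-flat complexes `EA`, `EB`: `H^i(C ⊗^L F) = 0` as soon as `EB^i = 0` and
`EA^{i+1} = 0`. -/
theorem isZero_hd_lTensorMod_obj₃ (T : Triangle (DCoh.D X)) (hT : T ∈ distTriang (DCoh.D X))
    (EA EB : CochainComplex X.Modules ℤ) (hA : KF EA) (hB : KF EB)
    (eA : DCoh.toD X EA ≅ T.obj₁) (eB : DCoh.toD X EB ≅ T.obj₂)
    (F : X.Modules) [DCoh.HasLTensorMod F] (i j : ℤ) (hij : i + 1 = j)
    (hBi : IsZero (EB.X i)) (hAj : IsZero (EA.X j)) :
    IsZero (DCoh.HD ((DCoh.LTensorMod F).obj T.obj₃) i) := by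
  let f : DerivedCategory.Q.obj EA ⟶ DerivedCategory.Q.obj EB := eA.hom ≫ T.mor₁ ≫ eB.inv
  obtain ⟨P', s, hs, g, hfac⟩ := DerivedCategory.right_fac f
  obtain ⟨P, r, hP, hr⟩ := (isResolving_KF (X := X)).res P'
  have hs' : QuasiIso s := (DerivedCategory.isIso_Q_map_iff_quasiIso X.Modules s).1 hs
  have hrs : QuasiIso (r ≫ s) := inferInstance
  haveI : IsIso (DerivedCategory.Q.map r) := (DerivedCategory.isIso_Q_map_iff_quasiIso X.Modules r).2 hr
  haveI : IsIso (DerivedCategory.Q.map (r ≫ s)) :=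
    (DerivedCategory.isIso_Q_map_iff_quasiIso X.Modules (r ≫ s)).2 hrs
  have hfac' : f = inv (DerivedCategory.Q.map (r ≫ s)) ≫ DerivedCategory.Q.map (r ≫ g) := by
    rw [hfac, IsIso.eq_inv_comp, DerivedCategory.Q.map_comp r s, Category.assoc,
      IsIso.hom_inv_id_assoc, ← DerivedCategory.Q.map_comp]
  let T' := DerivedCategory.Q.mapTriangle.obj (mappingCone.triangle (r ≫ g))
  have hT' : T' ∈ distTriang _ := DerivedCategory.mappingCone_triangle_distinguished _
  let e₁ : T.obj₁ ≅ T'.obj₁ := eA.symm ≪≫ (asIso (DerivedCategory.Q.map (r ≫ s))).symm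
  let e₂ : T.obj₂ ≅ T'.obj₂ := eB.symm
  have comm : T.mor₁ ≫ e₂.hom = e₁.hom ≫ T'.mor₁ := by
    change T.mor₁ ≫ eB.inv = (eA.inv ≫ inv (DerivedCategory.Q.map (r ≫ s))) ≫
      DerivedCategory.Q.map (r ≫ g)
    rw [Category.assoc, ← hfac']
    change _ = eA.inv ≫ eA.hom ≫ T.mor₁ ≫ eB.inv
    rw [Iso.inv_hom_id_assoc]
  let eT : T ≅ T' := isoTriangleOfIso₁₂ T T' hT hT' e₁ e₂ comm
  let e₃ : T.obj₃ ≅ DCoh.toD X (mappingCone (r ≫ g)) := Triangle.π₃.mapIso eT
  have hC : KF (mappingCone (r ≫ g)) := (isResolving_KF (X := X)).cone _ hP hB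
  refine IsZero.of_iso ?_ ((DerivedCategory.homologyFunctor X.Modules i).mapIso
    ((DCoh.LTensorMod F).mapIso e₃) ≪≫ hdLTensorModIso F _ hC i)
  refine IsZero.of_iso ?_ ((HomologicalComplex.homologyFunctor _ _ i).mapIso
    (mappingCone.mapHomologicalComplexIso (r ≫ g) (DCoh.tensorRightMod F)))
  refine isZero_homology_mappingCone _ i j hij (isZero_homology_tensorCxMod EB F i hBi) ?_
  have hq := quasiIso_map_KF F (r ≫ s) hP hA hrs
  exact IsZero.of_iso (isZero_homology_tensorCxMod EA F j hAj)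
    (asIso (homologyMap
      (((DCoh.tensorRightMod F).mapHomologicalComplex (ComplexShape.up ℤ)).map (r ≫ s)) j))

/-- K-flatness of a flat representative -/
theorem kf_of_vanishesOutside (E : CochainComplex X.Modules ℤ) (a b : ℤ)
    (hv : DCoh.VanishesOutside E a b) (hflat : ∀ i : ℤ, FlatMod.IsFlat (E.X i)) : KF E :=
  kf_of_bounded_above_flat E b (fun n hn => hv n (Or.inr hn)) hflat

/-- Tor-vanishing for the third vertex in terms of flat amplitudes of the first two -/
theorem isZero_hd_lTensorMod_of_flatAmp (T : Triangle (DCoh.D X)) (hT : T ∈ distTriang (DCoh.D X))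
    (a₁ b₁ a₂ b₂ : ℤ) (h1 : DCoh.HasFlatAmplitudeIn a₁ b₁ T.obj₁)
    (h2 : DCoh.HasFlatAmplitudeIn a₂ b₂ T.obj₂) (F : X.Modules) [DCoh.HasLTensorMod F] (i : ℤ)
    (hi2 : i < a₂ ∨ b₂ < i) (hi1 : i + 1 < a₁ ∨ b₁ < i + 1) :
    IsZero (DCoh.HD ((DCoh.LTensorMod F).obj T.obj₃) i) := by
  obtain ⟨EA, vA, fA, ⟨eA⟩⟩ := h1
  obtain ⟨EB, vB, fB, ⟨eB⟩⟩ := h2
  exact isZero_hd_lTensorMod_obj₃ T hT EA EB (kf_of_vanishesOutside EA a₁ b₁ vA fA)
    (kf_of_vanishesOutside EB a₂ b₂ vB fB) eA eB F i (i + 1) rfl (vB i hi2) (vA (i + 1) hi1)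

/-- flat amplitude of a shift by `-1` -/
theorem hasFlatAmplitudeIn_shift_neg_one (K : DCoh.D X) (a b : ℤ)
    (h : DCoh.HasFlatAmplitudeIn a b K) :
    DCoh.HasFlatAmplitudeIn (a + 1) (b + 1) (K⟦(-1 : ℤ)⟧) := by
  obtain ⟨E, v, fl, ⟨e⟩⟩ := h
  refine ⟨E⟦(-1 : ℤ)⟧, fun i hi => ?_, fun i => ?_, ⟨?_⟩⟩
  · exact v (i + (-1)) (by omega)
  · exact fl (i + (-1))
  · exact (DerivedCategory.Q.commShiftIso (-1 : ℤ)).app E ≪≫
      (CategoryTheory.shiftFunctor (DCoh.D X) (-1 : ℤ)).mapIso e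

end Groth.Agent.Lib.Helper94.TorAmpTriangle
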