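import Groth.Agent.Lib.Helper94.ModAssoc
import Groth.Agent.Lib.Helper94.KFlatSite
import Mathlib.Algebra.Homology.BifunctorAssociator

/-!
# Associativity of the total tensor product of complexes of modules on a ringed site (helper94)

Namespace `Groth.Agent.Lib.Helper94.TotAssoc`.
-/

universe u
open CategoryTheory CategoryTheory.Limits HomologicalComplex

namespace Groth.Agent.Lib.Helper94.TotAssoc

open ModSite Groth.Agent.Lib.Helper94.ModTensor Groth.Agent.Lib.Helper94.ModAssoc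
  Groth.Agent.Lib.Helper94.KFlatSite

variable {C : Type u} [SmallCategory C] {J : GrothendieckTopology C} (O : Sheaf J CommRingCat.{u})

variable (K₁ K₂ K₃ : CochainComplex (Mod O) ℤ)

instance good₁₂ : HasGoodTrifunctor₁₂Obj (tensorBi O) (tensorBi O) K₁ K₂ K₃
    (ComplexShape.up ℤ) (ComplexShape.up ℤ) := fun i₁₂ i₃ => by
  haveI : PreservesColimitsOfSize.{0, 0} ((tensorBi O).flip.obj (K₃.X i₃)) :=
    preservesColimitsOfSize_shrink.{0, u, 0, u} (tensR O (K₃.X i₃))
  infer_instance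

instance good₂₃ : HasGoodTrifunctor₂₃Obj (tensorBi O) (tensorBi O) K₁ K₂ K₃
    (ComplexShape.up ℤ) (ComplexShape.up ℤ) (ComplexShape.up ℤ) := fun i₁ i₂₃ => by
  infer_instance

/-- `Tot(Tot(K₁ ⊗ K₂) ⊗ K₃) ≅ Tot(K₁ ⊗ Tot(K₂ ⊗ K₃))` -/
noncomputable def totAssoc :
    ((tensorCx O).obj (((tensorCx O).obj K₁).obj K₂)).obj K₃ ≅
      ((tensorCx O).obj K₁).obj (((tensorCx O).obj K₂).obj K₃) :=
  mapBifunctorAssociator (associator O) K₁ K₂ K₃ (ComplexShape.up ℤ) (ComplexShape.up ℤ)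
    (ComplexShape.up ℤ)

end Groth.Agent.Lib.Helper94.TotAssoc
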