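import Groth.Agent.Lib.Helper94.TensorSingleLeft

/-!
# Total complexes and functors compatible with two bifunctors (helper94)

Namespace `Groth.Agent.Lib.Helper94.TotFunctor`.

Given bifunctors `T : C₁ ⥤ C₂ ⥤ D`, `T' : C₁' ⥤ C₂' ⥤ D'`, an additive functor `G : D ⥤ D'`
preserving coproducts indexed by types in `Type`, complexes `F, K` (for `T`) and `F', K'` (for `T'`)
and isomorphisms `θ p q : G (T (F^p) (K^q)) ≅ T' (F'^p) (K'^q)` compatible with the differentials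
of both variables, we get an isomorphism of complexes `G (Tot T(F, K)) ≅ Tot T'(F', K')` (`totIso`).
-/

open CategoryTheory CategoryTheory.Limits HomologicalComplex CochainComplex

namespace Groth.Agent.Lib.Helper94.TotFunctor

universe v₁ v₂ v₃ v₄ v₅ v₆ u₁ u₂ u₃ u₄ u₅ u₆

section General

variable {A₁ : Type u₁} [Category.{v₁} A₁] [Abelian A₁]
  {A₂ : Type u₂} [Category.{v₂} A₂] [Abelian A₂]
  {B : Type u₃} [Category.{v₃} B] [Abelian B]
  (S : A₁ ⥤ A₂ ⥤ B) [S.Additive] [∀ X, (S.obj X).Additive]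
  (K₁ : CochainComplex A₁ ℤ) (K₂ : CochainComplex A₂ ℤ)
  [HasMapBifunctor K₁ K₂ S (ComplexShape.up ℤ)]

lemma ι_d (p q n n' : ℤ) (hpq : p + q = n) (hn : n + 1 = n') :
    ιMapBifunctor K₁ K₂ S (ComplexShape.up ℤ) p q n hpq ≫
        (mapBifunctor K₁ K₂ S (ComplexShape.up ℤ)).d n n' =
      ComplexShape.ε₁ (ComplexShape.up ℤ) (ComplexShape.up ℤ) (ComplexShape.up ℤ) (p, q) •
        ((S.map (K₁.d p (p + 1))).app (K₂.X q) ≫
          ιMapBifunctor K₁ K₂ S (ComplexShape.up ℤ) (p + 1) q n'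
            (by change p + 1 + q = n'; omega)) +
      ComplexShape.ε₂ (ComplexShape.up ℤ) (ComplexShape.up ℤ) (ComplexShape.up ℤ) (p, q) •
        ((S.obj (K₁.X p)).map (K₂.d q (q + 1)) ≫
          ιMapBifunctor K₁ K₂ S (ComplexShape.up ℤ) p (q + 1) n'
            (by change p + (q + 1) = n'; omega)) := by
  rw [mapBifunctor.d_eq, Preadditive.comp_add, mapBifunctor.ι_D₁, mapBifunctor.ι_D₂,
    mapBifunctor.d₁_eq K₁ K₂ S (ComplexShape.up ℤ)
      (show (ComplexShape.up ℤ).Rel p (p + 1) from rfl) q n'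
      (by change p + 1 + q = n'; omega),
    mapBifunctor.d₂_eq K₁ K₂ S (ComplexShape.up ℤ) p
      (show (ComplexShape.up ℤ).Rel q (q + 1) from rfl) n'
      (by change p + (q + 1) = n'; omega)]

end General

variable {C₁ : Type u₁} [Category.{v₁} C₁] [Abelian C₁]
  {C₂ : Type u₂} [Category.{v₂} C₂] [Abelian C₂]
  {C₁' : Type u₃} [Category.{v₃} C₁'] [Abelian C₁']
  {C₂' : Type u₄} [Category.{v₄} C₂'] [Abelian C₂']
  {D : Type u₅} [Category.{v₅} D] [Abelian D]
  {D' : Type u₆} [Category.{v₆} D'] [Abelian D']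
  (T : C₁ ⥤ C₂ ⥤ D) [T.Additive] [∀ X, (T.obj X).Additive]
  (T' : C₁' ⥤ C₂' ⥤ D') [T'.Additive] [∀ X, (T'.obj X).Additive]
  (G : D ⥤ D') [G.Additive]
  [∀ (J : Type), PreservesColimitsOfShape (Discrete J) G]
  (F : CochainComplex C₁ ℤ) (K : CochainComplex C₂ ℤ)
  (F' : CochainComplex C₁' ℤ) (K' : CochainComplex C₂' ℤ)
  [HasMapBifunctor F K T (ComplexShape.up ℤ)]
  [HasMapBifunctor F' K' T' (ComplexShape.up ℤ)]
  (θ : ∀ (p q : ℤ), G.obj ((T.obj (F.X p)).obj (K.X q)) ≅ (T'.obj (F'.X p)).obj (K'.X q))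

/-- the comparison map in degree `n` -/
noncomputable def φX (n : ℤ) :
    (mapBifunctor F' K' T' (ComplexShape.up ℤ)).X n ⟶
      G.obj ((mapBifunctor F K T (ComplexShape.up ℤ)).X n) :=
  mapBifunctorDesc (K₁ := F') (K₂ := K') (F := T') (c := ComplexShape.up ℤ) (j := n)
    (fun p q h => (θ p q).inv ≫
      G.map (ιMapBifunctor F K T (ComplexShape.up ℤ) p q n h))

lemma ι_φX (p q n : ℤ) (h : p + q = n) :
    ιMapBifunctor F' K' T' (ComplexShape.up ℤ) p q n h ≫ φX T T' G F K F' K' θ n =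
      (θ p q).inv ≫ G.map (ιMapBifunctor F K T (ComplexShape.up ℤ) p q n h) := by
  unfold φX
  exact ι_mapBifunctorDesc _ _ _ _

/-- the image under `G` of the coproduct cofan is a colimit -/
noncomputable def isColimitG (n : ℤ) :=
  isColimitOfPreserves G (GradedObject.isColimitCofanMapObj
    ((((T.mapBifunctorHomologicalComplex (ComplexShape.up ℤ)
      (ComplexShape.up ℤ)).obj F).obj K).toGradedObject)
    (ComplexShape.π (ComplexShape.up ℤ) (ComplexShape.up ℤ) (ComplexShape.up ℤ)) n)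

/-- the inverse comparison map in degree `n` -/
noncomputable def ψX (n : ℤ) :
    G.obj ((mapBifunctor F K T (ComplexShape.up ℤ)).X n) ⟶
      (mapBifunctor F' K' T' (ComplexShape.up ℤ)).X n :=
  (isColimitG T G F K n).desc
    { pt := (mapBifunctor F' K' T' (ComplexShape.up ℤ)).X n
      ι := Discrete.natTrans (fun i =>
        (θ i.as.1.1 i.as.1.2).hom ≫
          ιMapBifunctor F' K' T' (ComplexShape.up ℤ) i.as.1.1 i.as.1.2 n i.as.2) }

lemma Gι_ψX (p q n : ℤ) (h : p + q = n) :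
    G.map (ιMapBifunctor F K T (ComplexShape.up ℤ) p q n h) ≫ ψX T T' G F K F' K' θ n =
    (θ p q).hom ≫ ιMapBifunctor F' K' T' (ComplexShape.up ℤ) p q n h :=
  (isColimitG T G F K n).fac _ ⟨⟨(p, q), h⟩⟩

lemma G_hom_ext {n : ℤ} {Y : D'}
    {f g : G.obj ((mapBifunctor F K T (ComplexShape.up ℤ)).X n) ⟶ Y}
    (h : ∀ (p q : ℤ) (hpq : p + q = n),
      G.map (ιMapBifunctor F K T (ComplexShape.up ℤ) p q n hpq) ≫ f =
        G.map (ιMapBifunctor F K T (ComplexShape.up ℤ) p q n hpq) ≫ g) : f = g :=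
  (isColimitG T G F K n).hom_ext (fun ⟨⟨(p, q), hpq⟩⟩ => h p q hpq)

lemma φX_ψX (n : ℤ) : φX T T' G F K F' K' θ n ≫ ψX T T' G F K F' K' θ n = 𝟙 _ := by
  refine mapBifunctor.hom_ext (K₁ := F') (K₂ := K') (F := T') (c := ComplexShape.up ℤ)
    (fun p q h => ?_)
  rw [← Category.assoc, ι_φX, Category.assoc, Gι_ψX, Iso.inv_hom_id_assoc, Category.comp_id]

lemma ψX_φX (n : ℤ) : ψX T T' G F K F' K' θ n ≫ φX T T' G F K F' K' θ n = 𝟙 _ := by
  refine G_hom_ext T G F K (fun p q h => ?_)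
  rw [← Category.assoc, Gι_ψX, Category.assoc, ι_φX, Iso.hom_inv_id_assoc, Category.comp_id]

variable (hθ₁ : ∀ (p q : ℤ),
    G.map ((T.map (F.d p (p + 1))).app (K.X q)) ≫ (θ (p + 1) q).hom =
      (θ p q).hom ≫ (T'.map (F'.d p (p + 1))).app (K'.X q))
  (hθ₂ : ∀ (p q : ℤ),
    G.map ((T.obj (F.X p)).map (K.d q (q + 1))) ≫ (θ p (q + 1)).hom =
      (θ p q).hom ≫ (T'.obj (F'.X p)).map (K'.d q (q + 1)))

include hθ₁ in
lemma hθ₁_inv (p q : ℤ) :
    (T'.map (F'.d p (p + 1))).app (K'.X q) ≫ (θ (p + 1) q).inv =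
      (θ p q).inv ≫ G.map ((T.map (F.d p (p + 1))).app (K.X q)) := by
  rw [Iso.comp_inv_eq, Category.assoc, hθ₁, Iso.inv_hom_id_assoc]

include hθ₂ in
lemma hθ₂_inv (p q : ℤ) :
    (T'.obj (F'.X p)).map (K'.d q (q + 1)) ≫ (θ p (q + 1)).inv =
      (θ p q).inv ≫ G.map ((T.obj (F.X p)).map (K.d q (q + 1))) := by
  rw [Iso.comp_inv_eq, Category.assoc, hθ₂, Iso.inv_hom_id_assoc]

include hθ₁ hθ₂ in
lemma φX_comm (n n' : ℤ) (hn : n + 1 = n') :
    φX T T' G F K F' K' θ n ≫ G.map ((mapBifunctor F K T (ComplexShape.up ℤ)).d n n') =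
      (mapBifunctor F' K' T' (ComplexShape.up ℤ)).d n n' ≫ φX T T' G F K F' K' θ n' := by
  refine mapBifunctor.hom_ext (K₁ := F') (K₂ := K') (F := T') (c := ComplexShape.up ℤ)
    (fun p q h => ?_)
  rw [← Category.assoc, ι_φX, Category.assoc, ← G.map_comp, ι_d T F K p q n n' h hn,
    ← Category.assoc, ι_d T' F' K' p q n n' h hn,
    Functor.map_add, Functor.map_units_smul, Functor.map_units_smul, Preadditive.comp_add,
    Preadditive.add_comp, Linear.units_smul_comp, Linear.units_smul_comp,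
    Linear.comp_units_smul, Linear.comp_units_smul, Functor.map_comp, Functor.map_comp,
    Category.assoc, Category.assoc, ι_φX, ι_φX,
    ← Category.assoc, ← hθ₁_inv T T' G F K F' K' θ hθ₁ p q, Category.assoc]
  congr 2
  rw [← Category.assoc, ← Category.assoc, ← hθ₂_inv T T' G F K F' K' θ hθ₂ p q]

/-- `G (Tot T(F, K)) ≅ Tot T'(F', K')` -/
noncomputable def totIso :
    (G.mapHomologicalComplex (ComplexShape.up ℤ)).obj (mapBifunctor F K T (ComplexShape.up ℤ)) ≅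
      mapBifunctor F' K' T' (ComplexShape.up ℤ) :=
  (HomologicalComplex.Hom.isoOfComponents
    (fun n => (⟨φX T T' G F K F' K' θ n, ψX T T' G F K F' K' θ n,
      φX_ψX T T' G F K F' K' θ n, ψX_φX T T' G F K F' K' θ n⟩ :
      (mapBifunctor F' K' T' (ComplexShape.up ℤ)).X n ≅
        ((G.mapHomologicalComplex (ComplexShape.up ℤ)).obj
          (mapBifunctor F K T (ComplexShape.up ℤ))).X n))
    (by
      rintro n n' (hn : n + 1 = n')
      exact φX_comm T T' G F K F' K' θ hθ₁ hθ₂ n n' hn)).symm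

end Groth.Agent.Lib.Helper94.TotFunctor
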